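import Cfsg.Agent.Helper2.BG147Defs
import Cfsg.Agent.Helper68.BG14R30
import Cfsg.Agent.S1354

/-!
CALL S1366 piece EQS (helper51): a prime-order `Q ≤ K` inside `L_σ` pins down `L`.
-/

set_option autoImplicit false

namespace Cfsg.Agent.Helper51

open Cfsg Subgroup
open Cfsg.Agent.Helper2

universe u

variable {G : Type u} [Group G] [Finite G]

/-- C5. A prime-order `Q ≤ K` inside `L_σ` pins down `L`. -/
theorem bg147_eq_of_le_sigma (hG : IsMinSimpleOddOrder G) (hcyc : Cyc51 G)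
    {M K L K₁ Q L' : Subgroup G} (hM : IsCoatom M) (hK : IsPiHallOf (kappa M) K M)
    (hK1 : K ≠ ⊥) (hp : BGPair M K L K₁) (hQK : Q ≤ K) (hQp : (Nat.card Q).Prime)
    (hQL : Q ≤ sigmaCore L) (hL' : IsCoatom L') (hN : centralizer (Q : Set G) ≤ L') :
    L' = L := by
  have hKc : IsCyclic K := hcyc M K hM hK
  have hK₁c : IsCyclic K₁ := hcyc L K₁ hp.coatom hp.hall
  have hks : sigmaCore M ⊓ centralizer (K : Set G) ≠ ⊥ :=
    (Cfsg.Agent.S1354.result hG M hM K hKc hK).1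
  have hK₁1 : K₁ ≠ ⊥ := fun h0 => hks (by rw [eq_bot_iff, ← h0]; exact hp.ks_le)
  obtain ⟨U₁, hKU₁⟩ := (Cfsg.Agent.S1352.result hG L hp.coatom K₁ hK₁c hp.hall).1
  have pkg := Cfsg.Agent.Helper23.bg14_pkg hG hp.coatom hKU₁ hK₁1
  have hZ : K ⊔ (sigmaCore M ⊓ centralizer (K : Set G)) ≤ centralizer (K : Set G) :=
    Cfsg.Agent.Helper68.bg14r_sup_le_cent (Cfsg.Agent.Helper68.bg14r_comm_of_cyclic hKc)
  have hQ : Q ≤ sigmaCore L ⊓ centralizer (K₁ : Set G) := by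
    refine le_inf hQL ?_
    intro q hq
    rw [mem_centralizer_iff]
    intro k hk
    exact ((mem_centralizer_iff.mp (hZ (hp.le_z hk))) q (hQK hq)).symm
  exact (pkg.2.2.2.2.2 Q hQ hQp).2 L' hL' hN

end Cfsg.Agent.Helper51
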