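import Cfsg.Agent.Helper2.BG147Defs
import Cfsg.Agent.Helper49.BG14U
import Cfsg.Agent.S1354

/-!
CALL S1366 piece NPR (helper51): if `K ∩ K₁ ≠ 1` then neither `|K|` nor `|K₁|` is a prime.
-/

set_option autoImplicit false

namespace Cfsg.Agent.Helper51

open Cfsg Subgroup
open Cfsg.Agent.Helper2

universe u

variable {G : Type u} [Group G] [Finite G]

/-- A group of prime order has no two nontrivial subgroups meeting trivially. -/
theorem bg147_not_prime_aux {K A B : Subgroup G} (hA : A ≤ K) (hB : B ≤ K) (hA1 : A ≠ ⊥)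
    (hB1 : B ≠ ⊥) (hAB : A ⊓ B = ⊥) : ¬ (Nat.card K).Prime := by
  intro hp
  have key : ∀ C : Subgroup G, C ≤ K → C ≠ ⊥ → C = K := by
    intro C hC hC1
    have hdvd : Nat.card C ∣ Nat.card K := Subgroup.card_dvd_of_le hC
    rcases (Nat.dvd_prime hp).mp hdvd with h1 | h1
    · exact absurd (Subgroup.card_eq_one.mp h1) hC1
    · exact Subgroup.eq_of_le_of_card_ge hC h1.ge
  have hAK := key A hA hA1
  have hBK := key B hB hB1
  rw [hAK, hBK, inf_idem] at hAB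
  rw [hAB] at hp
  simp at hp
  exact Nat.not_prime_one hp

/-- C2. If `K ∩ K₁ ≠ 1` then neither `|K|` nor `|K₁|` is a prime. -/
theorem bg147_not_prime (hG : IsMinSimpleOddOrder G) {M K L K₁ : Subgroup G} (hM : IsCoatom M)
    (hK : IsPiHallOf (kappa M) K M) (hKc : IsCyclic K) (hK1 : K ≠ ⊥) (hK₁c : IsCyclic K₁)
    (hp : BGPair M K L K₁) (h : K ⊓ K₁ ≠ ⊥) :
    ¬ (Nat.card K).Prime ∧ ¬ (Nat.card K₁).Prime := by
  have hks : sigmaCore M ⊓ centralizer (K : Set G) ≠ ⊥ :=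
    (Cfsg.Agent.S1354.result hG M hM K hKc hK).1
  have hks1 : sigmaCore L ⊓ centralizer (K₁ : Set G) ≠ ⊥ :=
    (Cfsg.Agent.S1354.result hG L hp.coatom K₁ hK₁c hp.hall).1
  have hd : K ⊓ sigmaCore M = ⊥ := Cfsg.Agent.Helper49.bg14u_kappa_inf_sigma hK.2.1
  have hd1 : K₁ ⊓ sigmaCore L = ⊥ := Cfsg.Agent.Helper49.bg14u_kappa_inf_sigma hp.hall.2.1
  constructor
  · refine bg147_not_prime_aux (A := K ⊓ K₁) (B := sigmaCore L ⊓ centralizer (K₁ : Set G))
      inf_le_left hp.ks1_le h hks1 ?_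
    rw [eq_bot_iff, ← hd1]
    intro x hx
    exact ⟨hx.1.2, hx.2.1⟩
  · refine bg147_not_prime_aux (A := K ⊓ K₁) (B := sigmaCore M ⊓ centralizer (K : Set G))
      inf_le_right hp.ks_le h hks ?_
    rw [eq_bot_iff, ← hd]
    intro x hx
    exact ⟨hx.1.1, hx.2.1⟩

end Cfsg.Agent.Helper51
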