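import Cfsg.Agent.Helper2.BG147Defs
import Cfsg.Agent.Helper35.Coprime

/-!
CALL S1366 piece PART (helper51): a partner with `K ∩ K₁ = 1` is the partner of row S1366.
-/

set_option autoImplicit false

namespace Cfsg.Agent.Helper51

open Cfsg Subgroup
open Cfsg.Agent.Helper2

universe u

variable {G : Type u} [Group G] [Finite G]

/-- Product decomposition in the join of two elementwise commuting subgroups. -/
theorem bg147_exists_mul_of_cent {A B : Subgroup G} (hB : B ≤ centralizer (A : Set G)) {l : G}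
    (hl : l ∈ A ⊔ B) : ∃ a ∈ A, ∃ b ∈ B, l = a * b := by
  refine Cfsg.Agent.Helper35.exists_mul_of_mem_sup_of_le_normalizer (N := A) (A := B) ?_ hl
  intro b hb
  have hb' := mem_centralizer_iff.mp (hB hb)
  rw [mem_normalizer_iff]
  intro x
  constructor
  · intro hx
    have : b * x * b⁻¹ = x := by rw [← hb' x hx]; group
    rw [this]; exact hx
  · intro hx
    have h1 : b⁻¹ * (b * x * b⁻¹) * b = x := by group
    have h2 := hb' _ hx
    have h3 : x = b * x * b⁻¹ := by
      have : b * x * b⁻¹ * b = b * (b * x * b⁻¹) := h2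
      calc x = b⁻¹ * (b * x * b⁻¹ * b) := by group
        _ = b⁻¹ * (b * (b * x * b⁻¹)) := by rw [this]
        _ = b * x * b⁻¹ := by group
    rw [h3]; exact hx

/-- C1. A partner with `K ∩ K₁ = 1` is the partner of row S1366. -/
theorem bg147_partner (hG : IsMinSimpleOddOrder G) {M K L K₁ : Subgroup G} (hM : IsCoatom M)
    (hK : IsPiHallOf (kappa M) K M) (hKc : IsCyclic K) (hp : BGPair M K L K₁)
    (h : K ⊓ K₁ = ⊥) :
    K = sigmaCore L ⊓ centralizer ((sigmaCore M ⊓ centralizer (K : Set G) : Subgroup G) : Set G) ∧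
      IsPiHallOf (kappa L) (sigmaCore M ⊓ centralizer (K : Set G)) L := by
  have hK₁ : K₁ = sigmaCore M ⊓ centralizer (K : Set G) := by
    refine le_antisymm ?_ hp.ks_le
    intro k hk
    obtain ⟨a, ha, b, hb, rfl⟩ := bg147_exists_mul_of_cent inf_le_right (hp.le_z hk)
    have ha1 : a ∈ K ⊓ K₁ := by
      refine ⟨ha, ?_⟩
      have e : a = a * b * b⁻¹ := by group
      rw [e]; exact K₁.mul_mem hk (K₁.inv_mem (hp.ks_le hb))
    rw [h, mem_bot] at ha1
    rw [ha1, one_mul]; exact hb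
  refine ⟨?_, hK₁ ▸ hp.hall⟩
  rw [← hK₁]
  refine le_antisymm ?_ hp.ks1_le
  intro k hk
  have hk' : k ∈ K₁ ⊔ (sigmaCore L ⊓ centralizer (K₁ : Set G)) := by
    rw [hp.sup_eq]; exact (le_sup_left : K ≤ K ⊔ _) hk
  obtain ⟨b, hb, c, hc, rfl⟩ := bg147_exists_mul_of_cent inf_le_right hk'
  have hb1 : b ∈ K ⊓ K₁ := by
    refine ⟨?_, hb⟩
    have e : b = b * c * c⁻¹ := by group
    rw [e]; exact K.mul_mem hk (K.inv_mem (hp.ks1_le hc))
  rw [h, mem_bot] at hb1
  rw [hb1, one_mul]; exact hc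

end Cfsg.Agent.Helper51
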