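import Mathlib
import Cfsg.Agent.Helper51.QdControl

/-!
# Control of strong fusion in `Qd(p)`-free groups: the non-constrained case and the theorem

See `Helper51/QdControl.lean` for the plan. `qd_ctl` is the final statement.
-/

set_option autoImplicit false

namespace Cfsg.Agent.Helper51

open Cfsg Cfsg.Agent.Helper11

universe u

section QdControl2

variable {p : ℕ} {Pr : ∀ (Γ : Type u) [Group Γ], Subgroup Γ → Prop}

theorem qd_case_nonconstrained (hF : ZJFam p Pr) [Fact p.Prime] {G : Type u} [Group G]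
    [Finite G]
    (IH : ∀ (G' : Type u) [Group G'] [Finite G'], Nat.card G' < Nat.card G → QdCtlStmt p Pr G')
    (hqd : ¬ Helper33.IsSectionOf G ↥(Cfsg.qd p))
    (P : Sylow p G) (D : Subgroup G) (hD : IsStronglyClosed D (P : Subgroup G))
    (hOp' : ∀ M : Subgroup G, M.Normal → (Nat.card M).Coprime p → M = ⊥)
    (hQne : pCore p G ≠ ⊥)
    (hnc : ¬ Subgroup.centralizer (pCore p G : Set G) ≤ pCore p G) :
    CtlIn (Subgroup.normalizer ((sInf (maxFamily (Pr G) D) : Subgroup G) : Set G))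
      (P : Subgroup G) := by
  classical
  have hp : p.Prime := Fact.out
  have hOp : ∀ X : Subgroup G, X.Normal → IsPGroup p X → X ≤ pCore p G := by
    intro X hXn hXp
    haveI := hXn
    exact le_pCore X hXp
  obtain ⟨Q, hQ⟩ : ∃ Q, Q = pCore p G := ⟨_, rfl⟩
  rw [← hQ] at hQne hnc hOp
  have hQn : Q.Normal := by rw [hQ]; exact pCore_normal p G
  have hQp : IsPGroup p Q := by rw [hQ]; exact pCore_isPGroup p G
  have hQP : Q ≤ (P : Subgroup G) := by rw [hQ]; exact pCore_le_sylow P
  have hCn : (Subgroup.centralizer (Q : Set G)).Normal := inferInstance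
  -- an element of `C_P(Q)` outside `Q`
  have hex : ∃ y ∈ (P : Subgroup G) ⊓ Subgroup.centralizer (Q : Set G), y ∉ Q := by
    by_contra hcon
    push_neg at hcon
    apply hnc
    apply hOp _ hCn
    apply Helper19.isPGroup_of_forall_coprime_eq_one
    intro x hxC hxo
    have hL : ∀ y ∈ Subgroup.centralizer (Q : Set G), ∀ k : ℕ, y ^ p ^ k = 1 →
        ∀ c ∈ Subgroup.centralizer (Q : Set G), c * y = y * c := by
      intro y hy k hk c hc
      have hyp : IsPGroup p (Subgroup.zpowers y) := by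
        rintro ⟨w, hw⟩
        obtain ⟨n, rfl⟩ := Subgroup.mem_zpowers_iff.mp hw
        refine ⟨k, Subtype.ext ?_⟩
        simp only [Subgroup.coe_pow, Subgroup.coe_one]
        rw [← zpow_natCast (y ^ n) (p ^ k), ← zpow_mul, mul_comm, zpow_mul, zpow_natCast, hk,
          one_zpow]
      obtain ⟨x₀, hx₀⟩ := Helper33.exists_cj_le_sylow P hyp
      have h1 : x₀ * y * x₀⁻¹ ∈ (P : Subgroup G) := hx₀ ⟨y, Subgroup.mem_zpowers y, rfl⟩
      have h2 : x₀ * y * x₀⁻¹ ∈ Subgroup.centralizer (Q : Set G) := hCn.conj_mem y hy x₀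
      have h3 : x₀ * y * x₀⁻¹ ∈ Q := hcon _ ⟨h1, h2⟩
      have h4 : y ∈ Q := by
        have h5 := hQn.conj_mem _ h3 x₀⁻¹
        have e : x₀⁻¹ * (x₀ * y * x₀⁻¹) * x₀⁻¹⁻¹ = y := by group
        rwa [e] at h5
      exact (Subgroup.mem_centralizer_iff.mp hc y h4).symm
    obtain ⟨L₀, -, hL₀cop, hL₀mem⟩ := Helper33.exists_p'_subgroup _ hL
    have hL₀n : L₀.Normal := by
      constructor
      intro y hy g
      rw [hL₀mem] at hy ⊢
      refine ⟨hCn.conj_mem y hy.1 g, ?_⟩
      rw [Helper19.orderOf_conj_eq]; exact hy.2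
    have hL₀bot := hOp' L₀ hL₀n hL₀cop
    have h1 : x ∈ L₀ := (hL₀mem x).mpr ⟨hxC, hxo⟩
    rw [hL₀bot, Subgroup.mem_bot] at h1
    exact h1
  obtain ⟨y₀, hy₀, hy₀Q⟩ := hex
  have hLn : (Q ⊔ Subgroup.centralizer (Q : Set G)).Normal := inferInstance
  have hRne : Subgroup.normalizer ((((P : Subgroup G) ⊓
      (Q ⊔ Subgroup.centralizer (Q : Set G)) : Subgroup G)) : Set G) ≠ ⊤ := by
    intro h
    have hRn := Subgroup.normalizer_eq_top_iff.mp h
    have h1 := hOp _ hRn (P.isPGroup'.to_le inf_le_left)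
    exact hy₀Q (h1 ⟨hy₀.1, Subgroup.mem_sup_right hy₀.2⟩)
  by_cases hPC : (P : Subgroup G) ⊔ Subgroup.centralizer (Q : Set G) = ⊤
  · by_cases hDQ : D ≤ Q
    · -- `D` is normal in `G`
      have hDn : D.Normal := ⟨fun x hx g => hD.2 x hx g (hQP (hQn.conj_mem x (hDQ hx) g))⟩
      intro A hA g hg
      refine ⟨g, ?_, fun a _ => rfl⟩
      have h1 : Subgroup.normalizer ((sInf (maxFamily (Pr G) D) : Subgroup G) : Set G) = ⊤ := by
        apply top_le_iff.mp
        calc (⊤ : Subgroup G) = Subgroup.normalizer (D : Set G) :=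
              (Subgroup.normalizer_eq_top_iff.mpr hDn).symm
          _ ≤ _ := hF.zj_normalizer_le D
      rw [h1]
      trivial
    · -- control modulo `Q` by `N_G(R')`
      obtain ⟨R', hR'⟩ : ∃ R', R' = (sInf (maxFamily (Pr (G ⧸ Q))
          (D.map (QuotientGroup.mk' Q))) : Subgroup (G ⧸ Q)).comap (QuotientGroup.mk' Q) :=
        ⟨_, rfl⟩
      have hmod : ∀ (A : Set G), A ⊆ (P : Subgroup G) → ∀ g : G,
          (∀ a ∈ A, g * a * g⁻¹ ∈ (P : Subgroup G)) →
          ∃ m ∈ Subgroup.normalizer (R' : Set G),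
            ∀ a ∈ A, (m * a * m⁻¹)⁻¹ * (g * a * g⁻¹) ∈ Q := by
        intro A hA g hg
        rw [hR']
        exact qd_ih_quot hF IH hqd P D hD Q hQne hQP A hA g hg
      have hker : (QuotientGroup.mk' Q).ker = Q := QuotientGroup.ker_mk' Q
      have hsurj : Function.Surjective (QuotientGroup.mk' Q) := QuotientGroup.mk'_surjective Q
      have hDb : IsStronglyClosed (D.map (QuotientGroup.mk' Q))
          ((P : Subgroup G).map (QuotientGroup.mk' Q)) := isStronglyClosed_map_mk P D hD Q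
      have hWb_le : sInf (maxFamily (Pr (G ⧸ Q)) (D.map (QuotientGroup.mk' Q))) ≤
          (P : Subgroup G).map (QuotientGroup.mk' Q) := (hF.zj_le _).trans hDb.1
      have hR'P : R' ≤ (P : Subgroup G) := by
        rw [hR']
        have h4 := Subgroup.comap_mono (f := QuotientGroup.mk' Q) hWb_le
        rw [Subgroup.comap_map_eq, hker, sup_of_le_left hQP] at h4
        exact h4
      have hPR' : (P : Subgroup G) ≤ Subgroup.normalizer (R' : Set G) := by
        rw [hR', ← Subgroup.comap_normalizer_eq_of_surjective _ hsurj]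
        have h1 : (P : Subgroup G).map (QuotientGroup.mk' Q) ≤ Subgroup.normalizer
            ((sInf (maxFamily (Pr (G ⧸ Q)) (D.map (QuotientGroup.mk' Q))) :
              Subgroup (G ⧸ Q)) : Set (G ⧸ Q)) :=
          (le_normalizer_of_stronglyClosed _ _ hDb).trans (hF.zj_normalizer_le _)
        exact (Subgroup.le_comap_map _ _).trans (Subgroup.comap_mono h1)
      have hN'ne : Subgroup.normalizer (R' : Set G) ≠ ⊤ := by
        intro h
        have hRn := Subgroup.normalizer_eq_top_iff.mp h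
        have h1 : R' ≤ Q := hOp _ hRn (P.isPGroup'.to_le hR'P)
        have hDbne : D.map (QuotientGroup.mk' Q) ≠ ⊥ := by
          intro h'
          apply hDQ
          rw [Subgroup.map_eq_bot_iff, hker] at h'
          exact h'
        have hDbp : IsPGroup p (D.map (QuotientGroup.mk' Q) : Subgroup (G ⧸ Q)) :=
          (P.isPGroup'.to_le hD.1).map _
        apply hF.zj_ne_bot _ hDbp hDbne
        have h2 := Subgroup.map_comap_eq_self_of_surjective hsurj
          (sInf (maxFamily (Pr (G ⧸ Q)) (D.map (QuotientGroup.mk' Q))) : Subgroup (G ⧸ Q))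
        rw [← hR'] at h2
        rw [← h2, eq_bot_iff]
        calc R'.map (QuotientGroup.mk' Q) ≤ Q.map (QuotientGroup.mk' Q) := Subgroup.map_mono h1
          _ = ⊥ := (Subgroup.map_eq_bot_iff Q).mpr hker.ge
      have hctl : CtlIn (Subgroup.normalizer (R' : Set G)) (P : Subgroup G) :=
        ctlIn_of_mod_normal P Q hQP hPC _ hPR' hmod
      intro A hA g hg
      obtain ⟨n', hn', hn'A⟩ := hctl A hA g hg
      have hidx : ¬ p ∣ (P : Subgroup G).relIndex (Subgroup.normalizer (R' : Set G)) :=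
        Helper33.sylow_not_dvd_relIndex P hPR'
      obtain ⟨x, hx, hxA⟩ := qd_ih_sub hF IH hqd _ (P : Subgroup G) hN'ne hPR' P.isPGroup' hidx
        D hD A hA n' hn' (fun a ha => by rw [hn'A a ha]; exact hg a ha)
      exact ⟨x, hx.2, fun a ha => (hxA a ha).trans (hn'A a ha)⟩
  · -- split along `Q C`
    intro A hA g hg
    obtain ⟨e, he, n, hn, hgen, hnA⟩ := exists_mul_normalizer_of_normal P
      (Q ⊔ Subgroup.centralizer (Q : Set G)) A hA g hg
    have hPN₂ : (P : Subgroup G) ≤ Subgroup.normalizer ((((P : Subgroup G) ⊓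
        (Q ⊔ Subgroup.centralizer (Q : Set G)) : Subgroup G)) : Set G) := by
      intro s hs
      apply Subgroup.mem_normalizer_fintype
      intro t ht
      have ht' : t ∈ (P : Subgroup G) ⊓ (Q ⊔ Subgroup.centralizer (Q : Set G)) := ht
      exact Subgroup.mem_inf.mpr ⟨Subgroup.mul_mem _ (Subgroup.mul_mem _ hs ht'.1)
        (Subgroup.inv_mem _ hs), hLn.conj_mem t ht'.2 s⟩
    obtain ⟨x₂, hx₂, hx₂A⟩ := qd_ih_sub hF IH hqd _ (P : Subgroup G) hRne hPN₂ P.isPGroup'
      (Helper33.sylow_not_dvd_relIndex P hPN₂) D hD A hA n hn hnA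
    have hPM₁ : (P : Subgroup G) ≤ (P : Subgroup G) ⊔ Subgroup.centralizer (Q : Set G) :=
      le_sup_left
    have heM₁ : e ∈ (P : Subgroup G) ⊔ Subgroup.centralizer (Q : Set G) :=
      (sup_le (hQP.trans le_sup_left) le_sup_right) he
    obtain ⟨x₁, hx₁, hx₁A⟩ := qd_ih_sub hF IH hqd _ (P : Subgroup G) hPC hPM₁ P.isPGroup'
      (Helper33.sylow_not_dvd_relIndex P hPM₁) D hD ((fun a => n * a * n⁻¹) '' A)
      (by
        rintro _ ⟨a, ha, rfl⟩
        exact hnA a ha) e heM₁
      (by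
        rintro _ ⟨a, ha, rfl⟩
        have e1 : e * (n * a * n⁻¹) * e⁻¹ = g * a * g⁻¹ := by rw [hgen]; group
        rw [e1]
        exact hg a ha)
    refine ⟨x₁ * x₂, Subgroup.mul_mem _ hx₁.2 hx₂.2, fun a ha => ?_⟩
    have h1 := hx₂A a ha
    have h2 := hx₁A _ ⟨a, ha, rfl⟩
    calc x₁ * x₂ * a * (x₁ * x₂)⁻¹ = x₁ * (x₂ * a * x₂⁻¹) * x₁⁻¹ := by group
      _ = x₁ * (n * a * n⁻¹) * x₁⁻¹ := by rw [h1]
      _ = e * (n * a * n⁻¹) * e⁻¹ := h2
      _ = g * a * g⁻¹ := by rw [hgen]; group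

theorem qd_ctl_aux (hF : ZJFam p Pr) [Fact p.Prime] (hp2 : p ≠ 2) :
    ∀ n : ℕ, ∀ (G : Type u) [Group G] [Finite G], Nat.card G = n → QdCtlStmt p Pr G := by
  intro n
  induction n using Nat.strong_induction_on with
  | _ n ih =>
    intro G _ _ hcard hqd P D hD
    have IH : ∀ (G' : Type u) [Group G'] [Finite G'], Nat.card G' < Nat.card G →
        QdCtlStmt p Pr G' := fun G' _ _ h => ih _ (hcard ▸ h) G' rfl
    by_cases hOp' : ∀ M : Subgroup G, M.Normal → (Nat.card M).Coprime p → M = ⊥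
    · by_cases hQ : pCore p G = ⊥
      · apply qd_case_no_normal hF IH hqd P D hD
        intro T hTn hTp
        haveI := hTn
        have h1 := le_pCore T hTp
        rw [hQ] at h1
        exact le_bot_iff.mp h1
      · by_cases hc : Subgroup.centralizer (pCore p G : Set G) ≤ pCore p G
        · exact qd_case_constrained hF hp2 hqd P D hD hc
        · exact qd_case_nonconstrained hF IH hqd P D hD hOp' hQ hc
    · push_neg at hOp'
      obtain ⟨M, hMn, hMc, hMne⟩ := hOp'
      haveI := hMn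
      exact qd_ih_pquot hF IH hqd P D hD M hMne hMc

/-- **Control of strong fusion in `Qd(p)`-free groups** by the normalizer of the ZJ-type subgroup
of a strongly closed subgroup `D` (`p` odd). -/
theorem qd_ctl (hF : ZJFam p Pr) [Fact p.Prime] (hp2 : p ≠ 2) {G : Type u} [Group G] [Finite G]
    (hqd : ¬ Helper33.IsSectionOf G ↥(Cfsg.qd p))
    (P : Sylow p G) (D : Subgroup G) (hD : IsStronglyClosed D (P : Subgroup G)) :
    CtlIn (Subgroup.normalizer ((sInf (maxFamily (Pr G) D) : Subgroup G) : Set G))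
      (P : Subgroup G) :=
  qd_ctl_aux hF hp2 _ G rfl hqd P D hD

end QdControl2

end Cfsg.Agent.Helper51
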