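import Cfsg.Agent.Helper16.S3Core
import Cfsg.Agent.Helper79.Basic
import Cfsg.Agent.Helper3.Induced

set_option autoImplicit false

/-!
# PIECE IN of CALL S3805 (helper16): integrality of the sum of a character over `E` (helper51)
-/

namespace Cfsg.Agent.Helper51

open Cfsg Cfsg.Agent.Helper16 DihedralGroup
open scoped ComplexConjugate

/-- The sum of a character over a subgroup is a multiple of the order of the subgroup. -/
theorem s3in_char_sum {N' : Type*} [Group N'] [Fintype N'] {Y : N' → ℂ} (hY : IsCharacter N' Y)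
    (H : Subgroup N') (P : N' → Prop) [DecidablePred P] (hP : ∀ m, m ∈ H ↔ P m) :
    ∃ n : ℕ, ∑ m, (if P m then Y m else 0) = ((Finset.univ.filter P).card : ℂ) * n := by
  classical
  haveI : Fintype H := Fintype.ofFinite H
  obtain ⟨n, hn⟩ := Cfsg.Agent.Helper3.classInner_isCharacter_nat
    (Cfsg.Agent.Helper79.isCharacter_restrict hY H)
    (Cfsg.Agent.Helper79.isCharacter_one (G := H))
  refine ⟨n, ?_⟩
  have hn' : (Nat.card H : ℂ)⁻¹ * ∑ h : H, Y (h : N') * conj (1 : ℂ) = n := hn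
  have hsum : ∑ m, (if P m then Y m else 0) = ∑ h : H, Y (h : N') := by
    rw [← Finset.sum_filter]
    exact Finset.sum_subtype (Finset.univ.filter P) (fun m => by simp [hP]) Y
  have hcard : Nat.card H = (Finset.univ.filter P).card := by
    rw [Nat.card_eq_fintype_card]
    exact Fintype.card_of_subtype (Finset.univ.filter P) (fun m => by simp [hP])
  have hpos : (Nat.card H : ℂ) ≠ 0 := by exact_mod_cast Nat.card_pos.ne'
  simp only [map_one, mul_one] at hn'
  rw [hsum, ← hcard, ← hn']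
  field_simp

/-- The subgroup `D₃ × 1` of the model. -/
def s3inH2 : Subgroup NM where
  carrier := {m | m.2 = 1}
  mul_mem' := by
    intro a b ha hb
    show (a * b).2 = 1
    rw [Prod.snd_mul, show a.2 = 1 from ha, show b.2 = 1 from hb, one_mul]
  one_mem' := rfl
  inv_mem' := by
    intro a ha
    show (a⁻¹).2 = 1
    rw [Prod.snd_inv, show a.2 = 1 from ha, inv_one]

/-- The subgroup `D₃ × ⟨s⟩` of the model. -/
def s3inH4 : Subgroup NM where
  carrier := {m | m.2 = 1 ∨ m.2 = sr 0}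
  mul_mem' := by
    intro a b ha hb
    show (a * b).2 = 1 ∨ (a * b).2 = sr 0
    rw [Prod.snd_mul]
    rcases (show a.2 = 1 ∨ a.2 = sr 0 from ha) with h1 | h1 <;>
      rcases (show b.2 = 1 ∨ b.2 = sr 0 from hb) with h2 | h2 <;> rw [h1, h2] <;> decide
  one_mem' := Or.inl rfl
  inv_mem' := by
    intro a ha
    show (a⁻¹).2 = 1 ∨ (a⁻¹).2 = sr 0
    rw [Prod.snd_inv]
    rcases (show a.2 = 1 ∨ a.2 = sr 0 from ha) with h1 | h1 <;> rw [h1] <;> decide

theorem s3in_partition : ∀ b : DihedralGroup 3,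
    (if b ^ 2 ≠ 1 then (1 : ℕ) else 0) + (if b = 1 then 1 else 0) + (if b = sr 0 then 1 else 0) +
      (if b = sr 1 then 1 else 0) + (if b = sr 2 then 1 else 0) = 1 := by decide

theorem s3in_conj1 : ∀ b : DihedralGroup 3, (r 1 * b * (r 1)⁻¹ = sr 1 ↔ b = sr 0) := by decide

theorem s3in_conj2 : ∀ b : DihedralGroup 3, (r 2 * b * (r 2)⁻¹ = sr 2 ↔ b = sr 0) := by decide

theorem s3in_card2 : (Finset.univ.filter (fun m : NM => m.2 = 1)).card = 6 := by decide

theorem s3in_card4 : (Finset.univ.filter (fun m : NM => m.2 = 1 ∨ m.2 = sr 0)).card = 12 := by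
  decide

theorem s3in_card_all : (Finset.univ.filter (fun _ : NM => True)).card = 36 := by decide

theorem s3_sum_int {G : Type*} [Group G] [Finite G] (φ : NM →* G) {X : G → ℂ}
    (hX : IsCharacter G X) :
    ∃ k : ℤ, ∑ m ∈ Finset.univ.filter (fun m : NM => m.2 ^ 2 ≠ 1), X (φ m) = 12 * (k : ℂ) := by
  obtain ⟨Y, hYdef⟩ : ∃ Y : NM → ℂ, Y = fun m => X (φ m) := ⟨_, rfl⟩
  have hY : IsCharacter NM Y := by
    rw [hYdef]; exact Cfsg.Agent.Helper79.isCharacter_comp hX φ
  have hYm : ∀ m : NM, X (φ m) = Y m := fun m => by rw [hYdef]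
  have hcl : ∀ c m : NM, Y (c * m * c⁻¹) = Y m := fun c m =>
    Cfsg.Agent.Helper79.isCharacter_conj_eq hY m c
  obtain ⟨n3, h3⟩ := s3in_char_sum hY ⊤ (fun _ => True) (fun m => by simp)
  obtain ⟨n2, h2⟩ := s3in_char_sum hY s3inH2 (fun m => m.2 = 1) (fun m => Iff.rfl)
  obtain ⟨n4, h4⟩ := s3in_char_sum hY s3inH4 (fun m => m.2 = 1 ∨ m.2 = sr 0) (fun m => Iff.rfl)
  rw [s3in_card_all] at h3
  rw [s3in_card2] at h2
  rw [s3in_card4] at h4
  simp only [if_true] at h3
  -- the three sums over the cosets of reflections agree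
  have hB1 : ∑ m : NM, (if m.2 = sr 1 then Y m else 0) = ∑ m : NM, (if m.2 = sr 0 then Y m else 0) := by
    symm
    refine Fintype.sum_equiv (MulAut.conj ((1, r 1) : NM)).toEquiv _ _ (fun m => ?_)
    have e : ((MulAut.conj ((1, r 1) : NM)).toEquiv m) = ((1, r 1) : NM) * m * ((1, r 1) : NM)⁻¹ := rfl
    rw [e, hcl]
    have e2 : (((1, r 1) : NM) * m * ((1, r 1) : NM)⁻¹).2 = r 1 * m.2 * (r 1)⁻¹ := rfl
    rw [e2]
    by_cases hm : m.2 = sr 0
    · rw [if_pos hm, if_pos ((s3in_conj1 m.2).2 hm)]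
    · rw [if_neg hm, if_neg (fun h => hm ((s3in_conj1 m.2).1 h))]
  have hB2 : ∑ m : NM, (if m.2 = sr 2 then Y m else 0) = ∑ m : NM, (if m.2 = sr 0 then Y m else 0) := by
    symm
    refine Fintype.sum_equiv (MulAut.conj ((1, r 2) : NM)).toEquiv _ _ (fun m => ?_)
    have e : ((MulAut.conj ((1, r 2) : NM)).toEquiv m) = ((1, r 2) : NM) * m * ((1, r 2) : NM)⁻¹ := rfl
    rw [e, hcl]
    have e2 : (((1, r 2) : NM) * m * ((1, r 2) : NM)⁻¹).2 = r 2 * m.2 * (r 2)⁻¹ := rfl
    rw [e2]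
    by_cases hm : m.2 = sr 0
    · rw [if_pos hm, if_pos ((s3in_conj2 m.2).2 hm)]
    · rw [if_neg hm, if_neg (fun h => hm ((s3in_conj2 m.2).1 h))]
  -- `H4 = H2 ⊔ H2 s`
  have hA4 : ∑ m : NM, (if (m.2 = 1 ∨ m.2 = sr 0) then Y m else 0) =
      ∑ m : NM, (if m.2 = 1 then Y m else 0) + ∑ m : NM, (if m.2 = sr 0 then Y m else 0) := by
    rw [← Finset.sum_add_distrib]
    refine Finset.sum_congr rfl (fun m _ => ?_)
    by_cases h1 : m.2 = 1
    · have h0 : m.2 ≠ sr 0 := by rw [h1]; decide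
      rw [if_pos (Or.inl h1), if_pos h1, if_neg h0, add_zero]
    · by_cases h0 : m.2 = sr 0
      · rw [if_pos (Or.inr h0), if_neg h1, if_pos h0, zero_add]
      · rw [if_neg (fun h => h.elim h1 h0), if_neg h1, if_neg h0, add_zero]
  -- the partition of the model
  have hT : ∑ m : NM, Y m = ∑ m : NM, (if m.2 ^ 2 ≠ 1 then Y m else 0) +
      ∑ m : NM, (if m.2 = 1 then Y m else 0) + ∑ m : NM, (if m.2 = sr 0 then Y m else 0) +
      ∑ m : NM, (if m.2 = sr 1 then Y m else 0) + ∑ m : NM, (if m.2 = sr 2 then Y m else 0) := by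
    rw [← Finset.sum_add_distrib, ← Finset.sum_add_distrib, ← Finset.sum_add_distrib,
      ← Finset.sum_add_distrib]
    refine Finset.sum_congr rfl (fun m _ => ?_)
    have key := congrArg (fun n : ℕ => (n : ℂ) * Y m) (s3in_partition m.2)
    simp only [Nat.cast_add, Nat.cast_ite, Nat.cast_one, Nat.cast_zero, add_mul, ite_mul, one_mul,
      zero_mul] at key
    exact key.symm
  refine ⟨3 * (n3 : ℤ) - 3 * (n4 : ℤ) + (n2 : ℤ), ?_⟩
  rw [Finset.sum_filter]
  simp only [hYm]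
  push_cast at h3 h2 h4 ⊢
  linear_combination (-1 : ℂ) * hT + h3 - hB1 - hB2 + 3 * hA4 + 2 * h2 - 3 * h4

end Cfsg.Agent.Helper51
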