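import Mathlib
import Cfsg.Agent.Helper9.OrdTools

/-!
# PIECE A2b of CALL S0434 (helper51): the central involution of a nonabelian group of order 8
inside a group of order 7920.
-/

set_option autoImplicit false

namespace Cfsg.Agent.Helper51

variable {G : Type*} [Group G] [Finite G]

theorem o7920_center8 (hG : Nat.card G = 7920) (B : Subgroup G) (hB : Nat.card ↥B = 8)
    (hna : ∃ a ∈ B, ∃ b ∈ B, a * b ≠ b * a) :
    ∃ e : G, e ≠ 1 ∧ 16 ∣ Nat.card ↥(Subgroup.centralizer ({e} : Set G)) ∧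
      ∀ V : Subgroup G, V ≤ B → Nat.card ↥V = 4 → e ∈ V := by
  haveI : Fact (Nat.Prime 2) := ⟨Nat.prime_two⟩
  have hB2 : IsPGroup 2 ↥B := IsPGroup.of_card (n := 3) (by rw [hB]; norm_num)
  haveI : Nontrivial ↥B := by
    rw [← Finite.one_lt_card_iff_nontrivial, hB]
    norm_num
  haveI hZnt : Nontrivial (Subgroup.center ↥B) := hB2.center_nontrivial
  have hZdvd : Nat.card (Subgroup.center ↥B) ∣ 2 ^ 3 := by
    have h1 := Subgroup.card_subgroup_dvd_card (Subgroup.center ↥B)
    rw [hB] at h1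
    exact h1
  have hZ1 : Nat.card (Subgroup.center ↥B) ≠ 1 := by
    have h1 := Finite.one_lt_card (α := Subgroup.center ↥B)
    omega
  have hZ8 : Nat.card (Subgroup.center ↥B) ≠ 8 := by
    intro h
    have htop : Subgroup.center ↥B = ⊤ := Subgroup.eq_top_of_card_eq _ (by rw [h, hB])
    obtain ⟨a, ha, b, hb, hab⟩ := hna
    apply hab
    have h1 : (⟨a, ha⟩ : ↥B) ∈ Subgroup.center ↥B := htop ▸ Subgroup.mem_top _
    have h2 := Subgroup.mem_center_iff.1 h1 ⟨b, hb⟩
    exact (congrArg Subtype.val h2).symm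
  have hZ4 : Nat.card (Subgroup.center ↥B) ≠ 4 := by
    intro h
    have hq : Nat.card (↥B ⧸ Subgroup.center ↥B) = 2 := by
      have h1 := Subgroup.card_eq_card_quotient_mul_card_subgroup (Subgroup.center ↥B)
      rw [hB, h] at h1
      omega
    haveI : IsCyclic (↥B ⧸ Subgroup.center ↥B) := isCyclic_of_prime_card hq
    obtain ⟨a, ha, b, hb, hab⟩ := hna
    apply hab
    have h1 := MonoidHom.isMulCommutative_of_isCyclic_of_ker_le_center
      (QuotientGroup.mk' (Subgroup.center ↥B)) (by rw [QuotientGroup.ker_mk'])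
    exact congrArg Subtype.val (h1.is_comm.comm ⟨a, ha⟩ ⟨b, hb⟩)
  have hZ2 : Nat.card (Subgroup.center ↥B) = 2 := by
    obtain ⟨k, hk, hk2⟩ := (Nat.dvd_prime_pow Nat.prime_two).1 hZdvd
    rw [hk2] at hZ1 hZ4 hZ8 ⊢
    interval_cases k <;> simp_all
  obtain ⟨e', he', huniq⟩ := (Nat.card_eq_two_iff' (1 : Subgroup.center ↥B)).1 hZ2
  have heB : ((e' : ↥B) : G) ∈ B := e'.1.2
  have he1 : ((e' : ↥B) : G) ≠ 1 := by
    intro h
    apply he'
    apply Subtype.ext
    apply Subtype.ext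
    exact h
  have hecent : ∀ b ∈ B, b * ((e' : ↥B) : G) = ((e' : ↥B) : G) * b := by
    intro b hb
    exact congrArg Subtype.val (Subgroup.mem_center_iff.1 e'.2 ⟨b, hb⟩)
  have hZuniq : ∀ z ∈ B, (∀ b ∈ B, b * z = z * b) → z ≠ 1 → z = ((e' : ↥B) : G) := by
    intro z hz hc hz1
    have hzc : (⟨z, hz⟩ : ↥B) ∈ Subgroup.center ↥B :=
      Subgroup.mem_center_iff.2 (fun g => Subtype.ext (hc g.1 g.2))
    have h1 := huniq ⟨⟨z, hz⟩, hzc⟩ (by
      intro h
      apply hz1
      have h2 := congrArg (fun w : Subgroup.center ↥B => ((w : ↥B) : G)) h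
      exact h2)
    have h3 := congrArg (fun w : Subgroup.center ↥B => ((w : ↥B) : G)) h1
    exact h3
  obtain ⟨e, hee⟩ : ∃ e : G, e = ((e' : ↥B) : G) := ⟨_, rfl⟩
  rw [← hee] at heB he1 hecent hZuniq
  refine ⟨e, he1, ?_, ?_⟩
  · obtain ⟨T, hBT⟩ := hB2.exists_le_sylow
    have hT16 : Nat.card (T : Subgroup G) = 2 ^ 4 :=
      Cfsg.Agent.Helper9.OrdTools.sylow_card 4 495 (by rw [hG]; norm_num) (by norm_num) T
    have hTN : (T : Subgroup G) ≤ Subgroup.normalizer (B : Set G) :=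
      Cfsg.Agent.Helper9.OrdTools.le_normalizer_of_card_two_mul hBT (by rw [hT16, hB]; norm_num)
    have hTle : (T : Subgroup G) ≤ Subgroup.centralizer ({e} : Set G) := by
      intro t ht
      rw [Subgroup.mem_centralizer_iff]
      intro h hh
      rw [Set.mem_singleton_iff] at hh
      subst hh
      have hzB : t * h * t⁻¹ ∈ B := (Subgroup.mem_normalizer_iff.1 (hTN ht) h).1 heB
      have hzc : ∀ b ∈ B, b * (t * h * t⁻¹) = t * h * t⁻¹ * b := by
        intro b hb
        have hb' : t⁻¹ * b * t⁻¹⁻¹ ∈ B :=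
          (Subgroup.mem_normalizer_iff.1 (hTN (Subgroup.inv_mem _ ht)) b).1 hb
        rw [inv_inv] at hb'
        have hcomm := hecent _ hb'
        calc b * (t * h * t⁻¹) = t * ((t⁻¹ * b * t) * h) * t⁻¹ := by group
          _ = t * (h * (t⁻¹ * b * t)) * t⁻¹ := by rw [hcomm]
          _ = t * h * t⁻¹ * b := by group
      have hz1 : t * h * t⁻¹ ≠ 1 := by
        intro h0
        apply he1
        have h5 : h = t⁻¹ * (t * h * t⁻¹) * t := by group
        rw [h5, h0]
        group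
      have h6 := hZuniq _ hzB hzc hz1
      exact (mul_inv_eq_iff_eq_mul.1 h6).symm
    have h7 := Subgroup.card_dvd_of_le hTle
    rw [hT16] at h7
    exact h7
  · intro V hVB hV4
    by_contra heV
    have hVcomm : ∀ a ∈ V, ∀ b ∈ V, a * b = b * a := by
      intro a ha b hb
      have h1 := IsPGroup.isMulCommutative_of_card_eq_prime_sq (p := 2) (G := ↥V)
        (by rw [hV4]; norm_num)
      exact congrArg Subtype.val (h1.is_comm.comm ⟨a, ha⟩ ⟨b, hb⟩)
    obtain ⟨C, hC⟩ : ∃ C : Subgroup G, C = B ⊓ Subgroup.centralizer (V : Set G) := ⟨_, rfl⟩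
    have hCB : C ≤ B := hC ▸ inf_le_left
    have hVC : V ≤ C := by
      intro v hv
      rw [hC]
      exact Subgroup.mem_inf.2 ⟨hVB hv, Subgroup.mem_centralizer_iff.2
        (fun w hw => hVcomm w hw v hv)⟩
    have heC : e ∈ C := by
      rw [hC]
      exact Subgroup.mem_inf.2 ⟨heB, Subgroup.mem_centralizer_iff.2
        (fun w hw => hecent w (hVB hw))⟩
    have hC8 : Nat.card ↥C ∣ 8 := hB ▸ Subgroup.card_dvd_of_le hCB
    have hC4 : 4 ∣ Nat.card ↥C := hV4 ▸ Subgroup.card_dvd_of_le hVC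
    have hCne4 : Nat.card ↥C ≠ 4 := by
      intro h
      have h1 : V = C := Subgroup.eq_of_le_of_card_ge hVC (by rw [h, hV4])
      exact heV (h1 ▸ heC)
    have hCcard : Nat.card ↥C = 8 := by
      have hle : Nat.card ↥C ≤ 8 := Nat.le_of_dvd (by norm_num) hC8
      have hpos : 0 < Nat.card ↥C := Nat.card_pos
      obtain ⟨k, hk⟩ := hC4
      have hk2 : k = 1 ∨ k = 2 := by omega
      rcases hk2 with h | h
      · omega
      · omega
    have hCeq : C = B := Subgroup.eq_of_le_of_card_ge hCB (by rw [hCcard, hB])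
    obtain ⟨v, hv, hv1⟩ : ∃ v ∈ V, v ≠ 1 := by
      by_contra hcon
      push Not at hcon
      have hbot : V = ⊥ := (Subgroup.eq_bot_iff_forall _).2 hcon
      rw [hbot, Subgroup.card_bot] at hV4
      omega
    have hvc : ∀ b ∈ B, b * v = v * b := by
      intro b hb
      have hbC : b ∈ C := hCeq ▸ hb
      rw [hC] at hbC
      exact (Subgroup.mem_centralizer_iff.1 (Subgroup.mem_inf.1 hbC).2 v hv).symm
    have h8 := hZuniq v (hVB hv) hvc hv1
    exact heV (h8 ▸ hv)

end Cfsg.Agent.Helper51
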