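import Mathlib
import Cfsg.Agent.Helper52.O7920Defs
import Cfsg.Agent.Helper52.O7920Defs2

/-!
# PIECE A3a of CALL S0434 (helper51): the stabiliser of `e` in `N(D)` has order 24 (case A).
-/

set_option autoImplicit false

namespace Cfsg.Agent.Helper51

open Cfsg.Agent.Helper52

variable {G : Type*} [Group G] [Finite G]

/-- A subgroup `N` acting on `G` by conjugation: the stabiliser of `e` has index the number of
conjugates of `e` under `N`. -/
theorem conj_orbit_stabilizer (N : Subgroup G) (e : G) :
    Nat.card ↥(N ⊓ Subgroup.centralizer ({e} : Set G)) *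
      {x : G | ∃ n ∈ N, n * e * n⁻¹ = x}.ncard = Nat.card ↥N := by
  let act : MulAction ↥N G := MulAction.compHom G ((MulAut.conj : G →* MulAut G).comp N.subtype)
  have hsmul : ∀ (n : ↥N) (g : G), act.smul n g = (n : G) * g * (n : G)⁻¹ := fun n g => rfl
  have h1 := @MulAction.index_stabilizer ↥N G _ act e
  have h2 := Subgroup.card_mul_index (@MulAction.stabilizer ↥N G _ act e)
  have horb : @MulAction.orbit ↥N G act.toSMul e = {x : G | ∃ n ∈ N, n * e * n⁻¹ = x} := by
    ext x
    constructor
    · rintro ⟨n, rfl⟩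
      exact ⟨n.1, n.2, rfl⟩
    · rintro ⟨n, hn, rfl⟩
      exact ⟨⟨n, hn⟩, rfl⟩
  have hstab : Nat.card ↥(@MulAction.stabilizer ↥N G _ act e) =
      Nat.card ↥(N ⊓ Subgroup.centralizer ({e} : Set G)) := by
    have heq : @MulAction.stabilizer ↥N G _ act e =
        (Subgroup.centralizer ({e} : Set G)).subgroupOf N := by
      ext n
      rw [Subgroup.mem_subgroupOf, Subgroup.mem_centralizer_iff]
      constructor
      · intro h y hy
        rw [Set.mem_singleton_iff] at hy
        subst hy
        have h' : (n : G) * y * (n : G)⁻¹ = y := h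
        exact (mul_inv_eq_iff_eq_mul.1 h').symm
      · intro h
        have h' : (n : G) * e * (n : G)⁻¹ = e := mul_inv_eq_iff_eq_mul.2 (h e rfl).symm
        exact h'
    rw [heq, ← Subgroup.inf_subgroupOf_right,
      Nat.card_congr (Subgroup.subgroupOfEquivOfLe inf_le_right).toEquiv, inf_comm]
  rw [h1, horb, hstab] at h2
  exact h2

theorem o7920_A_stab {R : Sylow 3 G} {D : Subgroup G} {j : G} (c : O7920Conf2 G R D j)
    (h36 : Nat.card ↥(Subgroup.centralizer (D : Set G)) = 36)
    (V : Subgroup G) (hV : V ≤ Subgroup.centralizer (D : Set G)) (hV4 : Nat.card ↥V = 4)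
    (hVn : ∀ g ∈ Subgroup.normalizer (D : Set G), ∀ v ∈ V, g * v * g⁻¹ ∈ V)
    (hVR : ∀ v ∈ V, v ≠ 1 → ∃ r ∈ (R : Subgroup G), r * v * r⁻¹ ≠ v)
    (e : G) (he : e ∈ V) (he1 : e ≠ 1) :
    Nat.card ↥(Subgroup.normalizer (D : Set G) ⊓ Subgroup.centralizer ({e} : Set G)) = 24 := by
  classical
  obtain ⟨N, hN⟩ : ∃ N : Subgroup G, N = Subgroup.normalizer (D : Set G) := ⟨_, rfl⟩
  rw [← hN] at hVn ⊢
  have hN72 : Nat.card ↥N = 72 := by rw [hN, c.conf.nD, h36]
  have hRab := (c.syl3 R).2
  have hR9 := (c.syl3 R).1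
  have hRN : (R : Subgroup G) ≤ N := by
    intro r hr
    rw [hN]
    apply Subgroup.centralizer_le_normalizer
    rw [Subgroup.mem_centralizer_iff]
    intro d hd
    exact hRab d (c.conf.hDR hd) r hr
  obtain ⟨r, hr, hre⟩ := hVR e he he1
  have hr9 : r ^ 9 = 1 := by
    have h5 := pow_card_eq_one' (G := ↥(R : Subgroup G)) (x := ⟨r, hr⟩)
    rw [hR9] at h5
    exact congrArg Subtype.val h5
  have hkey := conj_orbit_stabilizer N e
  have horb : {x : G | ∃ n ∈ N, n * e * n⁻¹ = x}.ncard = 3 := by
    apply le_antisymm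
    · have hsub : {x : G | ∃ n ∈ N, n * e * n⁻¹ = x} ⊆ (V : Set G) \ {1} := by
        rintro _ ⟨n, hn, rfl⟩
        refine ⟨hVn n hn e he, ?_⟩
        rw [Set.mem_singleton_iff]
        intro h0
        apply he1
        have h5 : e = n⁻¹ * (n * e * n⁻¹) * n := by group
        rw [h5, h0]
        group
      have h3 := Set.ncard_le_ncard hsub (Set.toFinite _)
      have h4 : ((V : Set G) \ {1}).ncard = 3 := by
        rw [Set.ncard_sdiff_singleton_of_mem (V.one_mem), ← Nat.card_coe_set_eq]
        show Nat.card ↥V - 1 = 3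
        rw [hV4]
      omega
    · have hsub : ({e, r * e * r⁻¹, r * r * e * (r * r)⁻¹} : Set G) ⊆
          {x : G | ∃ n ∈ N, n * e * n⁻¹ = x} := by
        intro x hx
        rcases hx with rfl | rfl | rfl
        · exact ⟨1, N.one_mem, by group⟩
        · exact ⟨r, hRN hr, rfl⟩
        · exact ⟨r * r, N.mul_mem (hRN hr) (hRN hr), rfl⟩
      have h3 := Set.ncard_le_ncard hsub (Set.toFinite _)
      have h4 : ({e, r * e * r⁻¹, r * r * e * (r * r)⁻¹} : Set G).ncard = 3 := by
        rw [Set.ncard_eq_three]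
        refine ⟨e, r * e * r⁻¹, r * r * e * (r * r)⁻¹, ?_, ?_, ?_, rfl⟩
        · exact fun h => hre h.symm
        · intro h
          apply hre
          have hc : Commute (r * r) e := (eq_mul_inv_iff_mul_eq.1 h).symm
          have hc5 : Commute ((r * r) ^ 5) e := hc.pow_left 5
          have hr10 : (r * r) ^ 5 = r := by
            rw [← pow_two, ← pow_mul]
            calc r ^ (2 * 5) = r ^ 9 * r := by rw [← pow_succ]
              _ = r := by rw [hr9, one_mul]
          rw [hr10] at hc5
          exact mul_inv_eq_iff_eq_mul.2 hc5.eq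
        · intro h
          apply hre
          have h' : r * e * r⁻¹ = r * (r * e * r⁻¹) * r⁻¹ := by
            have h6 : r * r * e * (r * r)⁻¹ = r * (r * e * r⁻¹) * r⁻¹ := by group
            exact h.trans h6
          exact (mul_left_cancel (mul_right_cancel h')).symm
      omega
  rw [horb, hN72] at hkey
  omega

end Cfsg.Agent.Helper51
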