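import Mathlib
import Cfsg.Agent.Helper9.OrdTools
import Cfsg.Agent.Helper9.OrdTools2
import Cfsg.Agent.Helper52.O7920Defs
import Cfsg.Agent.Helper52.O7920Defs2

/-!
# PIECE A3b of CALL S0434 (helper51): the final contradiction of case A.
-/

set_option autoImplicit false

namespace Cfsg.Agent.Helper51

open Cfsg.Agent.Helper52

variable {G : Type*} [Group G] [Finite G]

theorem o7920_A_final {R : Sylow 3 G} {D : Subgroup G} {j : G} (c : O7920Conf2 G R D j)
    (hCR : Nat.card ↥(Subgroup.centralizer ((R : Subgroup G) : Set G)) = 9)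
    (e : G) (heD : e ∈ Subgroup.centralizer (D : Set G)) (he1 : e ≠ 1) (he4 : e ^ 4 = 1)
    (h16 : 16 ∣ Nat.card ↥(Subgroup.centralizer ({e} : Set G)))
    (h24 : Nat.card ↥(Subgroup.normalizer (D : Set G) ⊓
      Subgroup.centralizer ({e} : Set G)) = 24) : False := by
  haveI : Fact (Nat.Prime 3) := ⟨Nat.prime_three⟩
  obtain ⟨H, hH⟩ : ∃ H : Subgroup G, H = Subgroup.centralizer ({e} : Set G) := ⟨_, rfl⟩
  rw [← hH] at h16 h24
  have hHmem : ∀ x : G, x ∈ H ↔ e * x = x * e := by
    intro x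
    rw [hH, Subgroup.mem_centralizer_iff]
    constructor
    · intro h
      exact h e rfl
    · intro h y hy
      rw [Set.mem_singleton_iff] at hy
      rw [hy]
      exact h
  have hGcard : Nat.card G = 7920 := c.conf.hyp.card
  have hHdvd : Nat.card ↥H ∣ 7920 := hGcard ▸ Subgroup.card_subgroup_dvd_card H
  -- 9 does not divide |H|
  have h9 : ¬ 9 ∣ Nat.card ↥H := by
    intro h9
    obtain ⟨K, hK⟩ := Sylow.exists_subgroup_card_pow_prime (G := ↥H) 3 (n := 2)
      (by norm_num; exact h9)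
    have hK' : Nat.card ↥(K.map H.subtype) = 9 := by
      rw [Subgroup.card_map_of_injective H.subtype_injective, hK]
      norm_num
    have hKp : IsPGroup 3 ↥(K.map H.subtype) := IsPGroup.of_card (n := 2) (by rw [hK']; norm_num)
    obtain ⟨S, hS⟩ := hKp.exists_le_sylow
    have hSeq : K.map H.subtype = (S : Subgroup G) :=
      Subgroup.eq_of_le_of_card_ge hS (by rw [hK', (c.syl3 S).1])
    have heS : e ∈ Subgroup.centralizer ((S : Subgroup G) : Set G) := by
      rw [Subgroup.mem_centralizer_iff]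
      intro s hs
      have hs' : s ∈ K.map H.subtype := by rw [hSeq]; exact hs
      obtain ⟨k, -, rfl⟩ := hs'
      exact ((hHmem _).1 k.2).symm
    have hCS : Nat.card ↥(Subgroup.centralizer ((S : Subgroup G) : Set G)) = 9 := by
      rw [Cfsg.Agent.Helper9.OrdTools.card_centralizer_sylow_eq S R, hCR]
    have he9 : e ^ 9 = 1 := by
      have h5 := pow_card_eq_one' (G := ↥(Subgroup.centralizer ((S : Subgroup G) : Set G)))
        (x := ⟨e, heS⟩)
      rw [hCS] at h5
      exact congrArg Subtype.val h5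
    apply he1
    calc e = e ^ 9 * (e ^ 4)⁻¹ * (e ^ 4)⁻¹ := by group
      _ = 1 := by rw [he9, he4]; simp
  -- D ≤ H
  have hDH : D ≤ H := by
    intro d hd
    rw [hHmem]
    exact (Subgroup.mem_centralizer_iff.1 heD d hd).symm
  have h3 : 3 ∣ Nat.card ↥H := c.conf.hD ▸ Subgroup.card_dvd_of_le hDH
  have hord4 : orderOf e ∣ 4 := orderOf_dvd_of_pow_eq_one he4
  have hord_le : orderOf e ≤ 4 := Nat.le_of_dvd (by norm_num) hord4
  have h11 : ¬ 11 ∣ Nat.card ↥H := by
    rw [hH]
    exact c.l11 e he1 (by omega)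
  -- |H| = 48 or 240
  have hH48 : Nat.card ↥H = 48 ∨ Nat.card ↥H = 240 := by
    have h48 : 48 ∣ Nat.card ↥H :=
      Nat.Coprime.mul_dvd_of_dvd_of_dvd (by norm_num : Nat.Coprime 16 3) h16 h3
    obtain ⟨k, hk⟩ := h48
    rw [hk] at hHdvd h9 h11 ⊢
    have hk165 : k ∣ 165 := by
      have : 48 * k ∣ 48 * 165 := by norm_num; exact hHdvd
      exact (Nat.mul_dvd_mul_iff_left (by norm_num)).1 this
    have hkle : k ≤ 165 := Nat.le_of_dvd (by norm_num) hk165
    have hkpos : 0 < k := Nat.pos_of_dvd_of_pos hk165 (by norm_num)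
    interval_cases k <;> omega
  -- the Sylow 3-subgroup D of H and its normaliser
  have hDp : IsPGroup 3 ↥(D.subgroupOf H) := IsPGroup.of_card (n := 1) (by
    rw [Nat.card_congr (Subgroup.subgroupOfEquivOfLe hDH).toEquiv, c.conf.hD, pow_one])
  obtain ⟨P, hP⟩ := hDp.exists_le_sylow
  have hPcard : Nat.card ↥(P : Subgroup ↥H) = 3 := by
    obtain ⟨m, hm⟩ := (IsPGroup.iff_card).1 P.isPGroup'
    have hdvd : 3 ^ m ∣ Nat.card ↥H := hm ▸ Subgroup.card_subgroup_dvd_card (P : Subgroup ↥H)
    have hm1 : m ≤ 1 := by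
      by_contra hcon
      push Not at hcon
      exact h9 ((pow_dvd_pow 3 hcon).trans hdvd)
    have h3P : 3 ∣ Nat.card ↥(P : Subgroup ↥H) := by
      have h6 := Subgroup.card_dvd_of_le hP
      rw [Nat.card_congr (Subgroup.subgroupOfEquivOfLe hDH).toEquiv, c.conf.hD] at h6
      exact h6
    rw [hm] at h3P ⊢
    interval_cases m
    · norm_num at h3P
    · norm_num
  have hPeq : D.subgroupOf H = (P : Subgroup ↥H) := Subgroup.eq_of_le_of_card_ge hP (by
    rw [hPcard, Nat.card_congr (Subgroup.subgroupOfEquivOfLe hDH).toEquiv, c.conf.hD])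
  have hn3 : Nat.card (Sylow 3 ↥H) =
      (Subgroup.normalizer ((P : Subgroup ↥H) : Set ↥H)).index :=
    Sylow.card_eq_index_normalizer P
  have hmod := card_sylow_modEq_one 3 ↥H
  have hNcard : Nat.card ↥(Subgroup.normalizer ((P : Subgroup ↥H) : Set ↥H)) = 24 := by
    rw [← hPeq, ← Subgroup.subgroupOf_normalizer_eq hDH, ← Subgroup.inf_subgroupOf_right,
      Nat.card_congr (Subgroup.subgroupOfEquivOfLe inf_le_right).toEquiv, h24]
  have hidx := Subgroup.card_mul_index (Subgroup.normalizer ((P : Subgroup ↥H) : Set ↥H))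
  rw [hNcard, ← hn3] at hidx
  have h240 : Nat.card ↥H = 240 := by
    rcases hH48 with h | h
    · exfalso
      rw [h] at hidx
      have h2 : Nat.card (Sylow 3 ↥H) = 2 := by omega
      rw [h2] at hmod
      exact absurd hmod (by decide)
    · exact h
  have h5 : 5 ∣ Nat.card ↥(Subgroup.centralizer ({e} : Set G)) := by
    rw [← hH, h240]
    norm_num
  by_cases hee : e * e = 1
  · obtain ⟨k, hk, hk5⟩ := c.l5i e he1 hee h5
    rw [← hH, h240] at hk
    omega
  · refine c.l5 e hee ?_ h5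
    intro h
    have h7 := Nat.le_of_dvd (orderOf_pos e) h
    omega

end Cfsg.Agent.Helper51
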