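import Mathlib
import Cfsg.Agent.Helper52.O7920Defs
import Cfsg.Agent.Helper52.O7920Defs2

/-!
# PIECE B1a of CALL S0434 (helper51): in case B there is an involution centralising an element
of `R` outside `D`.
-/

set_option autoImplicit false

namespace Cfsg.Agent.Helper51

open Cfsg.Agent.Helper52

variable {G : Type*} [Group G] [Finite G]

theorem o7920_B_exists {R : Sylow 3 G} {D : Subgroup G} {j : G} (c : O7920Conf2 G R D j)
    (h72 : Nat.card ↥(Subgroup.centralizer (D : Set G)) = 72)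
    (hCR : Nat.card ↥(Subgroup.centralizer ((R : Subgroup G) : Set G)) = 9) :
    ∃ x r2 : G, orderOf x = 2 ∧ r2 ∈ (R : Subgroup G) ∧ r2 ∉ D ∧ x * r2 = r2 * x := by
  haveI : Fact (Nat.Prime 2) := ⟨Nat.prime_two⟩
  have hRab := (c.syl3 R).2
  have hR9 := (c.syl3 R).1
  have hjinv := c.conf.hjinv
  -- an involution c1 of C(D) ⊓ N(R)
  have hK18 : Nat.card ↥(Subgroup.centralizer (D : Set G) ⊓
      Subgroup.normalizer ((R : Subgroup G) : Set G)) = 18 := by
    have h1 := c.stab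
    rw [h72] at h1
    omega
  obtain ⟨c1', hc1'⟩ := exists_prime_orderOf_dvd_card' (G := ↥(Subgroup.centralizer (D : Set G) ⊓
      Subgroup.normalizer ((R : Subgroup G) : Set G))) 2 (by rw [hK18]; norm_num)
  obtain ⟨c1, hc1def⟩ : ∃ c1 : G, c1 = (c1' : G) := ⟨_, rfl⟩
  have hc1o : orderOf c1 = 2 := by
    rw [hc1def, Subgroup.orderOf_coe]
    exact hc1'
  have hc1D : c1 ∈ Subgroup.centralizer (D : Set G) := hc1def ▸ (Subgroup.mem_inf.1 c1'.2).1
  have hc1N : c1 ∈ Subgroup.normalizer ((R : Subgroup G) : Set G) :=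
    hc1def ▸ (Subgroup.mem_inf.1 c1'.2).2
  have hc1sq : c1 * c1 = 1 := by
    have h1 := pow_orderOf_eq_one c1
    rw [hc1o, pow_two] at h1
    exact h1
  have hα_mem : ∀ r ∈ (R : Subgroup G), c1 * r * c1⁻¹ ∈ (R : Subgroup G) :=
    fun r hr => (Subgroup.mem_normalizer_iff.1 hc1N r).1 hr
  have hα2 : ∀ r : G, c1 * (c1 * r * c1⁻¹) * c1⁻¹ = r := by
    intro r
    calc c1 * (c1 * r * c1⁻¹) * c1⁻¹ = (c1 * c1) * r * (c1 * c1)⁻¹ := by group
      _ = r := by rw [hc1sq]; group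
  have hαD : ∀ d ∈ D, c1 * d * c1⁻¹ = d := by
    intro d hd
    have h1 := Subgroup.mem_centralizer_iff.1 hc1D d hd
    exact mul_inv_eq_iff_eq_mul.2 h1.symm
  -- c1 does not centralise R
  obtain ⟨r, hr, hrne⟩ : ∃ r ∈ (R : Subgroup G), c1 * r * c1⁻¹ ≠ r := by
    by_contra hcon
    push Not at hcon
    have hc1C : c1 ∈ Subgroup.centralizer ((R : Subgroup G) : Set G) := by
      rw [Subgroup.mem_centralizer_iff]
      intro s hs
      exact (mul_inv_eq_iff_eq_mul.1 (hcon s hs)).symm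
    have h1 := Subgroup.orderOf_dvd_natCard _ hc1C
    rw [hc1o, hCR] at h1
    norm_num at h1
  obtain ⟨a, ha⟩ : ∃ a : G, a = c1 * r * c1⁻¹ := ⟨_, rfl⟩
  have haR : a ∈ (R : Subgroup G) := ha ▸ hα_mem r hr
  have hαa : c1 * a * c1⁻¹ = r := by rw [ha]; exact hα2 r
  obtain ⟨w, hwdef⟩ : ∃ w : G, w = j * c1 := ⟨_, rfl⟩
  have hw : ∀ s ∈ (R : Subgroup G), w * s * w⁻¹ = (c1 * s * c1⁻¹)⁻¹ := by
    intro s hs
    calc w * s * w⁻¹ = j * (c1 * s * c1⁻¹) * j⁻¹ := by rw [hwdef]; group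
      _ = (c1 * s * c1⁻¹)⁻¹ := hjinv _ (hα_mem s hs)
  obtain ⟨r2, hr2def⟩ : ∃ r2 : G, r2 = r * a⁻¹ := ⟨_, rfl⟩
  have hr2R : r2 ∈ (R : Subgroup G) := by
    rw [hr2def]
    exact Subgroup.mul_mem _ hr (Subgroup.inv_mem _ haR)
  have hr2ne : r2 ≠ 1 := by
    intro h
    apply hrne
    rw [hr2def, mul_inv_eq_one] at h
    rw [← ha]
    exact h.symm
  have hwr2 : w * r2 * w⁻¹ = r2 := by
    calc w * r2 * w⁻¹ = (w * r * w⁻¹) * (w * a * w⁻¹)⁻¹ := by rw [hr2def]; group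
      _ = (c1 * r * c1⁻¹)⁻¹ * ((c1 * a * c1⁻¹)⁻¹)⁻¹ := by rw [hw r hr, hw a haR]
      _ = a⁻¹ * r := by rw [hαa, inv_inv, ← ha]
      _ = r2 := by rw [hr2def]; exact hRab _ (Subgroup.inv_mem _ haR) r hr
  have hr2_9 : r2 ^ 9 = 1 := by
    have h5 := pow_card_eq_one' (G := ↥(R : Subgroup G)) (x := ⟨r2, hr2R⟩)
    rw [hR9] at h5
    exact congrArg Subtype.val h5
  have hr2D : r2 ∉ D := by
    intro hD
    have h1 := hαD r2 hD
    have h2 : c1 * r2 * c1⁻¹ = r2⁻¹ := by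
      calc c1 * r2 * c1⁻¹ = (c1 * r * c1⁻¹) * (c1 * a * c1⁻¹)⁻¹ := by rw [hr2def]; group
        _ = a * r⁻¹ := by rw [hαa, ← ha]
        _ = r2⁻¹ := by rw [hr2def]; group
    have h3 : r2 * r2 = 1 := by
      have h4 : r2 = r2⁻¹ := h1.symm.trans h2
      calc r2 * r2 = r2 * r2⁻¹ := by rw [← h4]
        _ = 1 := mul_inv_cancel r2
    apply hr2ne
    have h9 : r2 ^ 9 = (r2 * r2) ^ 4 * r2 := by
      rw [← pow_two, ← pow_mul, ← pow_succ]
    rw [h3, one_pow, one_mul] at h9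
    rw [← h9]
    exact hr2_9
  -- w² centralises R
  have hww : w * w ∈ Subgroup.centralizer ((R : Subgroup G) : Set G) := by
    rw [Subgroup.mem_centralizer_iff]
    intro s hs
    have h1 : (w * w) * s * (w * w)⁻¹ = s := by
      calc (w * w) * s * (w * w)⁻¹ = w * (w * s * w⁻¹) * w⁻¹ := by group
        _ = w * (c1 * s * c1⁻¹)⁻¹ * w⁻¹ := by rw [hw s hs]
        _ = (w * (c1 * s * c1⁻¹) * w⁻¹)⁻¹ := by group
        _ = ((c1 * (c1 * s * c1⁻¹) * c1⁻¹)⁻¹)⁻¹ := by rw [hw _ (hα_mem s hs)]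
        _ = s := by rw [hα2, inv_inv]
    exact (mul_inv_eq_iff_eq_mul.1 h1).symm
  have hww9 : (w * w) ^ 9 = 1 := by
    have h5 := pow_card_eq_one' (G := ↥(Subgroup.centralizer ((R : Subgroup G) : Set G)))
      (x := ⟨w * w, hww⟩)
    rw [hCR] at h5
    exact congrArg Subtype.val h5
  have hcomm : Commute w r2 := mul_inv_eq_iff_eq_mul.1 hwr2
  refine ⟨w ^ 9, r2, ?_, hr2R, hr2D, (hcomm.pow_left 9).eq⟩
  have hx2 : (w ^ 9) ^ 2 = 1 := by
    rw [← pow_mul, mul_comm, pow_mul, pow_two]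
    exact hww9
  have hx1 : w ^ 9 ≠ 1 := by
    intro h
    have hw5 : w = (w * w) ^ 5 := by
      calc w = w ^ 9 * w := by rw [h, one_mul]
        _ = (w * w) ^ 5 := by rw [← pow_succ, ← pow_two, ← pow_mul]
    have hwC : w ∈ Subgroup.centralizer ((R : Subgroup G) : Set G) := by
      rw [hw5]
      exact Subgroup.pow_mem _ hww 5
    have hDbot : D = ⊥ := by
      rw [Subgroup.eq_bot_iff_forall]
      intro d hd
      have h1 : w * d * w⁻¹ = d :=
        mul_inv_eq_iff_eq_mul.2 (Subgroup.mem_centralizer_iff.1 hwC d (c.conf.hDR hd)).symm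
      rw [hw d (c.conf.hDR hd), hαD d hd] at h1
      have h3 : d * d = 1 := by
        calc d * d = d * d⁻¹ := by rw [h1]
          _ = 1 := mul_inv_cancel d
      have hd3 : d ^ 3 = 1 := by
        have h5 := pow_card_eq_one' (G := ↥D) (x := ⟨d, hd⟩)
        rw [c.conf.hD] at h5
        exact congrArg Subtype.val h5
      calc d = d ^ 3 * (d * d)⁻¹ := by group
        _ = 1 := by rw [hd3, h3]; simp
    have h6 := c.conf.hD
    rw [hDbot, Subgroup.card_bot] at h6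
    omega
  exact orderOf_eq_prime hx2 hx1

end Cfsg.Agent.Helper51
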