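import Mathlib

/-!
# CALL S0435 piece TI6a (helper51): counting pairs `(r, S)` with `r ∈ R ∩ S`
-/

set_option autoImplicit false

namespace Cfsg.Agent.Helper51

variable {G : Type*} [Group G] [Finite G]

-- PIECE TI6a
theorem u7920_pairs_count (R : Sylow 3 G) (hR : Nat.card ↥(R : Subgroup G) = 9)
    (h55 : Nat.card (Sylow 3 G) = 55)
    (hF : ∀ d ∈ (R : Subgroup G), d ≠ 1 →
      Nat.card {S : Sylow 3 G // d ∈ (S : Subgroup G)} = 1 ∨
      Nat.card {S : Sylow 3 G // d ∈ (S : Subgroup G)} = 4) :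
    Nat.card {p : ↥(R : Subgroup G) × Sylow 3 G // (p.1 : G) ∈ (p.2 : Subgroup G)} =
      63 + 3 * Nat.card {d : G // d ∈ (R : Subgroup G) ∧
        Nat.card {S : Sylow 3 G // d ∈ (S : Subgroup G)} = 4} := by
  classical
  have : Fintype ↥(R : Subgroup G) := Fintype.ofFinite _
  obtain ⟨F, hFdef⟩ : ∃ F : G → ℕ, ∀ d, F d = Nat.card {S : Sylow 3 G // d ∈ (S : Subgroup G)} :=
    ⟨_, fun _ => rfl⟩
  simp only [← hFdef] at hF ⊢
  have h1 : Nat.card {p : ↥(R : Subgroup G) × Sylow 3 G // (p.1 : G) ∈ (p.2 : Subgroup G)} =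
      ∑ r : ↥(R : Subgroup G), F r := by
    rw [Nat.card_congr (Equiv.subtypeProdEquivSigmaSubtype
      (fun (r : ↥(R : Subgroup G)) (S : Sylow 3 G) => (r : G) ∈ (S : Subgroup G))), Nat.card_sigma]
    exact Finset.sum_congr rfl (fun r _ => (hFdef r).symm)
  have hF1 : F 1 = 55 := by
    rw [hFdef, ← h55]
    exact Nat.card_congr (Equiv.subtypeUnivEquiv (fun S => one_mem _))
  have h2 : ∀ r : ↥(R : Subgroup G),
      F r = (if r = 1 then 54 else 0) + 1 + 3 * (if F r = 4 then 1 else 0) := by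
    intro r
    by_cases hr : r = 1
    · subst hr
      simp [hF1]
    · have hr' : (r : G) ≠ 1 := fun h => hr (Subtype.ext h)
      rcases hF r r.2 hr' with h | h
      · simp [hr, h]
      · simp [hr, h]
  have h3 : ∑ r : ↥(R : Subgroup G), (if F r = 4 then 1 else 0) =
      Nat.card {d : G // d ∈ (R : Subgroup G) ∧ F d = 4} := by
    rw [Finset.sum_boole, ← Fintype.card_subtype, ← Nat.card_eq_fintype_card]
    exact Nat.card_congr (Equiv.subtypeSubtypeEquivSubtypeInter
      (fun d : G => d ∈ (R : Subgroup G)) (fun d : G => F d = 4))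
  rw [h1, Finset.sum_congr rfl (fun r _ => h2 r), Finset.sum_add_distrib, Finset.sum_add_distrib,
    ← Finset.mul_sum, h3, Finset.sum_ite_eq' Finset.univ (1 : ↥(R : Subgroup G)) (fun _ => 54),
    Finset.sum_const, Finset.card_univ, ← Nat.card_eq_fintype_card, hR]
  simp
end Cfsg.Agent.Helper51
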