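/-
helper51: PIECE B4 of CALL S1378 (B&G Theorem 13.9): `Ms_σ ∩ M` centralizes `S`.
-/
import Cfsg.Agent.Helper1.BG139Defs
import Cfsg.Agent.Helper54.BG13b
import Cfsg.Agent.Helper68.BG134Defs

set_option autoImplicit false

namespace Cfsg.Agent.Helper51

open Cfsg Subgroup Cfsg.Agent.Helper1

universe u

variable {G : Type u} [Group G] [Finite G]

theorem bg139_cent_S (hG : IsMinSimpleOddOrder G) {M Ms S : Subgroup G} {s : ℕ}
    (c : BG139Cfg M Ms S s)
    (hI : ∀ a ∈ sigmaCore M ⊓ sigmaCore Ms, ∀ b ∈ sigmaCore M ⊓ sigmaCore Ms, a * b = b * a) :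
    sigmaCore Ms ⊓ M ≤ centralizer (S : Set G) := by
  have hU : Helper22.BGUniq G := Helper68.bg134_uniq hG
  have hβ : Helper68.BGSigmaCompl G := Helper68.bg134_sigmaCompl hG
  have hSN : S ≤ normalizer (S : Set G) := Subgroup.le_normalizer
  have hSM : S ≤ M := fun x hx => (c.hN (hSN hx)).1
  have hSMs : S ≤ Ms := fun x hx => (c.hN (hSN hx)).2
  have hSσM : S ≤ sigmaCore M := Helper22.bg12_le_sigmaCore hG hU c.hM c.hs c.hsM hSM c.hSp
  have hSσMs : S ≤ sigmaCore Ms :=
    Helper22.bg12_le_sigmaCore hG hU c.hMs c.hs c.hsMs hSMs c.hSp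
  -- elements of prime power order
  have hpp : ∀ (q : ℕ), q.Prime → ∀ x : G, x ∈ sigmaCore Ms → x ∈ M → IsPGroup q (zpowers x) →
      x ∈ centralizer (S : Set G) := by
    intro q hq x hxσ hxM hxq
    have hxMs : x ∈ Ms := Helper23.piCoreOf_le _ _ hxσ
    by_cases hx1 : x = 1
    · rw [hx1]
      exact Subgroup.one_mem _
    rw [Subgroup.mem_centralizer_iff]
    intro y hy
    by_cases hqM : q ∈ sigma M
    · have h1 : zpowers x ≤ sigmaCore M :=
        Helper22.bg12_le_sigmaCore hG hU c.hM hq hqM (zpowers_le.2 hxM) hxq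
      exact hI y ⟨hSσM hy, hSσMs hy⟩ x ⟨h1 (mem_zpowers x), hxσ⟩
    · haveI : Fact q.Prime := ⟨hq⟩
      have hqMs : q ∈ sigma Ms := by
        apply Helper23.mem_of_dvd_card_piCoreOf (sigma Ms) Ms hq
        have h1 : orderOf x ∣ Nat.card (sigmaCore Ms) := Subgroup.orderOf_dvd_natCard _ hxσ
        obtain ⟨k, hk⟩ := (IsPGroup.iff_card).1 hxq
        rw [Nat.card_zpowers] at hk
        have hk0 : k ≠ 0 := by
          rintro rfl
          rw [pow_zero] at hk
          exact hx1 (orderOf_eq_one_iff.1 hk)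
        exact (dvd_pow_self q hk0).trans (hk ▸ h1)
      have hnorm : zpowers x ≤ normalizer ((sigmaCore M ⊓ Ms : Subgroup G) : Set G) := by
        rw [zpowers_le, Subgroup.mem_normalizer_iff]
        intro h
        have hxN := Helper23.le_normalizer_piCoreOf (sigma M) M hxM
        rw [Subgroup.mem_normalizer_iff] at hxN
        constructor
        · rintro ⟨h1, h2⟩
          exact ⟨(hxN h).1 h1, Ms.mul_mem (Ms.mul_mem hxMs h2) (Ms.inv_mem hxMs)⟩
        · rintro ⟨h1, h2⟩
          refine ⟨(hxN h).2 h1, ?_⟩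
          have h3 : h = x⁻¹ * (x * h * x⁻¹) * x := by group
          rw [h3]
          exact Ms.mul_mem (Ms.mul_mem (Ms.inv_mem hxMs) h2) hxMs
      have hD := Helper54.bg13_prime_action_sigma hG hU hβ c.hM c.hMs hqM hqMs
        (S := zpowers x) (D := sigmaCore M ⊓ Ms) hxq (zpowers_le.2 hxMs) inf_le_left
        inf_le_right hnorm
      exact (hD y ⟨hSσM hy, hSMs hy⟩ x (mem_zpowers x)).symm
  -- the general case: induction on the order
  have hgen : ∀ n : ℕ, ∀ x : G, orderOf x = n → x ∈ sigmaCore Ms → x ∈ M →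
      x ∈ centralizer (S : Set G) := by
    intro n
    induction n using Nat.strong_induction_on with
    | _ n ih =>
      intro x hxn hxσ hxM
      by_cases hx1 : x = 1
      · rw [hx1]
        exact Subgroup.one_mem _
      have hn1 : n ≠ 1 := fun h => hx1 (orderOf_eq_one_iff.1 (hxn.trans h))
      have hn0 : 0 < n := hxn ▸ orderOf_pos x
      have hq : (Nat.minFac n).Prime := Nat.minFac_prime hn1
      obtain ⟨e, m, hqm, hnm⟩ := Nat.exists_eq_pow_mul_and_not_dvd
        (Nat.pos_iff_ne_zero.1 hn0) (Nat.minFac n) hq.ne_one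
      by_cases hm1 : m = 1
      · apply hpp (Nat.minFac n) hq x hxσ hxM
        apply IsPGroup.of_card (n := e)
        rw [Nat.card_zpowers, hxn]
        conv_lhs => rw [hnm, hm1, mul_one]
      · have he0 : e ≠ 0 := by
          rintro rfl
          apply hqm
          rw [pow_zero, one_mul] at hnm
          rw [← hnm]
          exact Nat.minFac_dvd n
        have ha1 : 1 < Nat.minFac n ^ e := Nat.one_lt_pow he0 hq.one_lt
        have hm0 : 0 < m := by
          rcases Nat.eq_zero_or_pos m with h | h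
          · rw [h, mul_zero] at hnm
            omega
          · exact h
        have hm2 : 1 < m := by omega
        have hcop : Nat.Coprime (Nat.minFac n ^ e) m :=
          Nat.Coprime.pow_left e ((Nat.Prime.coprime_iff_not_dvd hq).2 hqm)
        obtain ⟨a, ha⟩ : ∃ a, a = Nat.minFac n ^ e := ⟨_, rfl⟩
        rw [← ha] at hnm ha1 hcop
        have ho1 : orderOf (x ^ a) = m := by
          rw [orderOf_pow_of_dvd (by omega) (by rw [hxn, hnm]; exact dvd_mul_right a m), hxn,
            hnm, Nat.mul_div_cancel_left m (by omega)]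
        have ho2 : orderOf (x ^ m) = a := by
          rw [orderOf_pow_of_dvd (by omega) (by rw [hxn, hnm]; exact dvd_mul_left m a), hxn,
            hnm, Nat.mul_div_cancel a hm0]
        have h1 := ih m (by rw [hnm]; nlinarith) (x ^ a) ho1 (pow_mem hxσ _) (pow_mem hxM _)
        have h2 := ih a (by rw [hnm]; nlinarith) (x ^ m) ho2 (pow_mem hxσ _) (pow_mem hxM _)
        have hbez : (a : ℤ) * Nat.gcdA a m + (m : ℤ) * Nat.gcdB a m = 1 := by
          have h5 := Nat.gcd_eq_gcd_ab a m
          rw [hcop.gcd_eq_one] at h5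
          rw [← h5]
          simp
        have hx_eq : x = (x ^ a) ^ (Nat.gcdA a m) * (x ^ m) ^ (Nat.gcdB a m) := by
          rw [← zpow_natCast x a, ← zpow_natCast x m, ← zpow_mul, ← zpow_mul, ← zpow_add, hbez,
            zpow_one]
        rw [hx_eq]
        exact mul_mem (zpow_mem h1 _) (zpow_mem h2 _)
  intro x hx
  exact hgen _ x rfl hx.1 hx.2

end Cfsg.Agent.Helper51
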