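import Mathlib

/-!
CALL S1366 piece CYS (helper51, double): the join of two commuting cyclic subgroups of coprime
orders is cyclic.
-/

set_option autoImplicit false
set_option linter.unusedSectionVars false

namespace Cfsg.Agent.Helper51

open Subgroup

universe u

variable {G : Type u} [Group G] [Finite G]

/-- B2 (PURE). The join of two commuting cyclic subgroups of coprime orders is cyclic. -/
theorem bg147_cyclic_sup {A B : Subgroup G} (hA : IsCyclic A) (hB : IsCyclic B)
    (hc : ∀ a ∈ A, ∀ b ∈ B, a * b = b * a) (hcop : (Nat.card A).Coprime (Nat.card B)) :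
    IsCyclic ↥(A ⊔ B) := by
  obtain ⟨⟨a, ha⟩, hga⟩ := hA.exists_generator
  obtain ⟨⟨b, hb⟩, hgb⟩ := hB.exists_generator
  have hAz : A ≤ zpowers a := by
    intro x hx
    obtain ⟨n, hn⟩ := Subgroup.mem_zpowers_iff.mp (hga ⟨x, hx⟩)
    have h1 := congrArg Subtype.val hn
    simp only [Subgroup.coe_zpow] at h1
    exact Subgroup.mem_zpowers_iff.mpr ⟨n, h1⟩
  have hBz : B ≤ zpowers b := by
    intro x hx
    obtain ⟨n, hn⟩ := Subgroup.mem_zpowers_iff.mp (hgb ⟨x, hx⟩)
    have h1 := congrArg Subtype.val hn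
    simp only [Subgroup.coe_zpow] at h1
    exact Subgroup.mem_zpowers_iff.mpr ⟨n, h1⟩
  have hab : Commute a b := hc a ha b hb
  have hoa : orderOf a ∣ Nat.card A := Subgroup.orderOf_dvd_natCard A ha
  have hob : orderOf b ∣ Nat.card B := Subgroup.orderOf_dvd_natCard B hb
  have hcop' : (orderOf a).Coprime (orderOf b) :=
    Nat.Coprime.coprime_dvd_left hoa (Nat.Coprime.coprime_dvd_right hob hcop)
  have ha' : a ∈ zpowers (a * b) := by
    obtain ⟨m, hm⟩ := exists_pow_eq_self_of_coprime (x := a) (n := orderOf b) hcop'.symm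
    have e : (a * b) ^ orderOf b = a ^ orderOf b := by
      rw [hab.mul_pow, pow_orderOf_eq_one, mul_one]
    have h1 : (a ^ orderOf b) ^ m ∈ zpowers (a * b) := by
      rw [← e]
      exact Subgroup.pow_mem _ (Subgroup.pow_mem _ (Subgroup.mem_zpowers _) _) _
    rwa [hm] at h1
  have hb' : b ∈ zpowers (a * b) := by
    obtain ⟨m, hm⟩ := exists_pow_eq_self_of_coprime (x := b) (n := orderOf a) hcop'
    have e : (a * b) ^ orderOf a = b ^ orderOf a := by
      rw [hab.mul_pow, pow_orderOf_eq_one, one_mul]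
    have h1 : (b ^ orderOf a) ^ m ∈ zpowers (a * b) := by
      rw [← e]
      exact Subgroup.pow_mem _ (Subgroup.pow_mem _ (Subgroup.mem_zpowers _) _) _
    rwa [hm] at h1
  have hAB : A ⊔ B = zpowers (a * b) := by
    apply le_antisymm
    · exact sup_le (hAz.trans (by rw [zpowers_le]; exact ha'))
        (hBz.trans (by rw [zpowers_le]; exact hb'))
    · rw [zpowers_le]; exact mul_mem (mem_sup_left ha) (mem_sup_right hb)
  rw [hAB]
  infer_instance

end Cfsg.Agent.Helper51
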