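import Cfsg.Prelude.Def_OddOrderLocal
import Cfsg.Agent.Helper23.Trans
import Cfsg.Agent.Helper35.Coprime

/-!
CALL S1366 piece PSUB (helper51, double): a subgroup of prime order of `Z = K K*` lies in `K` or
in `K*`.
-/

set_option autoImplicit false
set_option linter.unusedSectionVars false

namespace Cfsg.Agent.Helper51

open Cfsg Subgroup

universe u

variable {G : Type u} [Group G] [Finite G]

/-- Product decomposition in the join of two elementwise commuting subgroups (copy for PSUB). -/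
theorem bg147_exists_mul_of_cent' {A B : Subgroup G} (hB : B ≤ centralizer (A : Set G)) {l : G}
    (hl : l ∈ A ⊔ B) : ∃ a ∈ A, ∃ b ∈ B, l = a * b := by
  refine Cfsg.Agent.Helper35.exists_mul_of_mem_sup_of_le_normalizer (N := A) (A := B) ?_ hl
  intro b hb
  have hb' := mem_centralizer_iff.mp (hB hb)
  rw [mem_normalizer_iff]
  intro x
  constructor
  · intro hx
    have : b * x * b⁻¹ = x := by rw [← hb' x hx]; group
    rw [this]; exact hx
  · intro hx
    have h2 := hb' _ hx
    have h3 : x = b * x * b⁻¹ := by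
      have : b * x * b⁻¹ * b = b * (b * x * b⁻¹) := h2
      calc x = b⁻¹ * (b * x * b⁻¹ * b) := by group
        _ = b⁻¹ * (b * (b * x * b⁻¹)) := by rw [this]
        _ = b * x * b⁻¹ := by group
    rw [h3]; exact hx

/-- C7. A subgroup of prime order of `Z = K K*` lies in `K` or in `K*`. -/
theorem bg147_prime_sub {M K Q : Subgroup G} (hK : IsPiHallOf (kappa M) K M)
    (hQ : Q ≤ K ⊔ (sigmaCore M ⊓ centralizer (K : Set G))) (hQp : (Nat.card Q).Prime) :
    Q ≤ K ∨ Q ≤ sigmaCore M ⊓ centralizer (K : Set G) := by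
  have hQ1 : Q ≠ ⊥ := by
    rintro rfl
    rw [Subgroup.card_bot] at hQp
    exact Nat.not_prime_one hQp
  obtain ⟨⟨v, hvQ⟩, hv1'⟩ := Subgroup.ne_bot_iff_exists_ne_one.mp hQ1
  have hv1 : v ≠ 1 := fun h => hv1' (Subtype.ext h)
  have hQv : Q = zpowers v := by
    have hle : zpowers v ≤ Q := by rw [zpowers_le]; exact hvQ
    have hdvd : Nat.card (zpowers v) ∣ Nat.card Q := Subgroup.card_dvd_of_le hle
    rcases (Nat.dvd_prime hQp).mp hdvd with h1 | h1
    · exfalso
      rw [Nat.card_zpowers, orderOf_eq_one_iff] at h1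
      exact hv1 h1
    · exact (Subgroup.eq_of_le_of_card_ge hle h1.ge).symm
  obtain ⟨a, ha, b, hb, rfl⟩ := bg147_exists_mul_of_cent' inf_le_right (hQ hvQ)
  have hab : Commute a b := (mem_centralizer_iff.mp hb.2) a ha
  have hvp : (a * b) ^ Nat.card Q = 1 := by
    have h1 : orderOf (a * b) ∣ Nat.card Q := Subgroup.orderOf_dvd_natCard Q hvQ
    exact orderOf_dvd_iff_pow_eq_one.mp h1
  rw [hab.mul_pow] at hvp
  -- the two factors: if both are nontrivial, the prime is in `κ(M)` and in `σ(M)`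
  by_cases ha1 : a = 1
  · right
    rw [hQv, ha1, one_mul, zpowers_le]
    exact hb
  by_cases hb1 : b = 1
  · left
    rw [hQv, hb1, mul_one, zpowers_le]
    exact ha
  exfalso
  -- `a ^ p = (b ^ p)⁻¹`
  have hap : a ^ Nat.card Q = (b ^ Nat.card Q)⁻¹ := eq_inv_of_mul_eq_one_left hvp
  -- orders of `a` and `b` are coprime: prime divisors in `κ(M)`, resp. `σ(M)`
  have hcop : (orderOf a).Coprime (orderOf b) := by
    refine Nat.Coprime.symm (Nat.coprime_of_dvd ?_)
    intro q hq hqb hqa
    have h1 : q ∈ kappa M := hK.2.1 q hq (hqa.trans (Subgroup.orderOf_dvd_natCard K ha))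
    have h2 : q ∈ sigma M :=
      Cfsg.Agent.Helper23.mem_of_dvd_card_piCoreOf (sigma M) M hq
        (hqb.trans (Subgroup.orderOf_dvd_natCard (sigmaCore M) hb.1))
    exact h1.2.2.1 h2
  -- `a ^ p` has order dividing both
  have h1 : orderOf (a ^ Nat.card Q) ∣ orderOf a := orderOf_pow_dvd _
  have h2 : orderOf (a ^ Nat.card Q) ∣ orderOf b := by
    rw [hap, orderOf_inv]; exact orderOf_pow_dvd _
  have h3 : orderOf (a ^ Nat.card Q) = 1 := Nat.eq_one_of_dvd_coprimes hcop h1 h2
  have hap1 : a ^ Nat.card Q = 1 := orderOf_eq_one_iff.mp h3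
  have hbp1 : b ^ Nat.card Q = 1 := by rw [hap1] at hap; exact inv_eq_one.mp hap.symm
  have hoa : orderOf a = Nat.card Q := by
    rcases (Nat.dvd_prime hQp).mp (orderOf_dvd_of_pow_eq_one hap1) with h | h
    · exact absurd (orderOf_eq_one_iff.mp h) ha1
    · exact h
  have hob : orderOf b = Nat.card Q := by
    rcases (Nat.dvd_prime hQp).mp (orderOf_dvd_of_pow_eq_one hbp1) with h | h
    · exact absurd (orderOf_eq_one_iff.mp h) hb1
    · exact h
  rw [hoa, hob, Nat.coprime_self] at hcop
  rw [hcop] at hQp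
  exact Nat.not_prime_one hQp

end Cfsg.Agent.Helper51
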