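import Mathlib
import Cfsg.Agent.Helper2.BG147HGE

/-!
CALL S1438 piece HK (helper51, double): Hall containment in a maximal subgroup
(= `Cfsg.Agent.Helper2.bg147_hall_ge`).
-/

set_option autoImplicit false

namespace Cfsg.Agent.Helper51

open Cfsg Subgroup

universe u

variable {G : Type u} [Group G] [Finite G]

/-- HK. Hall containment in the solvable group `M` (`Helper23.uq_isSolvable`,
`Helper35.exists_pi_factorization`, `Helper1.hall_le_aux`; compare `Helper1.bgs_exists_hall`). -/
theorem bg157_hall_contains (hG : IsMinSimpleOddOrder G) {M : Subgroup G} (hM : IsCoatom M)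
    (π : Set ℕ) {X : Subgroup G} (hXM : X ≤ M)
    (hX : ∀ p : ℕ, p.Prime → p ∣ Nat.card X → p ∈ π) :
    ∃ K : Subgroup G, IsPiHallOf π K M ∧ X ≤ K :=
  Cfsg.Agent.Helper2.bg147_hall_ge hG hM π hXM hX

end Cfsg.Agent.Helper51
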