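import Mathlib
import Cfsg.Agent.S1351
import Cfsg.Agent.S1352

/-!
# CALL BG36 (helper2; row S1436), piece KA (`bg36_kU`), double by helper51

`κ(M) ≠ ∅` gives a σ-decomposition with `K ≠ 1` (S1351, S1352).
-/

set_option autoImplicit false

namespace Cfsg.Agent.Helper51

open Cfsg Subgroup

universe u

variable {G : Type u} [Group G] [Finite G]

/-- PIECE KA: `κ(M) ≠ ∅` gives a σ-decomposition with `K ≠ 1` (S1351, S1352). -/
theorem bg36_kU (hG : IsMinSimpleOddOrder G) {M : Subgroup G} (hM : IsCoatom M)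
    (hne : kappa M ≠ ∅) : ∃ K U : Subgroup G, IsSigmaDecomposition M K U ∧ K ≠ ⊥ := by
  obtain ⟨⟨K, hK⟩, hcyc⟩ := Cfsg.Agent.S1351.result hG M hM
  obtain ⟨⟨U, hU⟩, -⟩ := Cfsg.Agent.S1352.result hG M hM K (hcyc K hK) hK
  refine ⟨K, U, hU, ?_⟩
  obtain ⟨p, hp⟩ := Set.nonempty_iff_ne_empty.mpr hne
  have hpp : p.Prime := hp.1
  have hpM : p ∣ Nat.card M := hp.2.1
  have hidx : ¬ p ∣ K.relIndex M := hK.2.2 p hpp hp
  intro hKbot
  rw [hKbot, Subgroup.relIndex_bot_left] at hidx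
  exact hidx hpM

end Cfsg.Agent.Helper51
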