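import Mathlib
import Cfsg.Prelude.Def_OddOrderLocal

/-! CALL S1356 (helper99), piece CNORM (double): `M` normalizes `C_M(H)` when it normalizes `H`. -/

set_option autoImplicit false

namespace Cfsg.Agent.Helper51

open Cfsg Subgroup

universe u

variable {G : Type u} [Group G] [Finite G]

omit [Finite G] in
/-- closure under conjugation by the elements of a subgroup gives the normalizer inclusion -/
theorem bg56_le_normalizer_of_conj {A S : Subgroup G}
    (key : ∀ a ∈ A, ∀ g ∈ S, a * g * a⁻¹ ∈ S) : A ≤ normalizer (S : Set G) := by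
  intro a ha
  rw [Subgroup.mem_normalizer_iff]
  intro g
  constructor
  · exact key a ha g
  · intro hg
    have := key a⁻¹ (A.inv_mem ha) _ hg
    have e : a⁻¹ * (a * g * a⁻¹) * a⁻¹⁻¹ = g := by group
    rwa [e] at this

/-- CNORM [S, PURE]. `M` normalizes `C_M(H)` when it normalizes `H`. -/
theorem bg56_cent_norm {M H : Subgroup G} (hn : M ≤ normalizer (H : Set G)) :
    M ≤ normalizer ((M ⊓ centralizer (H : Set G) : Subgroup G) : Set G) := by
  apply bg56_le_normalizer_of_conj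
  intro m hm x hx
  obtain ⟨hxM, hxc⟩ := Subgroup.mem_inf.mp hx
  refine Subgroup.mem_inf.mpr ⟨M.mul_mem (M.mul_mem hm hxM) (M.inv_mem hm), ?_⟩
  rw [Subgroup.mem_centralizer_iff] at hxc ⊢
  intro h hh
  have h1 : m⁻¹ * h * m⁻¹⁻¹ ∈ H :=
    (Subgroup.mem_normalizer_iff.mp (hn (M.inv_mem hm)) h).mp hh
  have h2 := hxc _ h1
  calc h * (m * x * m⁻¹) = m * ((m⁻¹ * h * m⁻¹⁻¹) * x) * m⁻¹ := by group
    _ = m * (x * (m⁻¹ * h * m⁻¹⁻¹)) * m⁻¹ := by rw [h2]
    _ = m * x * m⁻¹ * h := by group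

end Cfsg.Agent.Helper51
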