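import Mathlib
import Cfsg.Prelude.Def_OddOrderLocal
import Cfsg.Agent.Helper51.BG56NSUP

/-! CALL S1356 (helper99), piece SUPN (double): `A` commutative, `X` cyclic centralizing `A`:
`A ⊔ X` is nilpotent. -/

set_option autoImplicit false

namespace Cfsg.Agent.Helper51

open Cfsg Subgroup

universe u

variable {G : Type u} [Group G] [Finite G]

/-- SUPN [S, PURE]. `A` commutative, `X` cyclic centralizing `A`: `A ⊔ X` is nilpotent. -/
theorem bg56_sup_nil {A X : Subgroup G} (hA : ∀ a ∈ A, ∀ b ∈ A, a * b = b * a) (hX : IsCyclic ↥X)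
    (hXA : X ≤ centralizer (A : Set G)) : Group.IsNilpotent ↥(A ⊔ X) := by
  have hAn : Group.IsNilpotent ↥A := by
    letI : CommGroup ↥A :=
      { (inferInstance : Group ↥A) with
        mul_comm := fun a b => Subtype.ext (hA a a.2 b b.2) }
    infer_instance
  have hXn : Group.IsNilpotent ↥X := by
    letI : CommGroup ↥X := IsCyclic.commGroup
    infer_instance
  exact bg56_nil_sup hAn hXn hXA

end Cfsg.Agent.Helper51
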