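import Mathlib

/-!
# CALL BGC piece CN (helper51)
-/

set_option autoImplicit false
set_option linter.unusedSectionVars false

namespace Cfsg.Agent.Helper51

open Subgroup

universe u

variable {G : Type u} [Group G] [Finite G]

theorem bgc_mem_conj (M : Subgroup G) (g x : G) :
    x ∈ M.map (MulAut.conj g).toMonoidHom ↔ g⁻¹ * x * g ∈ M := by
  rw [Subgroup.mem_map]
  constructor
  · rintro ⟨m, hm, rfl⟩
    have h1 : g⁻¹ * (MulAut.conj g).toMonoidHom m * g = m := by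
      show g⁻¹ * (g * m * g⁻¹) * g = m
      group
    rw [h1]
    exact hm
  · intro h
    refine ⟨g⁻¹ * x * g, h, ?_⟩
    show g * (g⁻¹ * x * g) * g⁻¹ = x
    group

theorem bgc_map_conj_map_conj (M : Subgroup G) (g h : G) :
    (M.map (MulAut.conj h).toMonoidHom).map (MulAut.conj g).toMonoidHom
      = M.map (MulAut.conj (g * h)).toMonoidHom := by
  ext x
  rw [bgc_mem_conj, bgc_mem_conj, bgc_mem_conj]
  have h1 : h⁻¹ * (g⁻¹ * x * g) * h = (g * h)⁻¹ * x * (g * h) := by group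
  rw [h1]

theorem bgc_conj_eq_iff {M : Subgroup G} (hn : normalizer (M : Set G) = M) (g₁ g₂ : G) :
    M.map (MulAut.conj g₁).toMonoidHom = M.map (MulAut.conj g₂).toMonoidHom ↔ g₁⁻¹ * g₂ ∈ M := by
  constructor
  · intro h
    rw [← hn, Subgroup.mem_normalizer_iff]
    intro m
    have h1 : g₂ * m * g₂⁻¹ ∈ M.map (MulAut.conj g₁).toMonoidHom ↔
        g₂ * m * g₂⁻¹ ∈ M.map (MulAut.conj g₂).toMonoidHom := by rw [h]
    rw [bgc_mem_conj, bgc_mem_conj] at h1
    have e1 : g₁⁻¹ * (g₂ * m * g₂⁻¹) * g₁ = g₁⁻¹ * g₂ * m * (g₁⁻¹ * g₂)⁻¹ := by group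
    have e2 : g₂⁻¹ * (g₂ * m * g₂⁻¹) * g₂ = m := by group
    rw [e1, e2] at h1
    exact h1.symm
  · intro h
    ext x
    rw [bgc_mem_conj, bgc_mem_conj]
    have e1 : g₂⁻¹ * x * g₂ = (g₁⁻¹ * g₂)⁻¹ * (g₁⁻¹ * x * g₁) * (g₁⁻¹ * g₂) := by group
    rw [e1]
    constructor
    · intro hx
      exact M.mul_mem (M.mul_mem (M.inv_mem h) hx) h
    · intro hx
      have h2 := M.mul_mem (M.mul_mem h hx) (M.inv_mem h)
      have e2 : g₁⁻¹ * g₂ * ((g₁⁻¹ * g₂)⁻¹ * (g₁⁻¹ * x * g₁) * (g₁⁻¹ * g₂)) * (g₁⁻¹ * g₂)⁻¹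
          = g₁⁻¹ * x * g₁ := by group
      rwa [e2] at h2

/-- CN (PURE). The number of conjugates of a self-normalizing subgroup is its index. -/
theorem bgc_card_conj {M : Subgroup G} (hn : normalizer (M : Set G) = M) :
    Set.ncard {C : Subgroup G | ∃ g : G, C = M.map (MulAut.conj g).toMonoidHom} = M.index := by
  have hrange : {C : Subgroup G | ∃ g : G, C = M.map (MulAut.conj g).toMonoidHom}
      = Set.range (fun q : G ⧸ M => M.map (MulAut.conj q.out).toMonoidHom) := by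
    ext C
    constructor
    · rintro ⟨g, rfl⟩
      refine ⟨(g : G ⧸ M), ?_⟩
      show M.map (MulAut.conj (g : G ⧸ M).out).toMonoidHom = M.map (MulAut.conj g).toMonoidHom
      rw [bgc_conj_eq_iff hn, ← QuotientGroup.eq, QuotientGroup.out_eq']
    · rintro ⟨q, rfl⟩
      exact ⟨q.out, rfl⟩
  have hinj : Function.Injective (fun q : G ⧸ M => M.map (MulAut.conj q.out).toMonoidHom) := by
    intro q₁ q₂ h
    have h1 : q₁.out⁻¹ * q₂.out ∈ M := (bgc_conj_eq_iff hn _ _).1 h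
    rw [← QuotientGroup.eq, QuotientGroup.out_eq', QuotientGroup.out_eq'] at h1
    exact h1
  rw [hrange, ← Nat.card_coe_set_eq, Nat.card_range_of_injective hinj]
  rfl

end Cfsg.Agent.Helper51
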