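import Mathlib
import Cfsg.Agent.Helper51.BGCCN

/-!
# CALL BGC piece CB (helper51)
-/

set_option autoImplicit false
set_option linter.unusedSectionVars false

namespace Cfsg.Agent.Helper51

open Subgroup

universe u

variable {G : Type u} [Group G] [Finite G]

/-- CB (PURE). Conjugation by `y` permutes the conjugates of `M`. -/
theorem bgc_conj_count (M : Subgroup G) (a y : G) :
    Set.ncard {C : Subgroup G | (∃ g : G, C = M.map (MulAut.conj g).toMonoidHom) ∧
        y * a * y⁻¹ ∈ C} =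
      Set.ncard {C : Subgroup G | (∃ g : G, C = M.map (MulAut.conj g).toMonoidHom) ∧ a ∈ C} := by
  have himg : {C : Subgroup G | (∃ g : G, C = M.map (MulAut.conj g).toMonoidHom) ∧
        y * a * y⁻¹ ∈ C}
      = (fun C : Subgroup G => C.map (MulAut.conj y).toMonoidHom) ''
        {C : Subgroup G | (∃ g : G, C = M.map (MulAut.conj g).toMonoidHom) ∧ a ∈ C} := by
    ext C
    constructor
    · rintro ⟨⟨g, rfl⟩, hmem⟩
      refine ⟨M.map (MulAut.conj (y⁻¹ * g)).toMonoidHom, ⟨⟨y⁻¹ * g, rfl⟩, ?_⟩, ?_⟩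
      · rw [bgc_mem_conj] at hmem ⊢
        have e1 : (y⁻¹ * g)⁻¹ * a * (y⁻¹ * g) = g⁻¹ * (y * a * y⁻¹) * g := by group
        rw [e1]
        exact hmem
      · show (M.map (MulAut.conj (y⁻¹ * g)).toMonoidHom).map (MulAut.conj y).toMonoidHom = _
        rw [bgc_map_conj_map_conj, mul_inv_cancel_left]
    · rintro ⟨C', ⟨⟨g, rfl⟩, hmem⟩, rfl⟩
      refine ⟨⟨y * g, bgc_map_conj_map_conj M y g⟩, ?_⟩
      show y * a * y⁻¹ ∈ (M.map (MulAut.conj g).toMonoidHom).map (MulAut.conj y).toMonoidHom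
      rw [bgc_map_conj_map_conj, bgc_mem_conj]
      rw [bgc_mem_conj] at hmem
      have e1 : (y * g)⁻¹ * (y * a * y⁻¹) * (y * g) = g⁻¹ * a * g := by group
      rw [e1]
      exact hmem
  rw [himg]
  exact Set.ncard_image_of_injective _ (Subgroup.map_injective (MulAut.conj y).injective)

end Cfsg.Agent.Helper51
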