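import Mathlib

/-!
# CALL BGC piece DC (helper51)
-/

set_option autoImplicit false

namespace Cfsg.Agent.Helper51

open Subgroup

/-- DC (PURE). Double counting through fibres. -/
theorem bgc_double_count {α β γ : Type*} [Finite α] [Finite β] [Finite γ] (T : Set α) (B : Set β)
    (Cs : Set γ) (φ : α → β) (rel : γ → β → Prop) (n : ℕ) (hφ : ∀ t ∈ T, φ t ∈ B)
    (hfib : ∀ b ∈ B, Set.ncard {t | t ∈ T ∧ φ t = b} = Set.ncard {C | C ∈ Cs ∧ rel C b})
    (hcol : ∀ C ∈ Cs, Set.ncard {b | b ∈ B ∧ rel C b} = n) :
    Set.ncard T = Set.ncard Cs * n := by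
  classical
  have := Fintype.ofFinite α
  have := Fintype.ofFinite β
  have := Fintype.ofFinite γ
  have hT : T = ↑(Finset.univ.filter (fun t => t ∈ T)) := by
    ext t
    simp
  have hCs : Cs = ↑(Finset.univ.filter (fun C => C ∈ Cs)) := by
    ext t
    simp
  have hfib' : ∀ b ∈ Finset.univ.filter (fun b => b ∈ B),
      ((Finset.univ.filter (fun t => t ∈ T)).filter (fun t => φ t = b)).card
        = ((Finset.univ.filter (fun C => C ∈ Cs)).filter (fun C => rel C b)).card := by
    intro b hb
    have hb' : b ∈ B := by simpa using hb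
    have h1 := hfib b hb'
    have e1 : {t | t ∈ T ∧ φ t = b}
        = ↑((Finset.univ.filter (fun t => t ∈ T)).filter (fun t => φ t = b)) := by
      ext t
      simp
    have e2 : {C | C ∈ Cs ∧ rel C b}
        = ↑((Finset.univ.filter (fun C => C ∈ Cs)).filter (fun C => rel C b)) := by
      ext t
      simp
    rw [e1, e2, Set.ncard_coe_finset, Set.ncard_coe_finset] at h1
    exact h1
  have hcol' : ∀ C ∈ Finset.univ.filter (fun C => C ∈ Cs),
      ((Finset.univ.filter (fun b => b ∈ B)).filter (fun b => rel C b)).card = n := by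
    intro C hC
    have hC' : C ∈ Cs := by simpa using hC
    have h1 := hcol C hC'
    have e1 : {b | b ∈ B ∧ rel C b}
        = ↑((Finset.univ.filter (fun b => b ∈ B)).filter (fun b => rel C b)) := by
      ext t
      simp
    rw [e1, Set.ncard_coe_finset] at h1
    exact h1
  have hφ' : ∀ t ∈ Finset.univ.filter (fun t => t ∈ T),
      φ t ∈ Finset.univ.filter (fun b => b ∈ B) := by
    intro t ht
    have ht' : t ∈ T := by simpa using ht
    simpa using hφ t ht'
  have h1 := Finset.card_eq_sum_card_fiberwise hφ'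
  have h2 := Finset.sum_card_bipartiteAbove_eq_sum_card_bipartiteBelow
    (s := Finset.univ.filter (fun C => C ∈ Cs)) (t := Finset.univ.filter (fun b => b ∈ B)) rel
  rw [hT, hCs, Set.ncard_coe_finset, Set.ncard_coe_finset, h1, Finset.sum_congr rfl hfib']
  have h3 : ∀ b, (Finset.univ.filter (fun C => C ∈ Cs)).bipartiteBelow rel b
      = (Finset.univ.filter (fun C => C ∈ Cs)).filter (fun C => rel C b) := fun b => rfl
  have h4 : ∀ C, (Finset.univ.filter (fun b => b ∈ B)).bipartiteAbove rel C
      = (Finset.univ.filter (fun b => b ∈ B)).filter (fun b => rel C b) := fun b => rfl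
  simp only [h3, h4] at h2
  rw [← h2, Finset.sum_congr rfl hcol', Finset.sum_const, smul_eq_mul]

end Cfsg.Agent.Helper51
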