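import Mathlib

set_option autoImplicit false

namespace Cfsg.Agent.Helper51

open scoped IsMulCommutative

/-- Abstract additive core of the polarisation argument. -/
theorem c6ep_abs_add {V W : Type*} [AddCommGroup V] [AddCommGroup W]
    (B : V →+ V →+ W) (halt : ∀ v, B v v = 0)
    (φ : V →+ V) (hinv : ∀ u v, B (φ u) (φ v) = B u v)
    (hnd : ∀ h, (∀ x, B x h = 0) → h = 0)
    (m ϖ : ℕ) (hcop : Nat.Coprime m ϖ) (hodd : Odd ϖ)
    (hexp : ∀ v : V, m • v = 0) (hφ : ∀ v, φ^[ϖ] v = v)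
    (hH : ∀ x, B (φ x - x) (φ (φ x - x)) = 0) :
    ∀ y, φ y = y := by
  obtain ⟨j, hj⟩ := hodd
  have hsurj : ∀ v, ∃ u, φ u = v := fun v => ⟨φ^[2 * j] v, by
    have h1 := hφ v
    rw [hj] at h1
    exact (Function.iterate_succ_apply' φ (2 * j) v).symm.trans h1⟩
  have hanti : ∀ u v, B u v = - B v u := by
    intro u v
    have h := halt (u + v)
    simp only [map_add, AddMonoidHom.add_apply, halt, zero_add, add_zero] at h
    exact eq_neg_of_add_eq_zero_right h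
  have hL : ∀ w, φ (φ w - w) = φ w - w → φ w - w = 0 := by
    intro w hw
    have hit : ∀ k : ℕ, φ^[k] w = w + k • (φ w - w) := by
      intro k
      induction k with
      | zero => simp
      | succ k ih =>
        rw [Function.iterate_succ_apply', ih, map_add, map_nsmul, hw, succ_nsmul]
        abel
    have h1 : ϖ • (φ w - w) = 0 := by
      have := hit ϖ
      rw [hφ w] at this
      exact left_eq_add.1 this
    have h2 : m • (φ w - w) = 0 := hexp _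
    have h3 : addOrderOf (φ w - w) ∣ 1 := by
      rw [← hcop]
      exact Nat.dvd_gcd (addOrderOf_dvd_of_nsmul_eq_zero h2) (addOrderOf_dvd_of_nsmul_eq_zero h1)
    exact AddMonoid.addOrderOf_eq_one_iff.1 (Nat.dvd_one.1 h3)
  have hoddstep : ∀ a, φ (φ a) = a → φ a = a := by
    intro a ha
    have hit : ∀ i : ℕ, φ^[2 * i] a = a := by
      intro i
      induction i with
      | zero => rfl
      | succ i ih =>
        rw [show 2 * (i + 1) = (2 * i + 1) + 1 by ring, Function.iterate_succ_apply,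
          Function.iterate_succ_apply, ha, ih]
    have h1 := hφ a
    rw [hj] at h1
    have h2 := (Function.iterate_succ_apply' φ (2 * j) a).symm.trans h1
    rw [hit j] at h2
    exact h2
  have hpol : ∀ x y, B (φ x - x) (φ (φ y - y)) + B (φ y - y) (φ (φ x - x)) = 0 := by
    intro x y
    have h := hH (x + y)
    have hx := hH x
    have hy := hH y
    have e1 : φ (x + y) - (x + y) = (φ x - x) + (φ y - y) := by rw [map_add]; abel
    rw [e1, map_add, map_add, AddMonoidHom.add_apply, map_add, map_add, hx, hy] at h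
    simpa using h
  have step : ∀ k : V, (∀ x, B (φ (φ x - x)) k = 0) → φ k = k := by
    intro k hk1
    have hk2 : ∀ x', B (φ x' - x') k = 0 := by
      intro x'
      obtain ⟨u, rfl⟩ := hsurj x'
      have := hk1 u
      rwa [map_sub] at this
    have hk3 : ∀ x', B (φ x') k = B x' k := by
      intro x'
      have := hk2 x'
      rw [map_sub, AddMonoidHom.sub_apply] at this
      exact sub_eq_zero.1 this
    have hk4 : ∀ x'', B x'' (φ k - k) = 0 := by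
      intro x''
      obtain ⟨u, rfl⟩ := hsurj x''
      rw [map_sub, hinv, hk3 u, sub_self]
    exact sub_eq_zero.1 (hnd _ hk4)
  have key : ∀ y, φ (φ (φ y - y)) = φ y - y := by
    intro y
    have h1 : ∀ x, B (φ (φ x - x)) (φ (φ (φ y - y)) - (φ y - y)) = 0 := by
      intro x
      have h := hpol x y
      rw [← hinv (φ x - x) (φ (φ y - y)), hanti (φ y - y) (φ (φ x - x))] at h
      rw [map_sub]
      exact sub_eq_zero.2 (eq_of_sub_eq_zero (by rw [← h]; abel))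
    have h2 := step _ h1
    have hv : φ (φ (φ y - y) + (φ y - y)) - (φ (φ y - y) + (φ y - y))
        = φ (φ (φ y - y)) - (φ y - y) := by
      rw [map_add]; abel
    have h3 := hL (φ (φ y - y) + (φ y - y)) (by rw [hv]; exact h2)
    rw [hv] at h3
    exact sub_eq_zero.1 h3
  intro y
  have h1 := hoddstep _ (key y)
  have h2 := hL y h1
  exact sub_eq_zero.1 h2

/-- Multiplicative wrapper of `c6ep_abs_add`. -/
theorem c6ep_abs_mul {A C : Type*} [Group A] [CommGroup C] (hA : ∀ a b : A, a * b = b * a)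
    (B : A →* A →* C) (halt : ∀ a, B a a = 1)
    (φ : A →* A) (hinv : ∀ a b, B (φ a) (φ b) = B a b)
    (hnd : ∀ h, (∀ x, B x h = 1) → h = 1)
    (m ϖ : ℕ) (hcop : Nat.Coprime m ϖ) (hodd : Odd ϖ)
    (hexp : ∀ a : A, a ^ m = 1) (hφ : ∀ a, φ^[ϖ] a = a)
    (hH : ∀ x, B (φ x / x) (φ (φ x / x)) = 1) :
    ∀ y, φ y = y := by
  let _ : CommGroup A := { ‹Group A› with mul_comm := hA }
  let β : Additive A →+ Additive A →+ Additive C :=
    AddMonoidHom.mk' (fun u => MonoidHom.toAdditive (B (Additive.toMul u)))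
      (fun u u' => by
        apply AddMonoidHom.ext
        intro v
        show Additive.ofMul (B (Additive.toMul u * Additive.toMul u') (Additive.toMul v))
          = Additive.ofMul (B (Additive.toMul u) (Additive.toMul v)
              * B (Additive.toMul u') (Additive.toMul v))
        rw [map_mul]
        rfl)
  exact c6ep_abs_add (V := Additive A) (W := Additive C) β halt (MonoidHom.toAdditive φ)
    hinv hnd m ϖ hcop hodd hexp hφ hH

theorem c6ep_mul_right {G : Type*} [Group G] (x y y' : G)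
    (hc : ∀ t : G, t * (x * y' * x⁻¹ * y'⁻¹) = (x * y' * x⁻¹ * y'⁻¹) * t) :
    x * (y * y') * x⁻¹ * (y * y')⁻¹ = x * y * x⁻¹ * y⁻¹ * (x * y' * x⁻¹ * y'⁻¹) := by
  calc x * (y * y') * x⁻¹ * (y * y')⁻¹
      = (x * y * x⁻¹) * (x * y' * x⁻¹ * y'⁻¹) * y⁻¹ := by group
    _ = (x * y' * x⁻¹ * y'⁻¹) * (x * y * x⁻¹) * y⁻¹ := by rw [hc (x * y * x⁻¹)]
    _ = (x * y' * x⁻¹ * y'⁻¹) * (x * y * x⁻¹ * y⁻¹) := by group
    _ = x * y * x⁻¹ * y⁻¹ * (x * y' * x⁻¹ * y'⁻¹) := (hc _).symm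

theorem c6ep_mul_left {G : Type*} [Group G] (x x' y : G)
    (hc : ∀ t : G, t * (x' * y * x'⁻¹ * y⁻¹) = (x' * y * x'⁻¹ * y⁻¹) * t) :
    (x * x') * y * (x * x')⁻¹ * y⁻¹ = x * y * x⁻¹ * y⁻¹ * (x' * y * x'⁻¹ * y⁻¹) := by
  calc (x * x') * y * (x * x')⁻¹ * y⁻¹
      = x * (x' * y * x'⁻¹ * y⁻¹) * (y * x⁻¹ * y⁻¹) := by group
    _ = (x' * y * x'⁻¹ * y⁻¹) * x * (y * x⁻¹ * y⁻¹) := by rw [hc x]
    _ = (x' * y * x'⁻¹ * y⁻¹) * (x * y * x⁻¹ * y⁻¹) := by group
    _ = x * y * x⁻¹ * y⁻¹ * (x' * y * x'⁻¹ * y⁻¹) := (hc _).symm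

/-- The commutator pairing on `M / Z` with values in the centre. -/
theorem c6ep_pairing {G : Type*} [Group G] (M Z : Subgroup G) [hN : (Z.subgroupOf M).Normal]
    (hZc : ∀ z ∈ Z, ∀ x : G, x * z = z * x)
    (hcomm : ∀ x ∈ M, ∀ y ∈ M, x * y * x⁻¹ * y⁻¹ ∈ Z) :
    ∃ B : (M ⧸ Z.subgroupOf M) →* (M ⧸ Z.subgroupOf M) →* Subgroup.center G,
      ∀ x y : M, ((B (x : M ⧸ Z.subgroupOf M) (y : M ⧸ Z.subgroupOf M) : Subgroup.center G) : G)
        = x.1 * y.1 * x.1⁻¹ * y.1⁻¹ := by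
  have hZcen : ∀ z ∈ Z, z ∈ Subgroup.center G :=
    fun z hz => Subgroup.mem_center_iff.2 (fun x => hZc z hz x)
  let e₁ : M → (M →* Subgroup.center G) := fun x =>
    MonoidHom.mk' (fun y => ⟨x.1 * y.1 * x.1⁻¹ * y.1⁻¹, hZcen _ (hcomm x.1 x.2 y.1 y.2)⟩)
      (fun y y' => Subtype.ext
        (c6ep_mul_right x.1 y.1 y'.1 (hZc _ (hcomm x.1 x.2 y'.1 y'.2))))
  have he₁ : ∀ x y : M, ((e₁ x y : Subgroup.center G) : G) = x.1 * y.1 * x.1⁻¹ * y.1⁻¹ :=
    fun _ _ => rfl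
  have he₁Z : ∀ x : M, Z.subgroupOf M ≤ (e₁ x).ker := by
    intro x z hz
    rw [MonoidHom.mem_ker]
    apply Subtype.ext
    rw [he₁]
    have hz' : (z : G) ∈ Z := Subgroup.mem_subgroupOf.1 hz
    rw [hZc z.1 hz' x.1]
    simp
  let e₂ : M →* (M ⧸ Z.subgroupOf M →* Subgroup.center G) :=
    MonoidHom.mk' (fun x => QuotientGroup.lift (Z.subgroupOf M) (e₁ x) (he₁Z x))
      (fun x x' => by
        apply MonoidHom.ext
        intro a
        obtain ⟨y, rfl⟩ := QuotientGroup.mk_surjective a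
        apply Subtype.ext
        simp only [QuotientGroup.lift_mk, MonoidHom.mul_apply, Subgroup.coe_mul, he₁]
        exact c6ep_mul_left x.1 x'.1 y.1 (hZc _ (hcomm x'.1 x'.2 y.1 y.2)))
  have he₂Z : Z.subgroupOf M ≤ e₂.ker := by
    intro z hz
    rw [MonoidHom.mem_ker]
    apply MonoidHom.ext
    intro a
    obtain ⟨y, rfl⟩ := QuotientGroup.mk_surjective a
    apply Subtype.ext
    have hz' : (z : G) ∈ Z := Subgroup.mem_subgroupOf.1 hz
    show z.1 * y.1 * z.1⁻¹ * y.1⁻¹ = 1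
    rw [← hZc z.1 hz' y.1]
    simp
  exact ⟨QuotientGroup.lift (Z.subgroupOf M) e₂ he₂Z, fun x y => rfl⟩

/-- Conjugation by `g` on `M / Z`. -/
theorem c6ep_phi {G : Type*} [Group G] (M Z : Subgroup G) [hN : (Z.subgroupOf M).Normal]
    (hZc : ∀ z ∈ Z, ∀ x : G, x * z = z * x) (g : G) (hgM : ∀ x, x ∈ M → g * x * g⁻¹ ∈ M) :
    ∃ Φ : (M ⧸ Z.subgroupOf M) →* (M ⧸ Z.subgroupOf M),
      ∀ (x : M) (hx : g * x.1 * g⁻¹ ∈ M),
        Φ (x : M ⧸ Z.subgroupOf M) = ((⟨g * x.1 * g⁻¹, hx⟩ : M) : M ⧸ Z.subgroupOf M) := by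
  let φM : M →* M := MonoidHom.mk' (fun x => ⟨g * x.1 * g⁻¹, hgM _ x.2⟩)
    (fun a b => Subtype.ext (by
      show g * (a.1 * b.1) * g⁻¹ = g * a.1 * g⁻¹ * (g * b.1 * g⁻¹)
      group))
  have hker : Z.subgroupOf M ≤ (Z.subgroupOf M).comap φM := by
    intro z hz
    rw [Subgroup.mem_comap, Subgroup.mem_subgroupOf]
    have hz' : (z : G) ∈ Z := Subgroup.mem_subgroupOf.1 hz
    have : ((φM z : M) : G) = z := by
      show g * z.1 * g⁻¹ = z.1
      rw [hZc z.1 hz' g, mul_inv_cancel_right]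
    rw [this]
    exact hz'
  exact ⟨QuotientGroup.map _ _ φM hker, fun x hx => rfl⟩

theorem c6e_polar {G : Type*} [Group G] (M Z : Subgroup G) (hZM : Z ≤ M)
    (hZc : ∀ z ∈ Z, ∀ x : G, x * z = z * x)
    (hcomm : ∀ x ∈ M, ∀ y ∈ M, x * y * x⁻¹ * y⁻¹ ∈ Z)
    (hcent : ∀ h ∈ M, (∀ x ∈ M, x * h = h * x) → h ∈ Z)
    (m ϖ : ℕ) (hcop : Nat.Coprime m ϖ) (hodd : Odd ϖ)
    (hexp : ∀ x ∈ M, x ^ m ∈ Z)
    (g : G) (hgM : ∀ x, x ∈ M ↔ g * x * g⁻¹ ∈ M) (hgϖ : g ^ ϖ = 1)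
    (hH : ∀ x ∈ M, Commute (x⁻¹ * g * x * g⁻¹) (g * (x⁻¹ * g * x * g⁻¹) * g⁻¹)) :
    ∀ y ∈ M, y⁻¹ * g * y * g⁻¹ ∈ Z := by
  have hN : (Z.subgroupOf M).Normal := ⟨fun n hn x => by
    rw [Subgroup.mem_subgroupOf] at hn ⊢
    have h : ((x * n * x⁻¹ : M) : G) = (n : G) := by
      rw [Subgroup.coe_mul, Subgroup.coe_mul, Subgroup.coe_inv, hZc _ hn, mul_inv_cancel_right]
    rw [h]
    exact hn⟩
  obtain ⟨B, hB⟩ := c6ep_pairing M Z hZc hcomm
  obtain ⟨Φ, hΦ⟩ := c6ep_phi M Z hZc g (fun x hx => (hgM x).1 hx)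
  have hA : ∀ a b : M ⧸ Z.subgroupOf M, a * b = b * a := by
    intro a b
    obtain ⟨x, rfl⟩ := QuotientGroup.mk_surjective a
    obtain ⟨y, rfl⟩ := QuotientGroup.mk_surjective b
    rw [← QuotientGroup.mk_mul, ← QuotientGroup.mk_mul, QuotientGroup.eq,
      Subgroup.mem_subgroupOf]
    have := hcomm _ (y⁻¹).2 _ (x⁻¹).2
    simpa [mul_assoc] using this
  have hone : ((1 : Subgroup.center G) : G) = 1 := rfl
  have key : ∀ a : M ⧸ Z.subgroupOf M, Φ a = a := by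
    refine c6ep_abs_mul hA B ?_ Φ ?_ ?_ m ϖ hcop hodd ?_ ?_ ?_
    · -- alternating
      intro a
      obtain ⟨x, rfl⟩ := QuotientGroup.mk_surjective a
      apply Subtype.ext
      rw [hB, hone]
      simp
    · -- invariance
      intro a b
      obtain ⟨x, rfl⟩ := QuotientGroup.mk_surjective a
      obtain ⟨y, rfl⟩ := QuotientGroup.mk_surjective b
      rw [hΦ x ((hgM _).1 x.2), hΦ y ((hgM _).1 y.2)]
      apply Subtype.ext
      rw [hB, hB]
      show g * x.1 * g⁻¹ * (g * y.1 * g⁻¹) * (g * x.1 * g⁻¹)⁻¹ * (g * y.1 * g⁻¹)⁻¹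
        = x.1 * y.1 * x.1⁻¹ * y.1⁻¹
      calc g * x.1 * g⁻¹ * (g * y.1 * g⁻¹) * (g * x.1 * g⁻¹)⁻¹ * (g * y.1 * g⁻¹)⁻¹
          = g * (x.1 * y.1 * x.1⁻¹ * y.1⁻¹) * g⁻¹ := by group
        _ = x.1 * y.1 * x.1⁻¹ * y.1⁻¹ := by
          rw [hZc _ (hcomm x.1 x.2 y.1 y.2) g, mul_inv_cancel_right]
    · -- nondegenerate
      intro h hh
      obtain ⟨k, rfl⟩ := QuotientGroup.mk_surjective h
      rw [QuotientGroup.eq_one_iff, Subgroup.mem_subgroupOf]
      apply hcent k.1 k.2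
      intro x hx
      have h1 := congrArg Subtype.val (hh ((⟨x, hx⟩ : M) : M ⧸ Z.subgroupOf M))
      rw [hB] at h1
      have h2 : x * k.1 * x⁻¹ * k.1⁻¹ = 1 := h1.trans hone
      calc x * k.1 = (x * k.1 * x⁻¹ * k.1⁻¹) * k.1 * x := by group
        _ = k.1 * x := by rw [h2, one_mul]
    · -- exponent
      intro a
      obtain ⟨x, rfl⟩ := QuotientGroup.mk_surjective a
      rw [← QuotientGroup.mk_pow, QuotientGroup.eq_one_iff, Subgroup.mem_subgroupOf,
        Subgroup.coe_pow]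
      exact hexp x.1 x.2
    · -- order
      intro a
      obtain ⟨x, rfl⟩ := QuotientGroup.mk_surjective a
      have claim : ∀ (k : ℕ) (x : M), ∃ x' : M, (x' : G) = g ^ k * x.1 * (g ^ k)⁻¹ ∧
          Φ^[k] (x : M ⧸ Z.subgroupOf M) = (x' : M ⧸ Z.subgroupOf M) := by
        intro k
        induction k with
        | zero => intro x; exact ⟨x, by simp, rfl⟩
        | succ k ih =>
          intro x
          obtain ⟨x', hx', hk⟩ := ih x
          refine ⟨⟨g * x'.1 * g⁻¹, (hgM _).1 x'.2⟩, ?_, ?_⟩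
          · show g * x'.1 * g⁻¹ = g ^ (k + 1) * x.1 * (g ^ (k + 1))⁻¹
            rw [hx', pow_succ']
            group
          · rw [Function.iterate_succ_apply', hk, hΦ x' ((hgM _).1 x'.2)]
      obtain ⟨x', hx', hk⟩ := claim ϖ x
      rw [hk]
      congr 1
      apply Subtype.ext
      rw [hx', hgϖ]
      simp
    · -- the hypothesis
      intro a
      obtain ⟨x, rfl⟩ := QuotientGroup.mk_surjective a
      have hmem : x.1⁻¹ * g * x.1 * g⁻¹ ∈ M := by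
        have := M.mul_mem (M.inv_mem x.2) ((hgM x.1).1 x.2)
        simpa [mul_assoc] using this
      have e1 : Φ (x : M ⧸ Z.subgroupOf M) / (x : M ⧸ Z.subgroupOf M)
          = ((⟨x.1⁻¹ * g * x.1 * g⁻¹, hmem⟩ : M) : M ⧸ Z.subgroupOf M) := by
        rw [hΦ x ((hgM _).1 x.2), div_eq_mul_inv, hA, ← QuotientGroup.mk_inv,
          ← QuotientGroup.mk_mul]
        congr 1
        apply Subtype.ext
        simp [mul_assoc]
      rw [e1, hΦ _ ((hgM _).1 hmem)]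
      apply Subtype.ext
      rw [hB, hone]
      show x.1⁻¹ * g * x.1 * g⁻¹ * (g * (x.1⁻¹ * g * x.1 * g⁻¹) * g⁻¹) * (x.1⁻¹ * g * x.1 * g⁻¹)⁻¹
        * (g * (x.1⁻¹ * g * x.1 * g⁻¹) * g⁻¹)⁻¹ = 1
      rw [(hH x.1 x.2).eq]
      group
  intro y hy
  have h := (key ((⟨y, hy⟩ : M) : M ⧸ Z.subgroupOf M)).symm
  rw [hΦ ⟨y, hy⟩ ((hgM y).1 hy), QuotientGroup.eq, Subgroup.mem_subgroupOf] at h
  simpa [mul_assoc] using h

end Cfsg.Agent.Helper51
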