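import Mathlib
import Cfsg.Agent.Helper1.C9Defs

/-!
# CALL S1376 / C9 (helper1), piece G5 (`c9_Gfin`), double by helper51

`N' := (Q ⊓ C(D)) ⊔ K` is `L`-invariant and lies strictly between `Q ⊓ C(D)` and `Q`.
-/

set_option autoImplicit false

namespace Cfsg.Agent.Helper51

open Cfsg Subgroup

universe u

variable {G : Type u} [Group G] [Finite G]

/-- a subgroup whose elements conjugate `N'` into itself normalizes `N'` -/
theorem c9g5_le_norm {X N' : Subgroup G} (h : ∀ g ∈ X, ∀ n ∈ N', g * n * g⁻¹ ∈ N') :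
    X ≤ normalizer (N' : Set G) := by
  intro g hg
  rw [mem_normalizer_iff]
  intro n
  constructor
  · exact h g hg n
  · intro hn
    have h1 := h g⁻¹ (X.inv_mem hg) _ hn
    have h2 : g⁻¹ * (g * n * g⁻¹) * g⁻¹⁻¹ = n := by group
    rw [h2] at h1
    exact h1

/-- conjugation by `g` maps `A ⊔ B` into itself if it does so on `A` and on `B` -/
theorem c9g5_conj_sup {A B : Subgroup G} {g : G} (hA : ∀ a ∈ A, g * a * g⁻¹ ∈ A ⊔ B)
    (hB : ∀ b ∈ B, g * b * g⁻¹ ∈ A ⊔ B) : ∀ n ∈ A ⊔ B, g * n * g⁻¹ ∈ A ⊔ B := by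
  intro n hn
  have hle : A ⊔ B ≤ (A ⊔ B).comap (MulAut.conj g).toMonoidHom := by
    apply sup_le
    · intro a ha
      exact hA a ha
    · intro b hb
      exact hB b hb
  exact hle hn

/-- `|D ⊔ Z| ≤ |D| |Z|` when `Z` normalizes `D` -/
theorem c9g5_card_sup_le {D Z : Subgroup G} (h : Z ≤ normalizer (D : Set G)) :
    Nat.card ↥(D ⊔ Z) ≤ Nat.card D * Nat.card Z := by
  rw [← Nat.card_prod]
  let f : D × Z → ↥(D ⊔ Z) := fun dz =>
    ⟨(dz.1 : G) * (dz.2 : G), mul_mem (mem_sup_left dz.1.2) (mem_sup_right dz.2.2)⟩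
  apply Nat.card_le_card_of_surjective f
  rintro ⟨y, hy⟩
  have hy' : y ∈ ((D ⊔ Z : Subgroup G) : Set G) := hy
  rw [Subgroup.coe_mul_of_right_le_normalizer_left D Z h] at hy'
  obtain ⟨d, hd, z, hz, rfl⟩ := hy'
  exact ⟨(⟨d, hd⟩, ⟨z, hz⟩), rfl⟩

/-- G5 (pure).  `N' := (Q ⊓ C(D)) ⊔ K` is normalized by `KL` (normalizes `Q ⊓ C(D)`, centralizes
`K`), by `D` and by `Q` (`a n a⁻¹ = (a n a⁻¹ n⁻¹) n`), hence by `L`; `Q ⊓ C(D) < N'` by `hdisj`, and
`N' < Q` by orders (`|N'| ≤ |Q ⊓ C(D)| |K| < |Q|`): against `hmin`. -/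
theorem c9_Gfin {L K KL Q D : Subgroup G} (hK1 : K ≠ ⊥) (hKp : (Nat.card K).Prime)
    (hKL : 2 ≤ Nat.card KL) (hKQ : K ≤ Q) (hLle : L ≤ KL ⊔ (Q ⊔ D)) (hKLL : KL ≤ L)
    (hLn₀ : L ≤ normalizer ((Q ⊓ centralizer (D : Set G) : Subgroup G) : Set G))
    (hcomm : ∀ a ∈ Q, ∀ b ∈ Q, a * b * a⁻¹ * b⁻¹ ∈ Q ⊓ centralizer (D : Set G))
    (hmin : ∀ N' : Subgroup G, Q ⊓ centralizer (D : Set G) < N' → N' < Q →
      ¬ L ≤ normalizer (N' : Set G))
    (hcard : Nat.card Q = Nat.card ↥(Q ⊓ centralizer (D : Set G)) * Nat.card K ^ Nat.card KL)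
    (hdisj : K ⊓ (Q ⊓ centralizer (D : Set G)) = ⊥) (hDK : D ≤ normalizer (K : Set G))
    (hDL : D ≤ L) (hKLK : KL ≤ centralizer (K : Set G)) : False := by
  obtain ⟨C, hC⟩ : ∃ C : Subgroup G, C = Q ⊓ centralizer (D : Set G) := ⟨_, rfl⟩
  rw [← hC] at hLn₀ hcomm hmin hcard hdisj
  have hCQ : C ≤ Q := by
    rw [hC]
    exact inf_le_left
  have hQC : Q ≤ normalizer (C : Set G) := by
    apply c9g5_le_norm
    intro a ha c hc
    have h1 := hcomm a ha c (hCQ hc)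
    have h2 : a * c * a⁻¹ = (a * c * a⁻¹ * c⁻¹) * c := by group
    rw [h2]
    exact C.mul_mem h1 hc
  have hKC : K ≤ normalizer (C : Set G) := hKQ.trans hQC
  have hNQ : C ⊔ K ≤ Q := sup_le hCQ hKQ
  have hlt1 : C < C ⊔ K := by
    refine lt_of_le_of_ne le_sup_left ?_
    intro h
    have hKleC : K ≤ C := by
      rw [h]
      exact le_sup_right
    have hKbot : K = ⊥ := by
      rw [← hdisj]
      exact (inf_eq_left.mpr hKleC).symm
    exact hK1 hKbot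
  have hlt2 : C ⊔ K < Q := by
    refine lt_of_le_of_ne hNQ ?_
    intro h
    have h1 := c9g5_card_sup_le hKC
    rw [h, hcard] at h1
    have hCpos : 0 < Nat.card C := Nat.card_pos
    have h2 : Nat.card K ^ Nat.card KL ≤ Nat.card K := Nat.le_of_mul_le_mul_left h1 hCpos
    have h3 : Nat.card K ^ 2 ≤ Nat.card K ^ Nat.card KL := Nat.pow_le_pow_right hKp.pos hKL
    have h4 : 2 ≤ Nat.card K := hKp.two_le
    have h5 : Nat.card K ^ 2 ≤ Nat.card K := h3.trans h2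
    nlinarith
  refine hmin (C ⊔ K) hlt1 hlt2 (hLle.trans (sup_le ?_ (sup_le ?_ ?_)))
  · apply c9g5_le_norm
    intro g hg
    apply c9g5_conj_sup
    · intro c hc
      exact mem_sup_left ((mem_normalizer_iff.mp (hLn₀ (hKLL hg)) c).mp hc)
    · intro k hk
      have h1 : g * k * g⁻¹ = k := by
        rw [← (mem_centralizer_iff.mp (hKLK hg)) k hk, mul_inv_cancel_right]
      rw [h1]
      exact mem_sup_right hk
  · apply c9g5_le_norm
    intro a ha n hn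
    have h1 := hcomm a ha n (hNQ hn)
    have h2 : a * n * a⁻¹ = (a * n * a⁻¹ * n⁻¹) * n := by group
    rw [h2]
    exact (C ⊔ K).mul_mem (mem_sup_left h1) hn
  · apply c9g5_le_norm
    intro g hg
    apply c9g5_conj_sup
    · intro c hc
      exact mem_sup_left ((mem_normalizer_iff.mp (hLn₀ (hDL hg)) c).mp hc)
    · intro k hk
      exact mem_sup_right ((mem_normalizer_iff.mp (hDK hg) k).mp hk)

end Cfsg.Agent.Helper51
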