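import Cfsg.Agent.Helper51.AutElem2
import Cfsg.Agent.Helper34.PCons1
import Cfsg.Agent.Helper48.CharP
import Cfsg.Agent.Helper32.RankTwoE
import Cfsg.Agent.Helper87.Meta2B
import Cfsg.Agent.Helper64.MetaFrattini
import Cfsg.Agent.Helper86.TateCore
import Cfsg.Agent.Helper54.PConstrained2

set_option autoImplicit false

/-!
# `X / O₂(X)` embeds in `A₈` for `2`-constrained `X` with `O(X) = 1` and `O₂(X)` of sectional
rank at most `4` (helper51)
-/

namespace Cfsg.Agent.Helper51

open Cfsg
open scoped commutatorElement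

/-- A `p`-constrained group with trivial `p'`-core satisfies `C(O_p) ≤ O_p`. -/
theorem ca8_centralizer_le {p : ℕ} [Fact p.Prime] {X : Type*} [Group X] [Finite X]
    (hc : IsPConstrained p X) (hO : pPrimeCore p X = ⊥) :
    Subgroup.centralizer (pCore p X : Set X) ≤ pCore p X := by
  have h1 := (Cfsg.Agent.Helper34.isPConstrained_iff_centralizer_pCore_le p X).mp hc
  have e : X ⧸ pPrimeCore p X ≃* X :=
    (QuotientGroup.quotientMulEquivOfEq hO).trans QuotientGroup.quotientBot
  exact Cfsg.Agent.Helper48.centralizer_pCore_le_of_mulEquiv e h1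

/-- In a group of sectional `p`-rank at most `k`, an abelian quotient of exponent `p` has order at
most `p ^ k`. -/
theorem ca8_card_quotient_le {p k : ℕ} {Q : Type*} [Group Q] (h : SectionalPRankLE p k Q)
    (N : Subgroup Q) [N.Normal] (hcomm : ∀ a b : Q ⧸ N, a * b = b * a)
    (hexp : ∀ a : Q ⧸ N, a ^ p = 1) : Nat.card (Q ⧸ N) ≤ p ^ k := by
  haveI : (N.subgroupOf ⊤).Normal := Subgroup.normal_subgroupOf
  have h1 := h ⊤ (N.subgroupOf ⊤)
  have he : (N.subgroupOf ⊤).map (Subgroup.topEquiv : (⊤ : Subgroup Q) ≃* Q).toMonoidHom = N := by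
    ext x
    constructor
    · rintro ⟨⟨y, hy'⟩, hy, rfl⟩
      exact hy
    · intro hx
      exact ⟨⟨x, Subgroup.mem_top x⟩, hx, rfl⟩
  let e : (⊤ : Subgroup Q) ⧸ N.subgroupOf ⊤ ≃* Q ⧸ N :=
    QuotientGroup.congr (N.subgroupOf ⊤) N Subgroup.topEquiv he
  have h2 := h1 ⊤ ⟨⟨fun a b => by
      apply Subtype.ext
      apply e.injective
      show e ((a : (⊤ : Subgroup Q) ⧸ N.subgroupOf ⊤) * b) = e (b * a)
      rw [map_mul, map_mul]
      exact hcomm _ _⟩⟩ (fun a _ => by
      apply e.injective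
      rw [map_pow, map_one]
      exact hexp _)
  rw [Subgroup.card_top] at h2
  rw [← Nat.card_congr e.toEquiv]
  exact h2

/-- **S3103.** -/
theorem ca8_main {X : Type*} [Group X] [Finite X] (hc : IsPConstrained 2 X)
    (hO : oddCore X = ⊥) (h4 : SectionalPRankLE 2 4 ↥(pCore 2 X)) :
    ∃ f : X ⧸ pCore 2 X →* ↥(alternatingGroup (Fin 8)), Function.Injective f := by
  haveI : Fact (Nat.Prime 2) := ⟨Nat.prime_two⟩
  have hcent : Subgroup.centralizer (pCore 2 X : Set X) ≤ pCore 2 X := ca8_centralizer_le hc hO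
  have hQ : IsPGroup 2 (pCore 2 X) := Cfsg.Agent.Helper48.isPGroup_pCore 2 X
  -- the Frattini quotient
  have hV2 : ∀ v : (pCore 2 X) ⧸ frattini (pCore 2 X), v ^ 2 = 1 := by
    intro v
    induction v using QuotientGroup.induction_on with
    | H x =>
      rw [← QuotientGroup.mk_pow, QuotientGroup.eq_one_iff]
      exact Cfsg.Agent.Helper64.pow_prime_mem_frattini_of_pgroup hQ x
  have hVcomm : ∀ a b : (pCore 2 X) ⧸ frattini (pCore 2 X), a * b = b * a := by
    intro a b
    have ha : a⁻¹ = a := by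
      rw [inv_eq_iff_mul_eq_one, ← pow_two]; exact hV2 a
    have hb : b⁻¹ = b := by
      rw [inv_eq_iff_mul_eq_one, ← pow_two]; exact hV2 b
    have hab : (a * b)⁻¹ = a * b := by
      rw [inv_eq_iff_mul_eq_one, ← pow_two]; exact hV2 (a * b)
    calc a * b = (a * b)⁻¹ := hab.symm
      _ = b⁻¹ * a⁻¹ := mul_inv_rev a b
      _ = b * a := by rw [ha, hb]
  have hVc : Nat.card ((pCore 2 X) ⧸ frattini (pCore 2 X)) ≤ 16 :=
    ca8_card_quotient_le h4 (frattini (pCore 2 X)) hVcomm hV2
  obtain ⟨g, hg⟩ := ae2_embed hV2 hVc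
  -- the kernel of the action
  have hker1 : pCore 2 X ≤ (Cfsg.Agent.Helper32.frattiniQuotAct (pCore 2 X)).ker := by
    intro q hq
    rw [MonoidHom.mem_ker]
    ext v
    induction v using QuotientGroup.induction_on with
    | H d =>
      rw [Cfsg.Agent.Helper32.frattiniQuotAct_mk, MulAut.one_apply]
      apply QuotientGroup.eq.mpr
      apply Cfsg.Agent.Helper86.commutator_le_frattini hQ
      have e : (MulAut.conjNormal q d)⁻¹ * d = ⁅(⟨q, hq⟩ : pCore 2 X), d⁻¹⁆ := by
        apply Subtype.ext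
        simp [MulAut.conjNormal_apply, commutatorElement_def, mul_assoc]
      rw [e, commutator_def]
      exact Subgroup.commutator_mem_commutator (Subgroup.mem_top _) (Subgroup.mem_top _)
  have hker2 : (Cfsg.Agent.Helper32.frattiniQuotAct (pCore 2 X)).ker ≤ pCore 2 X := by
    apply Cfsg.Agent.Helper48.le_pCore inferInstance
    apply Cfsg.Agent.Helper54.isPGroup_of_forall_coprime_eq_one
    intro y hy hyc
    -- the automorphism induced by `y`
    have hβm : (MulAut.conjNormal y : MulAut (pCore 2 X)) ^ orderOf y = 1 := by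
      rw [← map_pow, pow_orderOf_eq_one, map_one]
    have hβ : (MulAut.conjNormal y : MulAut (pCore 2 X)) = 1 := by
      by_contra hne
      obtain ⟨x, hx⟩ := Cfsg.Agent.Helper87.exists_not_mem_frattini_of_odd_aut hQ
        (MulAut.conjNormal y) (orderOf y) (Nat.Coprime.odd_of_right hyc) hβm hne
      apply hx
      have h1 : Cfsg.Agent.Helper32.frattiniQuotAct (pCore 2 X) y (QuotientGroup.mk x) =
          QuotientGroup.mk x := by
        rw [MonoidHom.mem_ker.mp hy]
        rfl
      rw [Cfsg.Agent.Helper32.frattiniQuotAct_mk, QuotientGroup.eq_iff_div_mem] at h1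
      rw [← div_eq_mul_inv]
      exact h1
    have hyC : y ∈ Subgroup.centralizer (pCore 2 X : Set X) := by
      rw [Subgroup.mem_centralizer_iff]
      intro d hd
      have h1 := congrArg (fun β : MulAut (pCore 2 X) => ((β ⟨d, hd⟩ : pCore 2 X) : X)) hβ
      simp only [MulAut.conjNormal_apply, MulAut.one_apply] at h1
      calc d * y = (y * d * y⁻¹) * y := by rw [h1]
        _ = y * d := by group
    have hyQ := hcent hyC
    obtain ⟨k, hk⟩ := hQ ⟨y, hyQ⟩
    have hk' : y ^ 2 ^ k = 1 := congrArg Subtype.val hk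
    have h1 : orderOf y ∣ 2 ^ k := orderOf_dvd_of_pow_eq_one hk'
    have h2 : orderOf y = 1 :=
      Nat.eq_one_of_dvd_coprimes (Nat.Coprime.pow_right k hyc) dvd_rfl h1
    exact orderOf_eq_one_iff.mp h2
  refine ⟨g.comp (QuotientGroup.lift (pCore 2 X)
    (Cfsg.Agent.Helper32.frattiniQuotAct (pCore 2 X)) hker1), hg.comp ?_⟩
  intro a b hab
  induction a using QuotientGroup.induction_on with
  | H a =>
    induction b using QuotientGroup.induction_on with
    | H b =>
      simp only [QuotientGroup.lift_mk] at hab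
      apply QuotientGroup.eq.mpr
      apply hker2
      rw [MonoidHom.mem_ker, map_mul, map_inv, hab, inv_mul_cancel]

end Cfsg.Agent.Helper51
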