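import Mathlib
import Cfsg.Prelude.Def_GeometricClasses
import Cfsg.Prelude.Def_LieTypeDatum
import Cfsg.Agent.Helper43.GraphEven
import Cfsg.Agent.Helper41.GABilSim

/-!
# PIECE PGSpChar2 of CALL S2701 (helper51): over a finite field of characteristic two the
projective conformal symplectic group is the symplectic group.
-/

set_option autoImplicit false

namespace Cfsg.Agent.Helper51

open Matrix Module Cfsg.Agent.Helper43.GraphEven

/-- A similarity of `sympForm` with multiplier `c` satisfies `gᵀ J g = c J`. -/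
theorem ge_symp_sim_matrix {F : Type*} [Field F] (m : ℕ)
    (g : Matrix (Fin m ⊕ Fin m) (Fin m ⊕ Fin m) F) (c : F)
    (hc : ∀ u v : Fin m ⊕ Fin m → F,
      Cfsg.sympForm m F (g *ᵥ u) (g *ᵥ v) = c * Cfsg.sympForm m F u v) :
    gᵀ * Matrix.J (Fin m) F * g = c • Matrix.J (Fin m) F := by
  ext i j
  have h1 := hc (Pi.single i 1) (Pi.single j 1)
  unfold Cfsg.sympForm at h1
  rw [Cfsg.Agent.Helper41.gabil_key] at h1
  simpa using h1

theorem ge_symp_sim_of_matrix {F : Type*} [Field F] (m : ℕ)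
    (g : Matrix (Fin m ⊕ Fin m) (Fin m ⊕ Fin m) F) (c : F)
    (hc : gᵀ * Matrix.J (Fin m) F * g = c • Matrix.J (Fin m) F)
    (u v : Fin m ⊕ Fin m → F) :
    Cfsg.sympForm m F (g *ᵥ u) (g *ᵥ v) = c * Cfsg.sympForm m F u v := by
  unfold Cfsg.sympForm
  rw [Cfsg.Agent.Helper41.gabil_key, hc, Matrix.smul_mulVec, dotProduct_smul, smul_eq_mul]

theorem ge_sq_eq_one_char2 {F : Type*} [Field F] (h2 : (2 : F) = 0) (c : F) (hc : c * c = 1) :
    c = 1 := by
  have h1 : (c - 1) * (c - 1) = 0 := by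
    linear_combination hc - c * h2 + h2
  have h3 := mul_self_eq_zero.1 h1
  exact sub_eq_zero.1 h3

theorem pgsp_iso_sp_char2 {F : Type*} [Field F] [Finite F] (h2 : (2 : F) = 0) (m : ℕ) :
    Nonempty (Cfsg.PGSp m F ≃* ↥(Matrix.symplecticGroup (Fin m) F)) := by
  have hchar : ringChar F = 2 :=
    CharP.ringChar_of_prime_eq_zero Nat.prime_two (by exact_mod_cast h2)
  -- embed Sp into GSp
  let ι₀ : ↥(Matrix.symplecticGroup (Fin m) F) →* GL (Fin m ⊕ Fin m) F :=
    (Units.map (Matrix.symplecticGroup (Fin m) F).subtype).comp toUnits.toMonoidHom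
  have hι₀ : ∀ s : ↥(Matrix.symplecticGroup (Fin m) F), (ι₀ s).val = s.1 := fun s => rfl
  have hmem : ∀ s : ↥(Matrix.symplecticGroup (Fin m) F), ι₀ s ∈ Cfsg.GSp m F := by
    intro s
    refine ⟨1, fun u v => ?_⟩
    rw [Units.val_one]
    apply ge_symp_sim_of_matrix
    rw [hι₀, SymplecticGroup.mem_iff'.1 s.2, one_smul]
  let ι : ↥(Matrix.symplecticGroup (Fin m) F) →* ↥(Cfsg.GSp m F) := ι₀.codRestrict _ hmem
  have hι : ∀ s : ↥(Matrix.symplecticGroup (Fin m) F), (ι s).1.val = s.1 := fun s => rfl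
  let Ψ : ↥(Matrix.symplecticGroup (Fin m) F) →* Cfsg.PGSp m F :=
    (QuotientGroup.mk' ((Cfsg.Geo.scalars (Fin m ⊕ Fin m) F).subgroupOf (Cfsg.GSp m F))).comp ι
  have hinj : Function.Injective Ψ := by
    rw [injective_iff_map_eq_one]
    intro s hs
    have h1 : ι s ∈ (Cfsg.Geo.scalars (Fin m ⊕ Fin m) F).subgroupOf (Cfsg.GSp m F) :=
      (QuotientGroup.eq_one_iff _).1 hs
    rw [Subgroup.mem_subgroupOf, Cfsg.Geo.mem_scalars_iff] at h1
    obtain ⟨c, hc⟩ := h1
    rw [hι] at hc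
    apply Subtype.ext
    have hs2 := SymplecticGroup.mem_iff'.1 s.2
    rw [hc, Matrix.transpose_smul, Matrix.transpose_one, Matrix.smul_mul, Matrix.one_mul,
      Matrix.mul_smul, Matrix.mul_one, smul_smul] at hs2
    show s.1 = 1
    rw [hc]
    ext i j
    obtain ⟨i₀⟩ : Nonempty (Fin m) := by
      rcases i with i | i <;> exact ⟨i⟩
    have h3 := congrFun (congrFun hs2 (Sum.inl i₀)) (Sum.inr i₀)
    have hJ : Matrix.J (Fin m) F (Sum.inl i₀) (Sum.inr i₀) = -1 := by
      simp [Matrix.J]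
    rw [Matrix.smul_apply, hJ, smul_eq_mul] at h3
    have h4 : (c : F) * (c : F) = 1 := by linear_combination -h3
    rw [ge_sq_eq_one_char2 h2 _ h4, one_smul]
  have hsurj : Function.Surjective Ψ := by
    intro x
    induction x using QuotientGroup.induction_on with
    | H g =>
      obtain ⟨c, hc⟩ := g.2
      have hmat := ge_symp_sim_matrix m g.1.val (c : F) hc
      obtain ⟨a, ha⟩ := FiniteField.isSquare_of_char_two hchar (c : F)
      have ha0 : a ≠ 0 := by
        rintro rfl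
        rw [mul_zero] at ha
        exact c.ne_zero ha
      have hsmem : a⁻¹ • g.1.val ∈ Matrix.symplecticGroup (Fin m) F := by
        rw [SymplecticGroup.mem_iff', Matrix.transpose_smul, Matrix.smul_mul, Matrix.smul_mul,
          Matrix.mul_smul, smul_smul, hmat, smul_smul, ha]
        have : a⁻¹ * a⁻¹ * (a * a) = 1 := by field_simp
        rw [this, one_smul]
      obtain ⟨s₀, hs₀⟩ : ∃ s₀ : ↥(Matrix.symplecticGroup (Fin m) F), s₀.1 = a⁻¹ • g.1.val :=
        ⟨⟨_, hsmem⟩, rfl⟩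
      refine ⟨s₀, ?_⟩
      show (QuotientGroup.mk (ι s₀) : Cfsg.PGSp m F) = QuotientGroup.mk g
      rw [QuotientGroup.eq, Subgroup.mem_subgroupOf, Cfsg.Geo.mem_scalars_iff]
      refine ⟨Units.mk0 a ha0, ?_⟩
      rw [Units.val_mk0, Subgroup.coe_mul, Subgroup.coe_inv, Units.val_mul]
      have h5 : g.1.val = (ι s₀).1.val *
          (a • (1 : Matrix (Fin m ⊕ Fin m) (Fin m ⊕ Fin m) F)) := by
        rw [hι, hs₀, Matrix.mul_smul, Matrix.mul_one, smul_smul, mul_inv_cancel₀ ha0, one_smul]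
      conv_lhs => rw [h5]
      rw [← Matrix.mul_assoc, ← Units.val_mul, inv_mul_cancel, Units.val_one, Matrix.one_mul]
  exact ⟨(MulEquiv.ofBijective Ψ ⟨hinj, hsurj⟩).symm⟩

end Cfsg.Agent.Helper51
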