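import Mathlib
import Cfsg.Prelude.Def_GeometricClasses
import Cfsg.Prelude.Def_LieTypeDatum
import Cfsg.Agent.Helper43.GraphEven
import Cfsg.Agent.Helper41.GABilSim
import Cfsg.Agent.Helper51.GBSimDSp
import Cfsg.Agent.Helper51.GEPGSpChar2

/-!
# PIECE EvenBlock of CALL S2701 (helper51): structure of the similarities of the symmetric
non-alternating form `J + E_rr` in characteristic two.
-/

set_option autoImplicit false

namespace Cfsg.Agent.Helper51

open Matrix Module Cfsg.Agent.Helper43.GraphEven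

/-- The elementary matrix `E_ab` applied to a vector. -/
theorem ge_E_mulVec {F : Type*} [Field F] {κ : Type*} [Fintype κ] [DecidableEq κ] (a b : κ)
    (y : κ → F) :
    (Matrix.of fun i j => if i = a ∧ j = b then (1 : F) else 0) *ᵥ y = Pi.single a (y b) := by
  ext i
  simp only [Matrix.mulVec, dotProduct, Matrix.of_apply]
  by_cases hi : i = a
  · subst hi
    simp
  · simp [hi]

theorem ge_J_col_inr {F : Type*} [Field F] {m : ℕ} (i₀ : Fin m) (k : Fin m ⊕ Fin m) :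
    Matrix.J (Fin m) F k (Sum.inr i₀) = if k = Sum.inl i₀ then -1 else 0 := by
  rcases k with i | i
  · simp only [Matrix.J, Matrix.fromBlocks_apply₁₂, Matrix.neg_apply, Matrix.one_apply,
      Sum.inl.injEq]
    split_ifs <;> simp
  · simp [Matrix.J]

theorem ge_nMat_form {F : Type*} [Field F] {m : ℕ} (i₀ : Fin m) (x y : Fin m ⊕ Fin m → F) :
    x ⬝ᵥ (nMat F i₀ *ᵥ y) =
      x ⬝ᵥ (Matrix.J (Fin m) F *ᵥ y) + x (Sum.inr i₀) * y (Sum.inr i₀) := by
  unfold nMat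
  rw [Matrix.add_mulVec, dotProduct_add, ge_E_mulVec, dotProduct_single]

theorem simN_block {F : Type*} [Field F] [Finite F] (h2 : (2 : F) = 0) {m : ℕ} (i₀ : Fin m)
    (g : GL (Fin m ⊕ Fin m) F)
    (hg : g ∈ Cfsg.Geo.similarityGroup (fun u v : Fin m ⊕ Fin m → F => u ⬝ᵥ (nMat F i₀ *ᵥ v))) :
    (g : Matrix (Fin m ⊕ Fin m) (Fin m ⊕ Fin m) F) (Sum.inr i₀) (Sum.inr i₀) ≠ 0 ∧
    (∀ j, j ≠ Sum.inr i₀ → (g : Matrix (Fin m ⊕ Fin m) (Fin m ⊕ Fin m) F) (Sum.inr i₀) j = 0) ∧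
    ((g : Matrix (Fin m ⊕ Fin m) (Fin m ⊕ Fin m) F) (Sum.inr i₀) (Sum.inr i₀))⁻¹ •
      (g : Matrix (Fin m ⊕ Fin m) (Fin m ⊕ Fin m) F) ∈ Matrix.symplecticGroup (Fin m) F ∧
    (((g : Matrix (Fin m ⊕ Fin m) (Fin m ⊕ Fin m) F) (Sum.inr i₀) (Sum.inr i₀))⁻¹ •
      (g : Matrix (Fin m ⊕ Fin m) (Fin m ⊕ Fin m) F)) * tMat F i₀ =
    tMat F i₀ * (((g : Matrix (Fin m ⊕ Fin m) (Fin m ⊕ Fin m) F) (Sum.inr i₀) (Sum.inr i₀))⁻¹ •
      (g : Matrix (Fin m ⊕ Fin m) (Fin m ⊕ Fin m) F)) := by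
  obtain ⟨c, hc⟩ := hg
  obtain ⟨G, hG⟩ : ∃ G : Matrix (Fin m ⊕ Fin m) (Fin m ⊕ Fin m) F, G = g.val := ⟨_, rfl⟩
  rw [← hG] at hc ⊢
  have hc' : ∀ u v : Fin m ⊕ Fin m → F,
      (G *ᵥ u) ⬝ᵥ (Matrix.J (Fin m) F *ᵥ (G *ᵥ v)) +
        (G *ᵥ u) (Sum.inr i₀) * (G *ᵥ v) (Sum.inr i₀) =
      (c : F) * (u ⬝ᵥ (Matrix.J (Fin m) F *ᵥ v) + u (Sum.inr i₀) * v (Sum.inr i₀)) := by
    intro u v
    rw [← ge_nMat_form, ← ge_nMat_form]
    exact hc u v
  -- row r of G
  have hrow : ∀ j, G (Sum.inr i₀) j * G (Sum.inr i₀) j =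
      (c : F) * (if j = Sum.inr i₀ then 1 else 0) := by
    intro j
    have h1 := hc' (Pi.single j 1) (Pi.single j 1)
    rw [gb_J_alt, gb_J_alt, zero_add, zero_add, Matrix.mulVec_single_one, Matrix.col_apply] at h1
    rw [h1]
    by_cases hj : j = Sum.inr i₀
    · subst hj
      simp
    · have : (Sum.inr i₀ : Fin m ⊕ Fin m) ≠ j := fun h => hj h.symm
      simp [hj, this]
  have haa : G (Sum.inr i₀) (Sum.inr i₀) * G (Sum.inr i₀) (Sum.inr i₀) = (c : F) := by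
    rw [hrow, if_pos rfl, mul_one]
  have ha0 : G (Sum.inr i₀) (Sum.inr i₀) ≠ 0 := by
    intro h0
    rw [h0, mul_zero] at haa
    exact c.ne_zero haa.symm
  have hrow0 : ∀ j, j ≠ Sum.inr i₀ → G (Sum.inr i₀) j = 0 := by
    intro j hj
    have h1 := hrow j
    rw [if_neg hj, mul_zero] at h1
    exact mul_self_eq_zero.1 h1
  have hGr : ∀ v : Fin m ⊕ Fin m → F,
      (G *ᵥ v) (Sum.inr i₀) = G (Sum.inr i₀) (Sum.inr i₀) * v (Sum.inr i₀) := by
    intro v
    rw [Matrix.mulVec, dotProduct, Finset.sum_eq_single (Sum.inr i₀)]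
    · intro j _ hj
      rw [hrow0 j hj, zero_mul]
    · intro h
      exact absurd (Finset.mem_univ _) h
  -- G is a similarity of J
  have hJ : Gᵀ * Matrix.J (Fin m) F * G = (c : F) • Matrix.J (Fin m) F := by
    apply ge_symp_sim_matrix
    intro u v
    unfold Cfsg.sympForm
    have h1 := hc' u v
    rw [hGr, hGr] at h1
    linear_combination h1 - (u (Sum.inr i₀) * v (Sum.inr i₀)) * haa
  have hsmem : (G (Sum.inr i₀) (Sum.inr i₀))⁻¹ • G ∈ Matrix.symplecticGroup (Fin m) F := by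
    rw [SymplecticGroup.mem_iff', Matrix.transpose_smul, Matrix.smul_mul, Matrix.smul_mul,
      Matrix.mul_smul, smul_smul, hJ, smul_smul, ← haa]
    have : (G (Sum.inr i₀) (Sum.inr i₀))⁻¹ * (G (Sum.inr i₀) (Sum.inr i₀))⁻¹ *
        (G (Sum.inr i₀) (Sum.inr i₀) * G (Sum.inr i₀) (Sum.inr i₀)) = 1 := by
      field_simp
    rw [this, one_smul]
  refine ⟨ha0, hrow0, hsmem, ?_⟩
  obtain ⟨h, hh⟩ : ∃ h : Matrix (Fin m ⊕ Fin m) (Fin m ⊕ Fin m) F,
      h = (G (Sum.inr i₀) (Sum.inr i₀))⁻¹ • G := ⟨_, rfl⟩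
  rw [← hh] at hsmem ⊢
  have hhr : ∀ j, h (Sum.inr i₀) j = if j = Sum.inr i₀ then 1 else 0 := by
    intro j
    rw [hh, Matrix.smul_apply, smul_eq_mul]
    by_cases hj : j = Sum.inr i₀
    · subst hj
      rw [if_pos rfl, inv_mul_cancel₀ ha0]
    · rw [if_neg hj, hrow0 j hj, mul_zero]
  have hhl : ∀ i, h i (Sum.inl i₀) = if i = Sum.inl i₀ then 1 else 0 := by
    intro i
    have h1 := congrFun (congrFun (SymplecticGroup.mem_iff.1 hsmem) i) (Sum.inr i₀)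
    rw [Matrix.mul_apply, Finset.sum_eq_single (Sum.inr i₀), Matrix.transpose_apply, hhr,
      if_pos rfl, mul_one, Matrix.mul_apply, Finset.sum_eq_single (Sum.inl i₀), ge_J_col_inr,
      if_pos rfl, ge_J_col_inr] at h1
    · by_cases hi : i = Sum.inl i₀
      · rw [if_pos hi] at h1 ⊢
        linear_combination -h1
      · rw [if_neg hi] at h1 ⊢
        linear_combination -h1
    · intro k _ hk
      rw [ge_J_col_inr, if_neg hk, mul_zero]
    · intro hn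
      exact absurd (Finset.mem_univ _) hn
    · intro k _ hk
      rw [Matrix.transpose_apply, hhr, if_neg hk, mul_zero]
    · intro hn
      exact absurd (Finset.mem_univ _) hn
  unfold tMat
  rw [Matrix.mul_add, Matrix.add_mul, Matrix.mul_one, Matrix.one_mul]
  congr 1
  ext i j
  rw [Matrix.mul_apply, Matrix.mul_apply, Finset.sum_eq_single (Sum.inl i₀),
    Finset.sum_eq_single (Sum.inr i₀)]
  · simp only [Matrix.of_apply, hhr, hhl]
    by_cases hi : i = Sum.inl i₀ <;> by_cases hj : j = Sum.inr i₀ <;> simp [hi, hj]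
  · intro k _ hk
    simp [Matrix.of_apply, hk]
  · intro hn
    exact absurd (Finset.mem_univ _) hn
  · intro k _ hk
    simp [Matrix.of_apply, hk]
  · intro hn
    exact absurd (Finset.mem_univ _) hn

end Cfsg.Agent.Helper51
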