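import Mathlib
import Cfsg.Prelude.Def_GeometricClasses
import Cfsg.Prelude.Def_LieTypeDatum
import Cfsg.Agent.Helper43.GraphEven
import Cfsg.Agent.Helper41.GABilSim
import Cfsg.Agent.Helper51.GBSimDSp
import Cfsg.Agent.Helper51.GEPGSpChar2
import Cfsg.Agent.Helper51.GEEvenBlock

/-!
# PIECE EvenSurj of CALL S2701 (helper51): a symplectic matrix commuting with the transvection
`1 + E_lr` is an isometry of the form `J + E_rr` (characteristic two).
-/

set_option autoImplicit false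

namespace Cfsg.Agent.Helper51

open Matrix Module Cfsg.Agent.Helper43.GraphEven

/-- Entries of `s * E_lr` and `E_lr * s`. -/
theorem ge_mul_E_apply {F : Type*} [Field F] {κ : Type*} [Fintype κ] [DecidableEq κ] (a b : κ)
    (s : Matrix κ κ F) (i j : κ) :
    (s * Matrix.of fun i j => if i = a ∧ j = b then (1 : F) else 0) i j =
      if j = b then s i a else 0 := by
  rw [Matrix.mul_apply, Finset.sum_eq_single a]
  · by_cases hj : j = b <;> simp [hj]
  · intro k _ hk
    simp [hk]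
  · intro hn
    exact absurd (Finset.mem_univ _) hn

theorem ge_E_mul_apply {F : Type*} [Field F] {κ : Type*} [Fintype κ] [DecidableEq κ] (a b : κ)
    (s : Matrix κ κ F) (i j : κ) :
    ((Matrix.of fun i j => if i = a ∧ j = b then (1 : F) else 0) * s) i j =
      if i = a then s b j else 0 := by
  rw [Matrix.mul_apply, Finset.sum_eq_single b]
  · by_cases hi : i = a <;> simp [hi]
  · intro k _ hk
    simp [hk]
  · intro hn
    exact absurd (Finset.mem_univ _) hn

theorem simN_surj {F : Type*} [Field F] [Finite F] (h2 : (2 : F) = 0) {m : ℕ} (i₀ : Fin m)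
    (s : Matrix (Fin m ⊕ Fin m) (Fin m ⊕ Fin m) F) (hs : s ∈ Matrix.symplecticGroup (Fin m) F)
    (hcomm : s * tMat F i₀ = tMat F i₀ * s) :
    ∃ g : GL (Fin m ⊕ Fin m) F, (g : Matrix (Fin m ⊕ Fin m) (Fin m ⊕ Fin m) F) = s ∧
      g ∈ Cfsg.Geo.similarityGroup (fun u v : Fin m ⊕ Fin m → F => u ⬝ᵥ (nMat F i₀ *ᵥ v)) ∧
      s (Sum.inr i₀) (Sum.inr i₀) = 1 := by
  have hE : s * (Matrix.of fun i j => if i = Sum.inl i₀ ∧ j = Sum.inr i₀ then (1 : F) else 0) =
      (Matrix.of fun i j => if i = Sum.inl i₀ ∧ j = Sum.inr i₀ then (1 : F) else 0) * s := by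
    unfold tMat at hcomm
    rw [Matrix.mul_add, Matrix.add_mul, Matrix.mul_one, Matrix.one_mul] at hcomm
    exact add_left_cancel hcomm
  have hent : ∀ i j : Fin m ⊕ Fin m,
      (if j = Sum.inr i₀ then s i (Sum.inl i₀) else 0) =
        if i = Sum.inl i₀ then s (Sum.inr i₀) j else 0 := by
    intro i j
    rw [← ge_mul_E_apply, ← ge_E_mul_apply, hE]
  -- row r
  have hrow0 : ∀ j, j ≠ Sum.inr i₀ → s (Sum.inr i₀) j = 0 := by
    intro j hj
    have h1 := hent (Sum.inl i₀) j
    rw [if_neg hj, if_pos rfl] at h1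
    exact h1.symm
  have hll : s (Sum.inl i₀) (Sum.inl i₀) = s (Sum.inr i₀) (Sum.inr i₀) := by
    have h1 := hent (Sum.inl i₀) (Sum.inr i₀)
    rw [if_pos rfl, if_pos rfl] at h1
    exact h1
  have hrr : s (Sum.inr i₀) (Sum.inr i₀) = 1 := by
    have h1 := congrFun (congrFun (SymplecticGroup.mem_iff.1 hs) (Sum.inl i₀)) (Sum.inr i₀)
    rw [Matrix.mul_apply, Finset.sum_eq_single (Sum.inr i₀), Matrix.transpose_apply,
      Matrix.mul_apply, Finset.sum_eq_single (Sum.inl i₀), ge_J_col_inr,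
      if_pos rfl, hll] at h1
    · apply ge_sq_eq_one_char2 h2
      linear_combination -h1
    · intro k _ hk
      rw [ge_J_col_inr, if_neg hk, mul_zero]
    · intro hn
      exact absurd (Finset.mem_univ _) hn
    · intro k _ hk
      rw [Matrix.transpose_apply, hrow0 k hk, mul_zero]
    · intro hn
      exact absurd (Finset.mem_univ _) hn
  have hsr : ∀ v : Fin m ⊕ Fin m → F, (s *ᵥ v) (Sum.inr i₀) = v (Sum.inr i₀) := by
    intro v
    rw [Matrix.mulVec, dotProduct, Finset.sum_eq_single (Sum.inr i₀), hrr, one_mul]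
    · intro j _ hj
      rw [hrow0 j hj, zero_mul]
    · intro h
      exact absurd (Finset.mem_univ _) h
  have hsdet : IsUnit s.det := SymplecticGroup.symplectic_det hs
  refine ⟨⟨s, s⁻¹, Matrix.mul_nonsing_inv _ hsdet, Matrix.nonsing_inv_mul _ hsdet⟩, rfl, ?_, hrr⟩
  refine ⟨1, fun u v => ?_⟩
  show (s *ᵥ u) ⬝ᵥ (nMat F i₀ *ᵥ (s *ᵥ v)) = ((1 : Fˣ) : F) * (u ⬝ᵥ (nMat F i₀ *ᵥ v))
  rw [ge_nMat_form, ge_nMat_form, hsr, hsr, Units.val_one, one_mul]
  have h3 := ge_symp_sim_of_matrix m s 1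
    (by rw [SymplecticGroup.mem_iff'.1 hs, one_smul]) u v
  unfold Cfsg.sympForm at h3
  rw [h3, one_mul]

end Cfsg.Agent.Helper51
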