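import Mathlib
import Cfsg.Prelude.Def_GeometricClasses
import Cfsg.Prelude.Def_LieTypeDatum
import Cfsg.Agent.Helper43.GraphEven
import Cfsg.Agent.Helper51.GEEvenBlock
import Cfsg.Agent.Helper51.GEEvenSurj

/-!
# PIECE EvenIso of CALL S2701 (helper51): the similarity group of `J + E_rr` modulo scalars is the
centraliser in the symplectic group of the transvection `1 + E_lr` (characteristic two).
-/

set_option autoImplicit false

namespace Cfsg.Agent.Helper51

open Matrix Module Cfsg.Agent.Helper43.GraphEven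

theorem simN_iso_cent {F : Type*} [Field F] [Finite F] (h2 : (2 : F) = 0) {m : ℕ} (i₀ : Fin m)
    (t : ↥(Matrix.symplecticGroup (Fin m) F))
    (ht : (t : Matrix (Fin m ⊕ Fin m) (Fin m ⊕ Fin m) F) = tMat F i₀) :
    Nonempty (Cfsg.projQuot (Cfsg.Geo.similarityGroup
      (fun u v : Fin m ⊕ Fin m → F => u ⬝ᵥ (nMat F i₀ *ᵥ v))) ≃*
        ↥(Subgroup.centralizer ({t} : Set ↥(Matrix.symplecticGroup (Fin m) F)))) := by
  obtain ⟨H, hHdef⟩ : ∃ H : Subgroup (GL (Fin m ⊕ Fin m) F), H = Cfsg.Geo.similarityGroup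
      (fun u v : Fin m ⊕ Fin m → F => u ⬝ᵥ (nMat F i₀ *ᵥ v)) := ⟨_, rfl⟩
  rw [← hHdef]
  have hstruct : ∀ g : GL (Fin m ⊕ Fin m) F, g ∈ H →
      g.val (Sum.inr i₀) (Sum.inr i₀) ≠ 0 ∧
      (∀ j, j ≠ Sum.inr i₀ → g.val (Sum.inr i₀) j = 0) ∧
      (g.val (Sum.inr i₀) (Sum.inr i₀))⁻¹ • g.val ∈ Matrix.symplecticGroup (Fin m) F ∧
      ((g.val (Sum.inr i₀) (Sum.inr i₀))⁻¹ • g.val) * tMat F i₀ =
        tMat F i₀ * ((g.val (Sum.inr i₀) (Sum.inr i₀))⁻¹ • g.val) := by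
    intro g hg
    rw [hHdef] at hg
    exact simN_block h2 i₀ g hg
  have hcent : ∀ s : ↥(Matrix.symplecticGroup (Fin m) F),
      s ∈ Subgroup.centralizer ({t} : Set ↥(Matrix.symplecticGroup (Fin m) F)) ↔
        s.1 * tMat F i₀ = tMat F i₀ * s.1 := by
    intro s
    rw [Subgroup.mem_centralizer_iff]
    constructor
    · intro h
      have h1 := congrArg Subtype.val (h t rfl)
      rw [Submonoid.coe_mul, Submonoid.coe_mul, ht] at h1
      exact h1.symm
    · intro h x hx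
      rw [Set.mem_singleton_iff] at hx
      subst hx
      apply Subtype.ext
      rw [Submonoid.coe_mul, Submonoid.coe_mul, ht]
      exact h.symm
  -- the homomorphism
  let φ : ↥H → ↥(Subgroup.centralizer ({t} : Set ↥(Matrix.symplecticGroup (Fin m) F))) :=
    fun g => ⟨⟨(g.1.val (Sum.inr i₀) (Sum.inr i₀))⁻¹ • g.1.val, (hstruct g.1 g.2).2.2.1⟩,
      (hcent _).2 (hstruct g.1 g.2).2.2.2⟩
  have hφ : ∀ g : ↥H, (φ g).1.1 = (g.1.val (Sum.inr i₀) (Sum.inr i₀))⁻¹ • g.1.val :=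
    fun _ => rfl
  have hmul : ∀ g g' : ↥H, φ (g * g') = φ g * φ g' := by
    intro g g'
    apply Subtype.ext
    apply Subtype.ext
    rw [Subgroup.coe_mul, Submonoid.coe_mul, hφ, hφ, hφ]
    have e3 : (g * g').1.val (Sum.inr i₀) (Sum.inr i₀) =
        g.1.val (Sum.inr i₀) (Sum.inr i₀) * g'.1.val (Sum.inr i₀) (Sum.inr i₀) := by
      rw [Subgroup.coe_mul, Units.val_mul, Matrix.mul_apply, Finset.sum_eq_single (Sum.inr i₀)]
      · intro k _ hk
        rw [(hstruct g.1 g.2).2.1 k hk, zero_mul]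
      · intro hn
        exact absurd (Finset.mem_univ _) hn
    rw [e3, Subgroup.coe_mul, Units.val_mul, Matrix.smul_mul, Matrix.mul_smul, smul_smul, mul_inv]
  let Φ : ↥H →* ↥(Subgroup.centralizer ({t} : Set ↥(Matrix.symplecticGroup (Fin m) F))) :=
    MonoidHom.mk' φ hmul
  have hΦ : ∀ g : ↥H, (Φ g).1.1 = (g.1.val (Sum.inr i₀) (Sum.inr i₀))⁻¹ • g.1.val :=
    fun _ => rfl
  -- surjective
  have hsurj : Function.Surjective Φ := by
    intro s
    obtain ⟨g₀, hg₀, hmem, hrr⟩ := simN_surj h2 i₀ s.1.1 s.1.2 ((hcent s.1).1 s.2)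
    rw [← hHdef] at hmem
    refine ⟨⟨g₀, hmem⟩, ?_⟩
    apply Subtype.ext
    apply Subtype.ext
    rw [hΦ]
    show (g₀.val (Sum.inr i₀) (Sum.inr i₀))⁻¹ • g₀.val = _
    rw [show g₀.val = s.1.1 from hg₀, hrr, inv_one, one_smul]
  -- kernel
  have hker : Φ.ker = (Cfsg.Geo.scalars (Fin m ⊕ Fin m) F).subgroupOf H := by
    ext g
    rw [MonoidHom.mem_ker, Subgroup.mem_subgroupOf, Cfsg.Geo.mem_scalars_iff]
    obtain ⟨ha0, -, -, -⟩ := hstruct g.1 g.2
    constructor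
    · intro h
      have h1 : (Φ g).1.1 = (1 : Matrix (Fin m ⊕ Fin m) (Fin m ⊕ Fin m) F) := by
        rw [h]; rfl
      rw [hΦ] at h1
      have h3 : g.1.val =
          (g.1.val (Sum.inr i₀) (Sum.inr i₀)) •
            (1 : Matrix (Fin m ⊕ Fin m) (Fin m ⊕ Fin m) F) := by
        have h4 := congrArg
          (fun X => (g.1.val (Sum.inr i₀) (Sum.inr i₀)) • X) h1
        simp only [smul_smul, mul_inv_cancel₀ ha0, one_smul] at h4
        exact h4
      exact ⟨Units.mk0 _ ha0, by rw [Units.val_mk0]; exact h3⟩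
    · rintro ⟨c, hc⟩
      apply Subtype.ext
      apply Subtype.ext
      rw [hΦ, hc, Matrix.smul_apply, Matrix.one_apply_eq, smul_eq_mul, mul_one, smul_smul,
        inv_mul_cancel₀ c.ne_zero, one_smul]
      rfl
  exact ⟨(QuotientGroup.quotientMulEquivOfEq hker.symm).trans
    (QuotientGroup.quotientKerEquivOfSurjective Φ hsurj)⟩

end Cfsg.Agent.Helper51
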