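import Mathlib
import Cfsg.Prelude.Def_GeometricClasses
import Cfsg.Prelude.Def_LieTypeDatum
import Cfsg.Agent.Helper43.GraphEven
import Cfsg.Agent.Helper51.GEEvenBlock
import Cfsg.Agent.Helper51.GEEvenSurj

/-!
# PIECE EvenT of CALL S2701 (helper51): `1 + E_lr` is a symplectic transvection.
-/

set_option autoImplicit false

namespace Cfsg.Agent.Helper51

open Matrix Module Cfsg.Agent.Helper43.GraphEven

theorem ge_tMat_blocks {F : Type*} [Field F] {m : ℕ} (i₀ : Fin m) :
    tMat F i₀ = Matrix.fromBlocks (1 : Matrix (Fin m) (Fin m) F)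
      (Matrix.of fun i j => if i = i₀ ∧ j = i₀ then (1 : F) else 0) 0 1 := by
  ext i j
  rcases i with i | i <;> rcases j with j | j <;>
    simp [tMat, Matrix.one_apply]

theorem ge_tMat_sub_one {F : Type*} [Field F] {m : ℕ} (i₀ : Fin m) :
    tMat F i₀ - 1 =
      Matrix.of fun i j => if i = Sum.inl i₀ ∧ j = Sum.inr i₀ then (1 : F) else 0 := by
  unfold tMat
  rw [add_sub_cancel_left]

theorem tMat_props {F : Type*} [Field F] {m : ℕ} (i₀ : Fin m) :
    tMat F i₀ ∈ Matrix.symplecticGroup (Fin m) F ∧ Cfsg.IsTransvection (tMat F i₀) := by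
  refine ⟨?_, ?_, ?_⟩
  · have hD : (Matrix.of fun i j => if i = i₀ ∧ j = i₀ then (1 : F) else 0 :
        Matrix (Fin m) (Fin m) F)ᵀ = Matrix.of fun i j => if i = i₀ ∧ j = i₀ then (1 : F) else 0 := by
      ext i j
      simp [Matrix.transpose_apply, and_comm]
    rw [SymplecticGroup.mem_iff', ge_tMat_blocks, Matrix.fromBlocks_transpose, Matrix.J,
      Matrix.fromBlocks_multiply, Matrix.fromBlocks_multiply, hD]
    simp
  · rw [ge_tMat_sub_one]
    apply le_antisymm
    · have h1 : (Matrix.of fun i j => if i = Sum.inl i₀ ∧ j = Sum.inr i₀ then (1 : F) else 0 :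
          Matrix (Fin m ⊕ Fin m) (Fin m ⊕ Fin m) F) =
          Matrix.vecMulVec (Pi.single (Sum.inl i₀) (1 : F)) (Pi.single (Sum.inr i₀) (1 : F)) := by
        ext i j
        rw [Matrix.vecMulVec_apply, Matrix.of_apply, Pi.single_apply, Pi.single_apply]
        by_cases hi : i = Sum.inl i₀ <;> by_cases hj : j = Sum.inr i₀ <;> simp [hi, hj]
      rw [h1]
      exact Matrix.rank_vecMulVec_le _ _
    · rw [Nat.one_le_iff_ne_zero]
      intro h
      unfold Matrix.rank at h
      rw [Submodule.finrank_eq_zero, LinearMap.range_eq_bot] at h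
      have h2 := congrFun (LinearMap.congr_fun h (Pi.single (Sum.inr i₀) 1)) (Sum.inl i₀)
      rw [Matrix.mulVecLin_apply, ge_E_mulVec] at h2
      simp at h2
  · rw [ge_tMat_sub_one]
    ext i j
    rw [ge_mul_E_apply]
    simp

end Cfsg.Agent.Helper51
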