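import Mathlib
import Cfsg.Prelude.Def_GeometricClasses
import Cfsg.Prelude.Def_LieTypeDatum
import Cfsg.Agent.Helper43.GraphEven
import Cfsg.Agent.Helper51.GBSimDSp
import Cfsg.Agent.Helper51.GEEvenBlock
import Cfsg.Agent.Helper51.GEEvenSurj
import Cfsg.Agent.Helper51.GEEvenT

/-!
# PIECE EvenN of CALL S2701 (helper51): `J + E_rr` is symmetric, non-singular and non-alternating
in characteristic two.
-/

set_option autoImplicit false

namespace Cfsg.Agent.Helper51

open Matrix Module Cfsg.Agent.Helper43.GraphEven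

theorem ge_J_col_inl {F : Type*} [Field F] {m : ℕ} (i₀ : Fin m) (k : Fin m ⊕ Fin m) :
    Matrix.J (Fin m) F k (Sum.inl i₀) = if k = Sum.inr i₀ then 1 else 0 := by
  rcases k with i | i
  · simp [Matrix.J]
  · simp [Matrix.J, Matrix.one_apply]

theorem ge_nMat_eq_J_mul_tMat {F : Type*} [Field F] {m : ℕ} (i₀ : Fin m) :
    nMat F i₀ = Matrix.J (Fin m) F * tMat F i₀ := by
  unfold nMat tMat
  rw [Matrix.mul_add, Matrix.mul_one]
  congr 1
  ext i j
  rw [ge_mul_E_apply, ge_J_col_inl, Matrix.of_apply]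
  by_cases hi : i = Sum.inr i₀ <;> by_cases hj : j = Sum.inr i₀ <;> simp [hi, hj]

theorem nMat_props {F : Type*} [Field F] (h2 : (2 : F) = 0) {m : ℕ} (i₀ : Fin m) :
    (nMat F i₀)ᵀ = nMat F i₀ ∧ (nMat F i₀).det ≠ 0 ∧ nMat F i₀ (Sum.inr i₀) (Sum.inr i₀) ≠ 0 := by
  refine ⟨?_, ?_, ?_⟩
  · have hneg : -Matrix.J (Fin m) F = Matrix.J (Fin m) F := by
      ext i j
      rw [Matrix.neg_apply, neg_eq_iff_add_eq_zero, ← two_mul, h2, zero_mul]
    unfold nMat
    rw [Matrix.transpose_add, Matrix.J_transpose, hneg]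
    congr 1
    ext i j
    simp [Matrix.transpose_apply, and_comm]
  · rw [ge_nMat_eq_J_mul_tMat, Matrix.det_mul]
    exact mul_ne_zero (gb_J_det_ne m) (SymplecticGroup.symplectic_det (tMat_props i₀).1).ne_zero
  · have h1 : nMat F i₀ (Sum.inr i₀) (Sum.inr i₀) = 1 := by
      simp [nMat, Matrix.J]
    rw [h1]
    exact one_ne_zero

end Cfsg.Agent.Helper51
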