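import Mathlib
import Cfsg.Agent.Helper51.HWTate

set_option autoImplicit false

/-!
Helper51: Hall–Wielandt, part 6: complements.

* `hw_engel_norm_eq`, `hw_engel_norm_sub_eq`: the collection formula modulo `p` as an identity,
  `∏_{i<p} ψ (c^i t) = ψ [t, c; p - 1]` for homomorphisms `ψ` to commutative groups of exponent
  `p`.
* `hw_inf_commutator_le`: Tate's theorem modulo `p` in commutator form: if every homomorphism from
  `H ≥ P` to a commutative group of exponent `p` kills `P ∩ G'` then `P ∩ G' ≤ H'`.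
-/

namespace Cfsg.Agent.Helper51

open Finset
open scoped commutatorElement

universe u

/-- The collection formula modulo `p` (type version). -/
theorem hw_engel_norm_eq {T : Type*} [Group T] {A : Type*} [CommGroup A] {p : ℕ} [Fact p.Prime]
    (hA : ∀ a : A, a ^ p = 1) (c : T →* T) (ψ : T →* A) (t : T) :
    ∏ i ∈ range p, ψ (c^[i] t) = ψ ((fun y : T => y⁻¹ * c y)^[p - 1] t) := by
  classical
  let _ : Module (ZMod p) (Additive A) := AddCommGroup.zmodModule (n := p) (by
    intro a
    have h1 := hA (Additive.toMul a)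
    have h2 : p • a = Additive.ofMul ((Additive.toMul a) ^ p) := rfl
    rw [h2, h1]
    rfl)
  let ξ : Module.End (ZMod p) (T → Additive A) := LinearMap.funLeft (ZMod p) (Additive A) c
  have hξ : ∀ (Ψ : T → Additive A) (s : T), ξ Ψ s = Ψ (c s) := fun Ψ s => rfl
  have hpow : ∀ (i : ℕ) (Ψ : T → Additive A), (ξ ^ i) Ψ = fun s => Ψ (c^[i] s) := by
    intro i
    induction i with
    | zero => intro Ψ; rfl
    | succ i ih =>
      intro Ψ
      rw [pow_succ, Module.End.mul_apply, ih]
      funext s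
      rw [Function.iterate_succ_apply', hξ]
  have hsub : ∀ (k : ℕ) (φ : T →* A),
      ((ξ - 1) ^ k) (fun s => Additive.ofMul (φ s)) =
        fun s => Additive.ofMul (φ ((fun y : T => y⁻¹ * c y)^[k] s)) := by
    intro k
    induction k with
    | zero => intro φ; rfl
    | succ k ih =>
      intro φ
      rw [pow_succ, Module.End.mul_apply]
      have h1 : (ξ - 1) (fun s => Additive.ofMul (φ s)) =
          fun s => Additive.ofMul ((φ.comp c / φ) s) := by
        funext s
        rw [LinearMap.sub_apply, Module.End.one_apply, Pi.sub_apply, hξ]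
        rfl
      rw [h1, ih]
      funext s
      rw [Function.iterate_succ_apply']
      congr 1
      rw [MonoidHom.div_apply, MonoidHom.comp_apply, map_mul, map_inv, div_eq_mul_inv, mul_comm]
  have h1 := hw_geom (p := p) ξ
  have h2 : ((ξ - 1) ^ (p - 1)) (fun s => Additive.ofMul (ψ s)) t =
      (∑ i ∈ range p, ξ ^ i) (fun s => Additive.ofMul (ψ s)) t := by rw [h1]
  rw [hsub] at h2
  beta_reduce at h2
  rw [LinearMap.sum_apply, Finset.sum_apply] at h2
  have h3 : ∀ i ∈ range p, (ξ ^ i) (fun s => Additive.ofMul (ψ s)) t =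
      Additive.ofMul (ψ (c^[i] t)) := by
    intro i _
    rw [hpow]
  rw [Finset.sum_congr rfl h3, ← ofMul_prod] at h2
  exact (Additive.ofMul.injective h2).symm

/-- The collection formula modulo `p` for a subgroup normalised by `z`. -/
theorem hw_engel_norm_sub_eq {G : Type*} [Group G] {A : Type*} [CommGroup A] {p : ℕ}
    [Fact p.Prime] (hA : ∀ a : A, a ^ p = 1) (T : Subgroup G) (z : G)
    (hz : ∀ t ∈ T, z⁻¹ * t * z ∈ T)
    (φ : G → A) (hφ : ∀ a ∈ T, ∀ b ∈ T, φ (a * b) = φ a * φ b) (t : G) (ht : t ∈ T) :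
    ∏ i ∈ range p, φ ((z ^ i)⁻¹ * t * z ^ i) =
      φ ((fun y : G => y⁻¹ * z⁻¹ * y * z)^[p - 1] t) := by
  let c : T →* T :=
    { toFun := fun y => ⟨z⁻¹ * (y : G) * z, hz y y.2⟩
      map_one' := by
        apply Subtype.ext
        show z⁻¹ * ((1 : T) : G) * z = ((1 : T) : G)
        rw [Subgroup.coe_one, mul_one, inv_mul_cancel]
      map_mul' := by
        intro a b
        apply Subtype.ext
        show z⁻¹ * ((a * b : T) : G) * z = (z⁻¹ * (a : G) * z) * (z⁻¹ * (b : G) * z)
        rw [Subgroup.coe_mul]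
        group }
  have hφ1 : φ 1 = 1 := by
    have h1 := hφ 1 T.one_mem 1 T.one_mem
    rw [mul_one] at h1
    exact left_eq_mul.mp h1
  let ψ : T →* A :=
    { toFun := fun y => φ (y : G)
      map_one' := hφ1
      map_mul' := fun a b => hφ a a.2 b b.2 }
  have hc : ∀ (i : ℕ) (y : T), ((c^[i] y : T) : G) = (z ^ i)⁻¹ * (y : G) * z ^ i := by
    intro i
    induction i with
    | zero => intro y; simp
    | succ i ih =>
      intro y
      rw [Function.iterate_succ_apply', pow_succ]
      show z⁻¹ * ((c^[i] y : T) : G) * z = _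
      rw [ih]
      group
  have hcomm : ∀ (k : ℕ) (y : T), (((fun y : T => y⁻¹ * c y)^[k] y : T) : G) =
      (fun y : G => y⁻¹ * z⁻¹ * y * z)^[k] (y : G) := by
    intro k
    induction k with
    | zero => intro y; rfl
    | succ k ih =>
      intro y
      rw [Function.iterate_succ_apply', Function.iterate_succ_apply', ← ih]
      show (((fun y : T => y⁻¹ * c y)^[k] y : T) : G)⁻¹ *
        (z⁻¹ * (((fun y : T => y⁻¹ * c y)^[k] y : T) : G) * z) = _
      group
  have h := hw_engel_norm_eq hA c ψ ⟨t, ht⟩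
  have e1 : ∏ i ∈ range p, φ ((z ^ i)⁻¹ * t * z ^ i) = ∏ i ∈ range p, ψ (c^[i] ⟨t, ht⟩) := by
    refine Finset.prod_congr rfl (fun i _ => ?_)
    show φ _ = φ ((c^[i] ⟨t, ht⟩ : T) : G)
    rw [hc]
  rw [e1, h]
  show φ (((fun y : T => y⁻¹ * c y)^[p - 1] ⟨t, ht⟩ : T) : G) = _
  rw [hcomm]

/-- **Tate's theorem** modulo `p`, commutator form: let `P ≤ H ≤ G` with `P` a Sylow
`p`-subgroup of `G`.  If every homomorphism from `H` to a commutative group of exponent `p` kills
`P ∩ G'`, then `P ∩ G' ≤ H'`. -/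
theorem hw_inf_commutator_le {G : Type u} [Group G] [Finite G]
    {p : ℕ} [hp : Fact p.Prime] (P : Sylow p G) (H : Subgroup G)
    (hPH : (P : Subgroup G) ≤ H)
    (hfoc : ∀ (A : Type u) [CommGroup A], (∀ a : A, a ^ p = 1) → ∀ μ : H →* A,
      ∀ t : H, (t : G) ∈ (P : Subgroup G) ⊓ commutator G → μ t = 1) :
    (P : Subgroup G) ⊓ commutator G ≤ ⁅H, H⁆ := by
  have hT := hw_tate P H hPH hfoc
  haveI := Cfsg.Agent.Helper2.pResidual_normal p G
  rintro t ⟨htP, htc⟩
  let ρ : G →* G ⧸ Cfsg.pResidual p G := QuotientGroup.mk' (Cfsg.pResidual p G)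
  have hrep : ∀ g : G, ∃ h : H, ρ g = ρ h := by
    intro g
    obtain ⟨s, hs, r, hr, rfl⟩ := Cfsg.Agent.Helper2.exists_mul_of_sylow_pResidual P g
    refine ⟨⟨s, hPH hs⟩, ?_⟩
    rw [map_mul]
    have h1 : ρ r = 1 := (QuotientGroup.eq_one_iff r).mpr hr
    rw [h1, mul_one]
  have hmap : (commutator G).map ρ ≤ (⁅H, H⁆).map ρ := by
    rw [commutator_def, Subgroup.map_commutator, Subgroup.map_commutator]
    apply Subgroup.commutator_mono
    · rintro _ ⟨g, -, rfl⟩
      obtain ⟨h, hh⟩ := hrep g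
      exact ⟨h, h.2, hh.symm⟩
    · rintro _ ⟨g, -, rfl⟩
      obtain ⟨h, hh⟩ := hrep g
      exact ⟨h, h.2, hh.symm⟩
  obtain ⟨c, hc, hct⟩ := hmap ⟨t, htc, rfl⟩
  have hcH : c ∈ H := by
    have h1 : ⁅H, H⁆ ≤ H := Subgroup.commutator_le.mpr (fun a ha b hb =>
      H.mul_mem (H.mul_mem (H.mul_mem ha hb) (H.inv_mem ha)) (H.inv_mem hb))
    exact h1 hc
  have h1 : c⁻¹ * t ∈ Cfsg.pResidual p G := by
    apply (QuotientGroup.eq_one_iff (N := Cfsg.pResidual p G) (c⁻¹ * t)).mp
    show ρ (c⁻¹ * t) = 1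
    rw [map_mul, map_inv, hct, inv_mul_cancel]
  obtain ⟨r, hr, hrt⟩ := hT ⟨H.mul_mem (H.inv_mem hcH) (hPH htP), h1⟩
  have hrt' : (r : G) = c⁻¹ * t := hrt
  have hcc : (⟨c, hcH⟩ : H) ∈ commutator H := by
    rw [← Subgroup.map_subtype_commutator] at hc
    obtain ⟨c', hc', hcc⟩ := hc
    have e : c' = ⟨c, hcH⟩ := Subtype.ext hcc
    rw [← e]
    exact hc'
  have hof : Abelianization.of (⟨t, hPH htP⟩ : H) = Abelianization.of r := by
    have e : (⟨t, hPH htP⟩ : H) = ⟨c, hcH⟩ * r := by
      apply Subtype.ext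
      rw [Subgroup.coe_mul, hrt']
      show t = c * (c⁻¹ * t)
      group
    rw [e, map_mul]
    have h2 : Abelianization.of (⟨c, hcH⟩ : H) = 1 := by
      rw [← MonoidHom.mem_ker, Abelianization.ker_of]
      exact hcc
    rw [h2, one_mul]
  let B : Subgroup (Abelianization H) :=
    { carrier := {x | Nat.Coprime (orderOf x) p}
      one_mem' := by simp
      mul_mem' := by
        intro x y hx hy
        have h1 : orderOf (x * y) ∣ Nat.lcm (orderOf x) (orderOf y) :=
          (Commute.all x y).orderOf_mul_dvd_lcm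
        exact Nat.Coprime.coprime_dvd_left h1
          (Nat.Coprime.coprime_dvd_left (Nat.lcm_dvd_mul _ _) (Nat.Coprime.mul_left hx hy))
      inv_mem' := by
        intro x hx
        simpa using hx }
  have hR : Cfsg.pResidual p H ≤ B.comap Abelianization.of := by
    rw [Cfsg.pResidual, Subgroup.closure_le]
    intro g hg
    have hg' : Nat.Coprime (orderOf g) p := hg
    exact Nat.Coprime.coprime_dvd_left (orderOf_map_dvd _ g) hg'
  have h3 : Nat.Coprime (orderOf (Abelianization.of (⟨t, hPH htP⟩ : H))) p := by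
    rw [hof]
    exact hR hr
  obtain ⟨k, hk⟩ := P.2 ⟨t, htP⟩
  have hk' : (⟨t, hPH htP⟩ : H) ^ (p ^ k) = 1 := by
    apply Subtype.ext
    have := congrArg Subtype.val hk
    simpa using this
  have h4 : orderOf (Abelianization.of (⟨t, hPH htP⟩ : H)) ∣ p ^ k :=
    (orderOf_map_dvd _ _).trans (orderOf_dvd_of_pow_eq_one hk')
  have h5 : orderOf (Abelianization.of (⟨t, hPH htP⟩ : H)) = 1 :=
    Nat.Coprime.eq_one_of_dvd (Nat.Coprime.pow_right k h3) h4
  rw [orderOf_eq_one_iff] at h5
  have h6 : (⟨t, hPH htP⟩ : H) ∈ commutator H := by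
    rw [← Abelianization.ker_of]
    exact h5
  rw [← Subgroup.map_subtype_commutator]
  exact ⟨⟨t, hPH htP⟩, h6, rfl⟩

end Cfsg.Agent.Helper51
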