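import Cfsg.Prelude.Def_Transfer
import Cfsg.Prelude.Def_Solvable
import Cfsg.Agent.Helper63.N15Defs

/-!
CALL S4415 piece m4det (helper51, double): determinant of a diagonal / double-transposition
monomial map in the frame `e₁, e₂, e₃, e₄`.
-/

set_option autoImplicit false
set_option linter.unusedSectionVars false
set_option linter.unusedVariables false

namespace Cfsg.Agent.Helper51.N15

open Cfsg.Agent.Helper63.N15

variable {G : Type*} [Group G] [Finite G] {V : Type*} [AddCommGroup V] [Module (ZMod 3) V]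
  [Finite V] {ρ : Representation (ZMod 3) G V} {R : Subgroup G} {b q₁ q₂ q₃ : G} {v₁ v₂ v₃ : V}

/-- four spanning independent vectors form a basis -/
theorem m4det_basis (x₁ x₂ x₃ x₄ : V)
    (hs : ∀ v : V, ∃ c₁ c₂ c₃ c₄ : ZMod 3, v = c₁ • x₁ + c₂ • x₂ + c₃ • x₃ + c₄ • x₄)
    (hi : ∀ c₁ c₂ c₃ c₄ : ZMod 3, c₁ • x₁ + c₂ • x₂ + c₃ • x₃ + c₄ • x₄ = 0 →
      c₁ = 0 ∧ c₂ = 0 ∧ c₃ = 0 ∧ c₄ = 0) :
    ∃ B : Module.Basis (Fin 4) (ZMod 3) V, B 0 = x₁ ∧ B 1 = x₂ ∧ B 2 = x₃ ∧ B 3 = x₄ := by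
  have hli : LinearIndependent (ZMod 3) ![x₁, x₂, x₃, x₄] := by
    rw [Fintype.linearIndependent_iff]
    intro g hg
    rw [Fin.sum_univ_four] at hg
    have h := hi (g 0) (g 1) (g 2) (g 3) (by simpa using hg)
    intro i
    fin_cases i
    · exact h.1
    · exact h.2.1
    · exact h.2.2.1
    · exact h.2.2.2
  have hsp : ⊤ ≤ Submodule.span (ZMod 3) (Set.range ![x₁, x₂, x₃, x₄]) := by
    intro v _
    obtain ⟨c₁, c₂, c₃, c₄, rfl⟩ := hs v
    have m : ∀ i : Fin 4, ![x₁, x₂, x₃, x₄] i ∈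
        Submodule.span (ZMod 3) (Set.range ![x₁, x₂, x₃, x₄]) :=
      fun i => Submodule.subset_span ⟨i, rfl⟩
    exact Submodule.add_mem _ (Submodule.add_mem _ (Submodule.add_mem _
      (Submodule.smul_mem _ _ (m 0)) (Submodule.smul_mem _ _ (m 1)))
      (Submodule.smul_mem _ _ (m 2))) (Submodule.smul_mem _ _ (m 3))
  refine ⟨Module.Basis.mk hli hsp, ?_, ?_, ?_, ?_⟩ <;> rw [Module.Basis.mk_apply] <;> rfl

/-- determinant of a diagonal map -/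
theorem m4det_diag (B : Module.Basis (Fin 4) (ZMod 3) V) (f : V →ₗ[ZMod 3] V)
    (ε₁ ε₂ ε₃ ε₄ : ZMod 3) (h0 : f (B 0) = ε₁ • B 0) (h1 : f (B 1) = ε₂ • B 1)
    (h2 : f (B 2) = ε₃ • B 2) (h3 : f (B 3) = ε₄ • B 3) :
    LinearMap.det f = ε₁ * ε₂ * ε₃ * ε₄ := by
  rw [← LinearMap.det_toMatrix B]
  have hM : LinearMap.toMatrix B B f = Matrix.diagonal ![ε₁, ε₂, ε₃, ε₄] := by
    ext i j
    rw [LinearMap.toMatrix_apply]
    fin_cases j <;> fin_cases i <;>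
      simp [h0, h1, h2, h3]
  rw [hM, Matrix.det_diagonal, Fin.prod_univ_four]
  rfl

/-- determinant of a double transposition -/
theorem m4det_swap (B : Module.Basis (Fin 4) (ZMod 3) V) (f : V →ₗ[ZMod 3] V)
    (α β γ δ : ZMod 3) (h0 : f (B 0) = α • B 1) (h1 : f (B 1) = β • B 0)
    (h2 : f (B 2) = γ • B 3) (h3 : f (B 3) = δ • B 2) :
    LinearMap.det f = α * β * γ * δ := by
  rw [← LinearMap.det_toMatrix B]
  have hM : LinearMap.toMatrix B B f = !![0, β, 0, 0; α, 0, 0, 0; 0, 0, 0, δ; 0, 0, γ, 0] := by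
    ext i j
    rw [LinearMap.toMatrix_apply]
    fin_cases j <;> fin_cases i <;>
      simp [h0, h1, h2, h3]
  rw [hM]
  have hsa : Fin.succAbove (1 : Fin 4) (2 : Fin 3) = 3 := by decide
  simp [Matrix.det_succ_row_zero, Fin.sum_univ_succ, hsa]
  ring

/-- M4det. Determinant of a diagonal / double-transposition monomial map in the basis
`e₁, e₂, e₃, e₄` (build a `Module.Basis (Fin 4)` from `Mono4` and compute the `4 × 4`
determinant). -/
theorem m4det (ρ : Representation (ZMod 3) G V) (b : G) (e₁ e₂ e₃ e₄ : V)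
    (h : Mono4 ρ b e₁ e₂ e₃ e₄) (g : G) (hdet : LinearMap.det (ρ g) = 1) :
    Det4 ρ g e₁ e₂ e₃ e₄ := by
  obtain ⟨hs, hi, -⟩ := h
  refine ⟨?_, ?_, ?_, ?_⟩
  · intro ε₁ ε₂ ε₃ ε₄ k1 k2 k3 k4
    obtain ⟨B, b0, b1, b2, b3⟩ := m4det_basis e₁ e₂ e₃ e₄ hs hi
    rw [← hdet]
    exact (m4det_diag B (ρ g) ε₁ ε₂ ε₃ ε₄ (by rw [b0]; exact k1) (by rw [b1]; exact k2)
      (by rw [b2]; exact k3) (by rw [b3]; exact k4)).symm
  · intro α β γ δ k1 k2 k3 k4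
    obtain ⟨B, b0, b1, b2, b3⟩ := m4det_basis e₁ e₂ e₃ e₄ hs hi
    rw [← hdet]
    exact (m4det_swap B (ρ g) α β γ δ (by rw [b0, b1]; exact k1) (by rw [b1, b0]; exact k2)
      (by rw [b2, b3]; exact k3) (by rw [b3, b2]; exact k4)).symm
  · intro α β γ δ k1 k2 k3 k4
    obtain ⟨B, b0, b1, b2, b3⟩ := m4det_basis e₁ e₃ e₂ e₄
      (fun v => by
        obtain ⟨c₁, c₂, c₃, c₄, rfl⟩ := hs v
        exact ⟨c₁, c₃, c₂, c₄, by abel⟩)
      (fun c₁ c₂ c₃ c₄ hc => by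
        have := hi c₁ c₃ c₂ c₄ (by rw [← hc]; abel)
        exact ⟨this.1, this.2.2.1, this.2.1, this.2.2.2⟩)
    rw [← hdet]
    exact (m4det_swap B (ρ g) α β γ δ (by rw [b0, b1]; exact k1) (by rw [b1, b0]; exact k2)
      (by rw [b2, b3]; exact k3) (by rw [b3, b2]; exact k4)).symm
  · intro α β γ δ k1 k2 k3 k4
    obtain ⟨B, b0, b1, b2, b3⟩ := m4det_basis e₁ e₄ e₂ e₃
      (fun v => by
        obtain ⟨c₁, c₂, c₃, c₄, rfl⟩ := hs v
        exact ⟨c₁, c₄, c₂, c₃, by abel⟩)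
      (fun c₁ c₂ c₃ c₄ hc => by
        have := hi c₁ c₃ c₄ c₂ (by rw [← hc]; abel)
        exact ⟨this.1, this.2.2.2, this.2.1, this.2.2.1⟩)
    rw [← hdet]
    exact (m4det_swap B (ρ g) α β γ δ (by rw [b0, b1]; exact k1) (by rw [b1, b0]; exact k2)
      (by rw [b2, b3]; exact k3) (by rw [b3, b2]; exact k4)).symm

end Cfsg.Agent.Helper51.N15
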