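import Cfsg.Agent.Helper55.N9Defs

/-!
CALL S4409 (helper55), piece F1c (double): the normalizer condition inside a 2-group `Y`.
-/

set_option autoImplicit false

namespace Cfsg.Agent.Helper51.N9

open Subgroup Cfsg.Agent.Helper55.N9

variable {G : Type*} [Group G] [Finite G]

-- F1c
theorem n9_normalizer_cond (D Y : Subgroup G) (hY : IsPGroup 2 Y) (hDY : D ≤ Y)
    (h : Y ⊓ normalizer (D : Set G) ≤ D) : D = Y := by
  have hp2 : Fact (Nat.Prime 2) := ⟨Nat.prime_two⟩
  have hnil : Group.IsNilpotent ↥Y := hY.isNilpotent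
  have hnc := (normalizerCondition_iff_only_full_group_self_normalizing (G := ↥Y)).mp
    Group.normalizerCondition_of_isNilpotent
  have htop : D.subgroupOf Y = ⊤ := by
    apply hnc
    apply le_antisymm
    · intro y hy
      rw [Subgroup.mem_subgroupOf]
      apply h
      refine Subgroup.mem_inf.mpr ⟨y.2, ?_⟩
      rw [Subgroup.mem_normalizer_iff] at hy ⊢
      intro g
      constructor
      · intro hg
        have h1 := (hy ⟨g, hDY hg⟩).mp (by rw [Subgroup.mem_subgroupOf]; exact hg)
        rw [Subgroup.mem_subgroupOf] at h1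
        simpa using h1
      · intro hg
        have hgY : g ∈ Y := by
          have h1 : (y : G) * g * (y : G)⁻¹ ∈ Y := hDY hg
          have h2 := Y.mul_mem (Y.mul_mem (Y.inv_mem y.2) h1) y.2
          have e : (y : G)⁻¹ * ((y : G) * g * (y : G)⁻¹) * (y : G) = g := by group
          rwa [e] at h2
        have h1 := (hy ⟨g, hgY⟩).mpr (by rw [Subgroup.mem_subgroupOf]; simpa using hg)
        rw [Subgroup.mem_subgroupOf] at h1
        exact h1
    · exact Subgroup.le_normalizer
  apply le_antisymm hDY
  intro y hy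
  have h1 : (⟨y, hy⟩ : ↥Y) ∈ D.subgroupOf Y := by rw [htop]; exact Subgroup.mem_top _
  rw [Subgroup.mem_subgroupOf] at h1
  exact h1

end Cfsg.Agent.Helper51.N9
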