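import Cfsg.Agent.Helper55.N9Defs

/-!
CALL S4409 (helper55), piece Q1: a 2-group normalizing a four-group `D` induces a group of
automorphisms of order at most 2.
-/

set_option autoImplicit false

namespace Cfsg.Agent.Helper51.N9

open Subgroup Cfsg.Agent.Helper55.N9

variable {G : Type*} [Group G] [Finite G]

-- Q1
theorem n9_autV4 (D N : Subgroup G) (hN : IsPGroup 2 N) (hD : IsV4 D)
    (hn : N ≤ normalizer (D : Set G)) :
    (N ⊓ centralizer (D : Set G)).relIndex N ≤ 2 := by
  classical
  have hp2 : Fact (Nat.Prime 2) := ⟨Nat.prime_two⟩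
  -- the conjugation action as a homomorphism to the permutations of `D`
  let h : ↥N →* Equiv.Perm ↥D :=
    (MulAut.toPerm ↥D).comp (D.normalizerMonoidHom.comp (Subgroup.inclusion hn))
  have happ : ∀ (n : ↥N) (d : ↥D), ((h n) d : G) = (n : G) * d * (n : G)⁻¹ := fun n d => rfl
  have hker : h.ker = (N ⊓ centralizer (D : Set G)).subgroupOf N := by
    ext n
    rw [MonoidHom.mem_ker, Subgroup.mem_subgroupOf, Subgroup.mem_inf]
    constructor
    · intro hn1
      refine ⟨n.2, ?_⟩
      rw [Subgroup.mem_centralizer_iff]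
      intro d hd
      have h1 : ((h n) ⟨d, hd⟩ : G) = d := by rw [hn1]; rfl
      rw [happ] at h1
      calc d * (n : G) = ((n : G) * d * (n : G)⁻¹) * n := by rw [h1]
        _ = n * d := by group
    · rintro ⟨-, hc⟩
      ext d
      show ((h n) d : G) = (d : G)
      rw [happ]
      have h1 := (Subgroup.mem_centralizer_iff.mp hc) d d.2
      rw [← h1, mul_inv_cancel_right]
  have hrel : (N ⊓ centralizer (D : Set G)).relIndex N = Nat.card h.range := by
    rw [← Subgroup.index_ker, hker]
    rfl
  rw [hrel]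
  -- the range is a 2-group
  have h2 : Nat.card h.range ∣ Nat.card N := by
    rw [← Subgroup.index_ker]
    exact Subgroup.index_dvd_card _
  obtain ⟨k, hk⟩ := IsPGroup.iff_card.mp hN
  rw [hk] at h2
  obtain ⟨j, -, hj⟩ := (Nat.dvd_prime_pow Nat.prime_two).mp h2
  -- the range fixes `1`
  have hstab : h.range ≤ MulAction.stabilizer (Equiv.Perm ↥D) (1 : ↥D) := by
    rintro _ ⟨n, rfl⟩
    rw [MulAction.mem_stabilizer_iff, Equiv.Perm.smul_def]
    apply Subtype.ext
    rw [happ]
    simp
  have hcardD : Nat.card ↥D = 4 := hD.1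
  have hstabcard : Nat.card (MulAction.stabilizer (Equiv.Perm ↥D) (1 : ↥D)) = 6 := by
    have h3 := Subgroup.card_mul_index (MulAction.stabilizer (Equiv.Perm ↥D) (1 : ↥D))
    rw [MulAction.index_stabilizer_of_transitive, Nat.card_perm, hcardD] at h3
    have h4 : (4 : ℕ).factorial = 24 := by decide
    rw [h4] at h3
    omega
  have h6 : Nat.card h.range ∣ 6 := by
    rw [← hstabcard]
    exact Subgroup.card_dvd_of_le hstab
  rw [hj] at h6 ⊢
  rcases j with _ | _ | j
  · norm_num
  · norm_num
  · exfalso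
    have h4 : 4 ∣ 6 := by
      refine dvd_trans ?_ h6
      exact ⟨2 ^ j, by ring⟩
    omega

end Cfsg.Agent.Helper51.N9
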