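import Cfsg.Agent.Helper55.N9Defs
import Cfsg.Agent.Helper35.Coprime

/-!
CALL S4409 (helper55), piece T5 (double): the three subgroups argument `n9_star`.
-/

set_option autoImplicit false

namespace Cfsg.Agent.Helper51.N9

open Subgroup Cfsg.Agent.Helper55.N9

variable {G : Type*} [Group G] [Finite G]

-- T5
theorem n9_star (Y K E : Subgroup G) (hYK : ⁅Y, K⁆ = Y) (hE : E ≤ Y)
    (hEn : Y ≤ normalizer (E : Set G)) (hEc : E ≤ centralizer (K : Set G)) :
    E ≤ centralizer (Y : Set G) := by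
  have hEK : (⁅E, K⁆ : Subgroup G) = ⊥ := Subgroup.commutator_eq_bot_iff_le_centralizer.mpr hEc
  have hYE : (⁅Y, E⁆ : Subgroup G) ≤ E := by
    rw [Subgroup.commutator_comm]
    exact Cfsg.Agent.Helper35.commutator_le_of_le_normalizer hEn
  have h1 : (⁅⁅Y, E⁆, K⁆ : Subgroup G) = ⊥ := by
    apply le_bot_iff.mp
    rw [← hEK]
    exact Subgroup.commutator_mono hYE le_rfl
  have h2 : (⁅⁅E, K⁆, Y⁆ : Subgroup G) = ⊥ := by
    rw [hEK, Subgroup.commutator_bot_left]
  have h3 : (⁅⁅K, Y⁆, E⁆ : Subgroup G) = ⊥ := Subgroup.commutator_commutator_eq_bot_of_rotate h1 h2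
  rw [Subgroup.commutator_comm K Y, hYK] at h3
  exact Subgroup.le_centralizer_iff.mp (Subgroup.commutator_eq_bot_iff_le_centralizer.mp h3)

end Cfsg.Agent.Helper51.N9
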