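import Cfsg.Agent.Helper55.N9Defs
import Cfsg.Agent.Helper35.Coprime

/-!
CALL S4409 (helper55), piece T6 (double): `[Y,K] ≤ Y`, and `Y`, `K` normalize `[Y,K]`.
-/

set_option autoImplicit false

namespace Cfsg.Agent.Helper51.N9

open Subgroup Cfsg.Agent.Helper55.N9
open scoped commutatorElement

variable {G : Type*} [Group G] [Finite G]

omit [Finite G] in
/-- closure under conjugation by the elements of a subgroup gives the normalizer inclusion -/
theorem le_normalizer_of_conj {A S : Subgroup G}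
    (key : ∀ a ∈ A, ∀ g ∈ S, a * g * a⁻¹ ∈ S) : A ≤ normalizer (S : Set G) := by
  intro a ha
  rw [Subgroup.mem_normalizer_iff]
  intro g
  constructor
  · exact key a ha g
  · intro hg
    have := key a⁻¹ (A.inv_mem ha) _ hg
    have e : a⁻¹ * (a * g * a⁻¹) * a⁻¹⁻¹ = g := by group
    rwa [e] at this

-- T6
theorem n9_comm_inv (Y K : Subgroup G) (hinv : K ≤ normalizer (Y : Set G)) :
    ⁅Y, K⁆ ≤ Y ∧ Y ≤ normalizer ((⁅Y, K⁆ : Subgroup G) : Set G) ∧
      K ≤ normalizer ((⁅Y, K⁆ : Subgroup G) : Set G) := by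
  refine ⟨Cfsg.Agent.Helper35.commutator_le_of_le_normalizer hinv, ?_,
    Cfsg.Agent.Helper35.le_normalizer_commutator hinv⟩
  apply le_normalizer_of_conj
  intro y hy
  have h1 : (⁅Y, K⁆ : Subgroup G) ≤ (⁅Y, K⁆ : Subgroup G).comap (MulAut.conj y).toMonoidHom := by
    rw [Subgroup.commutator_le]
    intro x hx k hk
    rw [Subgroup.mem_comap]
    have e : (MulAut.conj y).toMonoidHom ⁅x, k⁆ = ⁅y * x, k⁆ * ⁅y, k⁆⁻¹ := by
      simp only [MulEquiv.coe_toMonoidHom, MulAut.conj_apply, commutatorElement_def]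
      group
    rw [e]
    exact Subgroup.mul_mem _ (Subgroup.commutator_mem_commutator (Y.mul_mem hy hx) hk)
      (Subgroup.inv_mem _ (Subgroup.commutator_mem_commutator hy hk))
  intro g hg
  have := h1 hg
  rw [Subgroup.mem_comap] at this
  simpa [MulAut.conj_apply] using this

end Cfsg.Agent.Helper51.N9
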