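import Mathlib
import Cfsg.Agent.Helper19.ThompsonNPC
import Cfsg.Agent.Helper35.MinConfig
import Cfsg.Agent.Helper51.ZJFam
import Cfsg.Agent.Helper51.ZJFactor
import Cfsg.Agent.Helper51.ClosedFunctor

/-!
# Glauberman–Thompson normal `p`-complement theorem for strongly closed subgroups (helper51)

For odd `p`, `P` a Sylow `p`-subgroup of the finite group `G`, `D` strongly closed in `P` with
respect to `G` and `W(D) = sInf (maxFamily (Pr G) D)` for a `ZJFam`-family `Pr` (abelian or
elementary abelian subgroups): if `N_G(W(D))` is `p`-nilpotent then so is `G`.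

Induction as in Helper19's proof of Thompson's theorem (language `PNil`); the minimal
configuration is `p`-stable by Helper35 and the ZJ-theorem for strongly closed subgroups applies.
-/

set_option autoImplicit false

namespace Cfsg.Agent.Helper51

open Cfsg Cfsg.Agent.Helper11 Cfsg.Agent.Helper19

universe u

section NpcClosed

variable {p : ℕ} {Pr : ∀ (Γ : Type u) [Group Γ], Subgroup Γ → Prop}

/-- The Glauberman–Thompson statement for strongly closed subgroups, for one group. -/
def NpcStmt (p : ℕ) (Pr : ∀ (Γ : Type u) [Group Γ], Subgroup Γ → Prop) (Γ : Type u) [Group Γ] :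
    Prop :=
  ∀ (P : Sylow p Γ) (D : Subgroup Γ), IsStronglyClosed D (P : Subgroup Γ) →
    PNil p (Subgroup.normalizer ((sInf (maxFamily (Pr Γ) D) : Subgroup Γ) : Set Γ)) →
    PNil p (⊤ : Subgroup Γ)

theorem npc_ih_sub (hF : ZJFam p Pr) [Fact p.Prime] {G : Type u} [Group G] [Finite G]
    (IH : ∀ (G' : Type u) [Group G'] [Finite G'], Nat.card G' < Nat.card G → NpcStmt p Pr G')
    (M R : Subgroup G) (hM : M ≠ ⊤) (hRM : R ≤ M) (hR : IsPGroup p R)
    (hidx : ¬ p ∣ R.relIndex M) (DR : Subgroup G) (hDR : IsStronglyClosed DR R)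
    (hN : PNil p (M ⊓ Subgroup.normalizer
      ((sInf (maxFamily (Pr G) DR) : Subgroup G) : Set G))) : PNil p M := by
  have hlt : Nat.card M < Nat.card G := card_lt_of_ne_top hM
  let P' : Sylow p M := (hR.comap_subtype (K := M)).toSylow hidx
  have hP' : (P' : Subgroup M) = R.subgroupOf M := rfl
  have hDM : DR ≤ M := hDR.1.trans hRM
  have hD' : IsStronglyClosed (DR.subgroupOf M) (P' : Subgroup M) := by
    rw [hP']
    refine ⟨fun x hx => Subgroup.mem_subgroupOf.mpr (hDR.1 (Subgroup.mem_subgroupOf.mp hx)), ?_⟩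
    intro x hx g hg
    exact Subgroup.mem_subgroupOf.mpr
      (hDR.2 (x : G) (Subgroup.mem_subgroupOf.mp hx) (g : G) (Subgroup.mem_subgroupOf.mp hg))
  rw [← pNil_top_subtype_iff]
  apply IH M hlt P' (DR.subgroupOf M) hD'
  rw [← pNil_map_iff M.subtype M.subtype_injective]
  apply hN.mono
  refine le_inf (Subgroup.map_subtype_le _) ?_
  have h1 := Subgroup.le_normalizer_map
    (H := (sInf (maxFamily (Pr M) (DR.subgroupOf M)) : Subgroup M)) M.subtype
  have h2 : (sInf (maxFamily (Pr M) (DR.subgroupOf M)) : Subgroup M).map M.subtype =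
      sInf (maxFamily (Pr G) DR) := by
    rw [hF.zj_map M.subtype (DR.subgroupOf M)
      (fun x _ hx => M.subtype_injective (by rw [hx, map_one])),
      Subgroup.map_subgroupOf_eq_of_le hDM]
  rw [h2] at h1
  exact h1

theorem npc_ih_pquot (hF : ZJFam p Pr) [Fact p.Prime] {G : Type u} [Group G] [Finite G]
    (IH : ∀ (G' : Type u) [Group G'] [Finite G'], Nat.card G' < Nat.card G → NpcStmt p Pr G')
    (P : Sylow p G) (D : Subgroup G) (hD : IsStronglyClosed D (P : Subgroup G))
    (hN : PNil p (Subgroup.normalizer ((sInf (maxFamily (Pr G) D) : Subgroup G) : Set G)))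
    (M : Subgroup G) [M.Normal] (hM : M ≠ ⊥) (hcop : (Nat.card M).Coprime p) :
    PNil p (⊤ : Subgroup G) := by
  have hp : p.Prime := Fact.out
  have hsurj : Function.Surjective (QuotientGroup.mk' M) := QuotientGroup.mk'_surjective M
  have hker : (QuotientGroup.mk' M).ker = M := QuotientGroup.ker_mk' M
  have hinj : Set.InjOn (QuotientGroup.mk' M) ((P : Subgroup G) : Set G) :=
    injOn_mk_of_coprime _ M P.2 hcop
  have hPbar : IsPGroup p ((P : Subgroup G).map (QuotientGroup.mk' M)) := P.2.map _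
  have hidx' : ¬ p ∣ ((P : Subgroup G).map (QuotientGroup.mk' M)).index :=
    fun h => P.not_dvd_index (h.trans (Subgroup.index_map_dvd _ hsurj))
  have hlt : Nat.card (G ⧸ M) < Nat.card G := by
    rw [← Subgroup.index_eq_card, ← Subgroup.card_mul_index M]
    have h1 : 1 < Nat.card M := by
      rcases Nat.lt_or_ge 1 (Nat.card M) with h | h
      · exact h
      · exact absurd (Subgroup.eq_bot_of_card_le M h) hM
    have h2 : 0 < M.index := Nat.pos_of_ne_zero Subgroup.index_ne_zero_of_finite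
    nlinarith
  let Pb : Sylow p (G ⧸ M) := hPbar.toSylow hidx'
  have hPb : (Pb : Subgroup (G ⧸ M)) = (P : Subgroup G).map (QuotientGroup.mk' M) := rfl
  have hDb : IsStronglyClosed (D.map (QuotientGroup.mk' M)) (Pb : Subgroup (G ⧸ M)) := by
    rw [hPb]; exact isStronglyClosed_map_mk P D hD M
  have hW : sInf (maxFamily (Pr (G ⧸ M)) (D.map (QuotientGroup.mk' M))) =
      (sInf (maxFamily (Pr G) D) : Subgroup G).map (QuotientGroup.mk' M) := by
    refine (hF.zj_map (QuotientGroup.mk' M) D ?_).symm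
    intro x hx hx1
    exact hinj (hD.1 hx) (Subgroup.one_mem _) (by rw [hx1, map_one])
  have hWp : IsPGroup p (sInf (maxFamily (Pr G) D) : Subgroup G) :=
    P.2.to_le ((hF.zj_le D).trans hD.1)
  have hfin : PNil p (⊤ : Subgroup (G ⧸ M)) := by
    apply IH (G ⧸ M) hlt Pb _ hDb
    rw [hW]
    exact (hN.map _).mono (norm_lift _ M hWp hcop)
  apply pNil_of_map_of_coprime_ker (QuotientGroup.mk' M) (by rw [hker]; exact hcop)
  rw [Subgroup.map_top_of_surjective _ hsurj]; exact hfin

theorem npc_ih_quot (hF : ZJFam p Pr) [Fact p.Prime] {G : Type u} [Group G] [Finite G]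
    (IH : ∀ (G' : Type u) [Group G'] [Finite G'], Nat.card G' < Nat.card G → NpcStmt p Pr G')
    (P : Sylow p G) (D : Subgroup G) (hD : IsStronglyClosed D (P : Subgroup G))
    (H : Subgroup G) [H.Normal] (hH : H ≠ ⊥) (hHP : H ≤ (P : Subgroup G)) (hDH : ¬ D ≤ H)
    (hbig : ∀ H' : Subgroup G, H < H' → H' ≤ (P : Subgroup G) →
      (P : Subgroup G) ≤ Subgroup.normalizer (H' : Set G) →
      PNil p (Subgroup.normalizer (H' : Set G))) :
    PNil p (⊤ : Subgroup (G ⧸ H)) := by
  have hp : p.Prime := Fact.out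
  have hsurj : Function.Surjective (QuotientGroup.mk' H) := QuotientGroup.mk'_surjective H
  have hker : (QuotientGroup.mk' H).ker = H := QuotientGroup.ker_mk' H
  have hPbar : IsPGroup p ((P : Subgroup G).map (QuotientGroup.mk' H)) := P.2.map _
  have hidx : ((P : Subgroup G).map (QuotientGroup.mk' H)).index = (P : Subgroup G).index :=
    Subgroup.index_map_eq _ hsurj (hker.le.trans hHP)
  have hidx' : ¬ p ∣ ((P : Subgroup G).map (QuotientGroup.mk' H)).index := by
    rw [hidx]; exact P.not_dvd_index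
  have hlt : Nat.card (G ⧸ H) < Nat.card G := by
    rw [← Subgroup.index_eq_card, ← Subgroup.card_mul_index H]
    have h1 : 1 < Nat.card H := by
      rcases Nat.lt_or_ge 1 (Nat.card H) with h | h
      · exact h
      · exact absurd (Subgroup.eq_bot_of_card_le H h) hH
    have h2 : 0 < H.index := Nat.pos_of_ne_zero Subgroup.index_ne_zero_of_finite
    nlinarith
  let Pb : Sylow p (G ⧸ H) := hPbar.toSylow hidx'
  have hPb : (Pb : Subgroup (G ⧸ H)) = (P : Subgroup G).map (QuotientGroup.mk' H) := rfl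
  have hDb : IsStronglyClosed (D.map (QuotientGroup.mk' H)) (Pb : Subgroup (G ⧸ H)) := by
    rw [hPb]; exact isStronglyClosed_map_mk P D hD H
  have hDbne : D.map (QuotientGroup.mk' H) ≠ ⊥ := by
    intro h
    apply hDH
    rw [Subgroup.map_eq_bot_iff, hker] at h
    exact h
  have hDbp : IsPGroup p (D.map (QuotientGroup.mk' H) : Subgroup (G ⧸ H)) :=
    (P.2.to_le hD.1).map _
  apply IH (G ⧸ H) hlt Pb _ hDb
  apply quot_normalizer_pNil P H hHP hbig _ ?_ ?_ ?_
  · rw [← hPb]; exact (hF.zj_le _).trans hDb.1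
  · exact hF.zj_ne_bot _ hDbp hDbne
  · rw [← hPb]
    exact (le_normalizer_of_stronglyClosed _ _ hDb).trans (hF.zj_normalizer_le _)

theorem npc_step1 (hF : ZJFam p Pr) [Fact p.Prime] {G : Type u} [Group G] [Finite G]
    (hFr : FrobHyp.{u} p)
    (IH : ∀ (G' : Type u) [Group G'] [Finite G'], Nat.card G' < Nat.card G → NpcStmt p Pr G')
    (P : Sylow p G) (D : Subgroup G) (hD : IsStronglyClosed D (P : Subgroup G))
    (hN : PNil p (Subgroup.normalizer ((sInf (maxFamily (Pr G) D) : Subgroup G) : Set G)))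
    (hnot : ¬ PNil p (⊤ : Subgroup G)) :
    ∃ H : Subgroup G, H.Normal ∧ H ≠ ⊥ ∧ H ≤ (P : Subgroup G) ∧
      ∀ H' : Subgroup G, H < H' → H' ≤ (P : Subgroup G) →
        (P : Subgroup G) ≤ Subgroup.normalizer (H' : Set G) →
        PNil p (Subgroup.normalizer (H' : Set G)) := by
  classical
  have hp : p.Prime := Fact.out
  have hD1 : D ≠ ⊥ := by
    intro h
    apply hnot
    have h1 : (sInf (maxFamily (Pr G) D) : Subgroup G) = ⊥ := by
      have h2 := hF.zj_le (Γ := G) D
      rw [h] at h2
      rw [h]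
      exact le_bot_iff.mp h2
    rw [h1] at hN
    have h2 : Subgroup.normalizer (((⊥ : Subgroup G) : Subgroup G) : Set G) = ⊤ :=
      Subgroup.normalizer_eq_top_iff.mpr inferInstance
    rw [h2] at hN
    exact hN
  let Bad : Subgroup G → Prop := fun H => H ≤ (P : Subgroup G) ∧ H ≠ ⊥ ∧
      ¬ PNil p (Subgroup.normalizer (H : Set G)) ∧
      ¬ p ∣ ((P : Subgroup G) ⊓ Subgroup.normalizer (H : Set G)).relIndex
        (Subgroup.normalizer (H : Set G))
  have full : ∀ T : Subgroup G, T ≤ (P : Subgroup G) → T ≠ ⊥ →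
      ¬ PNil p (Subgroup.normalizer (T : Set G)) →
      ∃ T' : Subgroup G, Bad T' ∧
        Nat.card ((P : Subgroup G) ⊓ Subgroup.normalizer (T : Set G) : Subgroup G) ≤
        Nat.card ((P : Subgroup G) ⊓ Subgroup.normalizer (T' : Set G) : Subgroup G) := by
    intro T hTP hTne hTbad
    obtain ⟨g, h1, h2, h3⟩ := Helper33.exists_fully_normalized_cj P T hTP
    refine ⟨T.map (MulAut.conj g).toMonoidHom, ⟨h1, ?_, ?_, h3⟩, ?_⟩
    · intro h
      exact hTne ((Subgroup.map_eq_bot_iff_of_injective T (MulAut.conj g).injective).mp h)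
    · intro h
      apply hTbad
      rw [Helper33.normalizer_cj] at h
      exact (pNil_map_iff _ (MulAut.conj g).injective _).mp h
    · have h4 : ((P : Subgroup G) ⊓ Subgroup.normalizer (T : Set G)).map
            (MulAut.conj g).toMonoidHom ≤
          (P : Subgroup G) ⊓ Subgroup.normalizer
            ((T.map (MulAut.conj g).toMonoidHom : Subgroup G) : Set G) := by
        refine le_inf h2 ?_
        rw [Helper33.normalizer_cj]
        exact Helper33.cj_mono g inf_le_right
      calc Nat.card ((P : Subgroup G) ⊓ Subgroup.normalizer (T : Set G) : Subgroup G)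
          = Nat.card (((P : Subgroup G) ⊓ Subgroup.normalizer (T : Set G)).map
              (MulAut.conj g).toMonoidHom) := (Helper33.card_cj g _).symm
        _ ≤ _ := Subgroup.card_le_of_le h4
  obtain ⟨Q₀, hQ₀p, hQ₀ne, hQ₀bad⟩ := hFr G hnot
  obtain ⟨g₀, hg₀⟩ := Helper33.exists_cj_le_sylow P hQ₀p
  have hT₀bad : ¬ PNil p (Subgroup.normalizer
      ((Q₀.map (MulAut.conj g₀).toMonoidHom : Subgroup G) : Set G)) := by
    intro h
    apply hQ₀bad
    rw [Helper33.normalizer_cj] at h
    exact (pNil_map_iff _ (MulAut.conj g₀).injective _).mp h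
  have hT₀ne : Q₀.map (MulAut.conj g₀).toMonoidHom ≠ ⊥ := fun h =>
    hQ₀ne ((Subgroup.map_eq_bot_iff_of_injective Q₀ (MulAut.conj g₀).injective).mp h)
  obtain ⟨T₁, hT₁, -⟩ := full _ hg₀ hT₀ne hT₀bad
  have hne : Nonempty {H : Subgroup G // Bad H} := ⟨⟨T₁, hT₁⟩⟩
  obtain ⟨⟨H, hH⟩, hmax⟩ := Finite.exists_max (fun H : {H : Subgroup G // Bad H} =>
    toLex (Nat.card ((P : Subgroup G) ⊓ Subgroup.normalizer ((H : Subgroup G) : Set G) :
      Subgroup G), Nat.card (H : Subgroup G)))
  have hmax1 : ∀ T : Subgroup G, Bad T →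
      Nat.card ((P : Subgroup G) ⊓ Subgroup.normalizer (T : Set G) : Subgroup G) ≤
      Nat.card ((P : Subgroup G) ⊓ Subgroup.normalizer (H : Set G) : Subgroup G) := by
    intro T hT
    have h1 := hmax ⟨T, hT⟩
    rcases Prod.Lex.toLex_le_toLex.mp h1 with h | h
    · exact h.le
    · exact h.1.le
  have hmax2 : ∀ T : Subgroup G, Bad T →
      Nat.card ((P : Subgroup G) ⊓ Subgroup.normalizer (T : Set G) : Subgroup G) =
      Nat.card ((P : Subgroup G) ⊓ Subgroup.normalizer (H : Set G) : Subgroup G) →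
      Nat.card T ≤ Nat.card H := by
    intro T hT heq
    have h1 := hmax ⟨T, hT⟩
    rcases Prod.Lex.toLex_le_toLex.mp h1 with h | h
    · exact absurd heq h.ne
    · exact h.2
  obtain ⟨hHP, hHne, hHbad, hHfull⟩ := hH
  have hRp : IsPGroup p ((P : Subgroup G) ⊓ Subgroup.normalizer (H : Set G) : Subgroup G) :=
    P.2.to_le inf_le_left
  have hHR : H ≤ (P : Subgroup G) ⊓ Subgroup.normalizer (H : Set G) :=
    le_inf hHP Subgroup.le_normalizer
  have hRP : (P : Subgroup G) ⊓ Subgroup.normalizer (H : Set G) = (P : Subgroup G) := by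
    by_contra hne'
    have hlt := Helper33.lt_inf_normalizer P.2
      (inf_le_left : (P : Subgroup G) ⊓ Subgroup.normalizer (H : Set G) ≤ (P : Subgroup G)) hne'
    have key : ∀ T : Subgroup G, T ≤ (P : Subgroup G) ⊓ Subgroup.normalizer (H : Set G) → T ≠ ⊥ →
        Subgroup.normalizer
          (((P : Subgroup G) ⊓ Subgroup.normalizer (H : Set G) : Subgroup G) : Set G) ≤
          Subgroup.normalizer (T : Set G) →
        PNil p (Subgroup.normalizer (T : Set G)) := by
      intro T hTR hTne hTn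
      by_contra hTbad
      obtain ⟨T', hT', hcard⟩ := full T (hTR.trans inf_le_left) hTne hTbad
      have h1 := hmax1 T' hT'
      have h2 : Nat.card ((P : Subgroup G) ⊓ Subgroup.normalizer (H : Set G) : Subgroup G) <
          Nat.card ((P : Subgroup G) ⊓ Subgroup.normalizer (T : Set G) : Subgroup G) :=
        lt_of_lt_of_le (Helper33.card_lt_card_of_lt hlt)
          (Subgroup.card_le_of_le (inf_le_inf_left _ hTn))
      omega
    obtain ⟨z, hzD, hz1, hzc⟩ := exists_central_of_stronglyClosed P D hD hD1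
    have hzR : z ∈ (P : Subgroup G) ⊓ Subgroup.normalizer (H : Set G) := by
      refine ⟨hD.1 hzD, Subgroup.centralizer_le_normalizer _ ?_⟩
      rw [Subgroup.mem_centralizer_iff]
      intro h hh
      exact hzc h (hHP hh)
    have hDRne : D ⊓ ((P : Subgroup G) ⊓ Subgroup.normalizer (H : Set G)) ≠ ⊥ := by
      intro h
      have h1 : z ∈ D ⊓ ((P : Subgroup G) ⊓ Subgroup.normalizer (H : Set G)) := ⟨hzD, hzR⟩
      rw [h, Subgroup.mem_bot] at h1
      exact hz1 h1
    have hDRp : IsPGroup p
        (D ⊓ ((P : Subgroup G) ⊓ Subgroup.normalizer (H : Set G)) : Subgroup G) :=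
      P.2.to_le (inf_le_left.trans hD.1)
    have hT := key (sInf (maxFamily (Pr G)
        (D ⊓ ((P : Subgroup G) ⊓ Subgroup.normalizer (H : Set G)))))
      ((hF.zj_le _).trans inf_le_right) (hF.zj_ne_bot _ hDRp hDRne)
      ((normalizer_le_normalizer_inf_of_stronglyClosed D P _ hD inf_le_left).trans
        (hF.zj_normalizer_le _))
    have hNtop : Subgroup.normalizer (H : Set G) ≠ ⊤ := by
      intro h
      apply hne'
      rw [h, inf_top_eq]
    apply hHbad
    have hDRc : IsStronglyClosed (D ⊓ ((P : Subgroup G) ⊓ Subgroup.normalizer (H : Set G)))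
        ((P : Subgroup G) ⊓ Subgroup.normalizer (H : Set G)) := by
      refine ⟨inf_le_right, ?_⟩
      intro x hx g hg
      exact ⟨hD.2 x hx.1 g hg.1, hg⟩
    exact npc_ih_sub hF IH _ _ hNtop inf_le_right hRp hHfull _ hDRc (hT.mono inf_le_right)
  have hPN : (P : Subgroup G) ≤ Subgroup.normalizer (H : Set G) := by
    rw [← hRP]; exact inf_le_right
  have hNtop : Subgroup.normalizer (H : Set G) = ⊤ := by
    by_contra hne'
    apply hHbad
    have hidx : ¬ p ∣ (P : Subgroup G).relIndex (Subgroup.normalizer (H : Set G)) :=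
      fun h => P.not_dvd_index (h.trans (Subgroup.relIndex_dvd_index_of_le hPN))
    exact npc_ih_sub hF IH _ _ hne' hPN P.2 hidx D hD (hN.mono inf_le_right)
  refine ⟨H, Subgroup.normalizer_eq_top_iff.mp hNtop, hHne, hHP, ?_⟩
  intro H' hlt hH'P hPH'
  by_contra hbad
  have hfull' : ¬ p ∣ ((P : Subgroup G) ⊓ Subgroup.normalizer (H' : Set G)).relIndex
      (Subgroup.normalizer (H' : Set G)) := by
    rw [inf_of_le_left hPH']
    exact fun h => P.not_dvd_index (h.trans (Subgroup.relIndex_dvd_index_of_le hPH'))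
  have hB : Bad H' := ⟨hH'P, fun h => hHne (le_bot_iff.mp (h ▸ hlt.le)), hbad, hfull'⟩
  have h1 := hmax2 H' hB (by rw [inf_of_le_left hPH', hRP])
  exact absurd (Helper33.card_lt_card_of_lt hlt) (not_lt.mpr h1)

end NpcClosed

end Cfsg.Agent.Helper51
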