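import Mathlib
import Cfsg.Agent.Helper51.NpcClosed

/-!
# Glauberman–Thompson for strongly closed subgroups: the minimal configuration (helper51)

`npc_closed`: for odd `p`, `D` strongly closed in the Sylow `p`-subgroup `P` of `G`,
`PNil p (N_G(W(D)))` implies `PNil p ⊤` (for a `ZJFam`-family, relative to the Frobenius
criterion `Helper19.FrobHyp`, which is proved in `Cfsg.Agent.S0108.frobHyp`).
-/

set_option autoImplicit false

namespace Cfsg.Agent.Helper51

open Cfsg Cfsg.Agent.Helper11 Cfsg.Agent.Helper19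

universe u

section NpcClosed2

variable {p : ℕ} {Pr : ∀ (Γ : Type u) [Group Γ], Subgroup Γ → Prop}

theorem npc_step2 (hF : ZJFam p Pr) [Fact p.Prime] (hp2 : p ≠ 2) {G : Type u} [Group G]
    [Finite G]
    (IH : ∀ (G' : Type u) [Group G'] [Finite G'], Nat.card G' < Nat.card G → NpcStmt p Pr G')
    (P : Sylow p G) (D : Subgroup G) (hD : IsStronglyClosed D (P : Subgroup G))
    (hN : PNil p (Subgroup.normalizer ((sInf (maxFamily (Pr G) D) : Subgroup G) : Set G)))
    (hnot : ¬ PNil p (⊤ : Subgroup G))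
    (H : Subgroup G) (hHn : H.Normal) (hHne : H ≠ ⊥) (hHP : H ≤ (P : Subgroup G))
    (hbig : ∀ H' : Subgroup G, H < H' → H' ≤ (P : Subgroup G) →
        (P : Subgroup G) ≤ Subgroup.normalizer (H' : Set G) →
        PNil p (Subgroup.normalizer (H' : Set G))) : False := by
  classical
  have hp : p.Prime := Fact.out
  have hHp : IsPGroup p H := P.2.to_le hHP
  -- no nontrivial normal p'-subgroups
  have hOp' : ∀ M : Subgroup G, M.Normal → (Nat.card M).Coprime p → M = ⊥ := by
    intro M hMn hMc
    by_contra hM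
    exact hnot (npc_ih_pquot hF IH P D hD hN M hM hMc)
  -- `D` is not contained in `H`
  have hDH : ¬ D ≤ H := by
    intro hDH
    apply hnot
    have hDn : D.Normal := by
      constructor
      intro x hx g
      exact hD.2 x hx g (hHP (hHn.conj_mem x (hDH hx) g))
    have h1 : Subgroup.normalizer ((sInf (maxFamily (Pr G) D) : Subgroup G) : Set G) = ⊤ := by
      apply top_le_iff.mp
      calc (⊤ : Subgroup G) = Subgroup.normalizer (D : Set G) :=
            (Subgroup.normalizer_eq_top_iff.mpr hDn).symm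
        _ ≤ _ := hF.zj_normalizer_le D
    rw [h1] at hN
    exact hN
  have hquot : PNil p (⊤ : Subgroup (G ⧸ H)) := npc_ih_quot hF IH P D hD H hHne hHP hDH hbig
  have hsurj : Function.Surjective (QuotientGroup.mk' H) := QuotientGroup.mk'_surjective H
  have hker : (QuotientGroup.mk' H).ker = H := QuotientGroup.ker_mk' H
  have hmemH : ∀ g : G, QuotientGroup.mk' H g = 1 ↔ g ∈ H := by
    intro g
    rw [← MonoidHom.mem_ker, hker]
  have hKn : ((pComp p hquot).comap (QuotientGroup.mk' H)).Normal := inferInstance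
  have hmemK : ∀ g : G, g ∈ (pComp p hquot).comap (QuotientGroup.mk' H) ↔
      (orderOf (QuotientGroup.mk' H g)).Coprime p := fun g => Iff.rfl
  have hK2 : ∀ g : G, (orderOf g).Coprime p → g ∈ (pComp p hquot).comap (QuotientGroup.mk' H) :=
    fun g hg => (hmemK g).mpr (Nat.Coprime.coprime_dvd_left (orderOf_map_dvd _ g) hg)
  have hK4 : ∀ k ∈ (pComp p hquot).comap (QuotientGroup.mk' H), ∀ j : ℕ, k ^ p ^ j = 1 → k ∈ H := by
    intro k hk j hj
    have h1 : (QuotientGroup.mk' H k) ^ p ^ j = 1 := by rw [← map_pow, hj, map_one]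
    exact (hmemH k).mp (Helper19.eq_one_of_pow_of_coprime h1 ((hmemK k).mp hk))
  -- H is the largest normal p-subgroup
  have hOp : ∀ X : Subgroup G, X.Normal → IsPGroup p X → X ≤ H := by
    intro X hXn hXp
    have hYp : IsPGroup p (X ⊔ H : Subgroup G) := IsPGroup.to_sup_of_normal_right hXp hHp
    have hYn : (X ⊔ H).Normal := inferInstance
    have hYP : X ⊔ H ≤ (P : Subgroup G) := Helper33.normal_pgroup_le_sylow' _ hYp P
    by_contra hXH
    have hlt : H < X ⊔ H := lt_of_le_of_ne le_sup_right (fun h => hXH (h ▸ le_sup_left))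
    have h1 := hbig _ hlt hYP (by rw [Subgroup.normalizer_eq_top_iff.mpr hYn]; exact le_top)
    rw [Subgroup.normalizer_eq_top_iff.mpr hYn] at h1
    exact hnot h1
  -- C_G(H) ≤ H
  have hCH : Subgroup.centralizer (H : Set G) ≤ H := by
    have hCn : (Subgroup.centralizer (H : Set G)).Normal := inferInstance
    apply hOp _ hCn
    apply isPGroup_of_forall_coprime_eq_one
    intro x hxC hxo
    have hL : ∀ y ∈ Subgroup.centralizer (H : Set G) ⊓ (pComp p hquot).comap (QuotientGroup.mk' H),
        ∀ k : ℕ, y ^ p ^ k = 1 →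
        ∀ c ∈ Subgroup.centralizer (H : Set G) ⊓ (pComp p hquot).comap (QuotientGroup.mk' H),
        c * y = y * c := by
      intro y hy k hk c hc
      have hyH : y ∈ H := hK4 y hy.2 k hk
      exact (Subgroup.mem_centralizer_iff.mp hc.1 y hyH).symm
    obtain ⟨L₀, hL₀le, hL₀cop, hL₀mem⟩ := Helper33.exists_p'_subgroup _ hL
    have hLn : (Subgroup.centralizer (H : Set G) ⊓
        (pComp p hquot).comap (QuotientGroup.mk' H)).Normal := inferInstance
    have hL₀n : L₀.Normal := by
      constructor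
      intro y hy g
      rw [hL₀mem] at hy ⊢
      refine ⟨hLn.conj_mem y hy.1 g, ?_⟩
      rw [Helper19.orderOf_conj_eq]; exact hy.2
    have hL₀bot := hOp' L₀ hL₀n hL₀cop
    have h1 : x ∈ L₀ := (hL₀mem x).mpr ⟨⟨hxC, hK2 x hxo⟩, hxo⟩
    rw [hL₀bot, Subgroup.mem_bot] at h1
    exact h1
  -- P is a maximal subgroup
  have hPmax : ∀ M : Subgroup G, (P : Subgroup G) ≤ M → M ≠ ⊤ → M = (P : Subgroup G) := by
    intro M hPM hM
    have hidx : ¬ p ∣ (P : Subgroup G).relIndex M :=
      fun h => P.not_dvd_index (h.trans (Subgroup.relIndex_dvd_index_of_le hPM))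
    have hMnil := npc_ih_sub hF IH M P hM hPM P.2 hidx D hD (hN.mono inf_le_right)
    have hMp : IsPGroup p M := by
      apply isPGroup_of_forall_coprime_eq_one
      intro x hxM hxo
      have h1 : x ∈ Subgroup.centralizer (H : Set G) :=
        hMnil.mem_centralizer hxM hxo hHp (hHP.trans hPM)
          (by rw [Subgroup.normalizer_eq_top_iff.mpr hHn]; exact Subgroup.mem_top x)
      obtain ⟨k, hk⟩ := isPGroup_pow_eq_one hHp (hCH h1)
      exact Helper19.eq_one_of_pow_of_coprime hk hxo
    exact P.is_maximal' hMp hPM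
  have hPtop : (P : Subgroup G) ≠ ⊤ := by
    intro h
    apply hnot
    rw [← h]; exact pNil_of_isPGroup P.2
  have hcoatom : IsCoatom (P : Subgroup G) :=
    ⟨hPtop, fun Y hPY => by
      by_contra hY
      exact hPY.ne (hPmax Y hPY.le hY).symm⟩
  -- `H = O_p(G)`
  have hcore : pCore p G = H :=
    le_antisymm (hOp _ (pCore_normal p G) (pCore_isPGroup p G)) (Helper11.le_pCore H hHp)
  subst hcore
  have hq : Cfsg.HasNormalPComplement p (G ⧸ pCore p G) := pNil_top_iff_hasNPC.mp hquot
  have hst : ∀ (V : Subgroup G) [V.Normal], IsPGroup p V → ∀ A : Subgroup G,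
      A ≤ (P : Subgroup G) → ⁅⁅V, A⁆, A⁆ = ⊥ → ∀ a ∈ A,
      (QuotientGroup.mk a : G ⧸ Subgroup.centralizer (V : Set G)) ∈
        pCore p (G ⧸ Subgroup.centralizer (V : Set G)) := by
    intro V _ hV A _ hquad a ha
    apply Helper35.isPStableOn_of_coatom_sylow hp2 hq P hcoatom V hV a
    rw [eq_bot_iff, ← hquad]
    exact Subgroup.commutator_mono
      (Subgroup.commutator_mono le_rfl (Subgroup.zpowers_le.mpr ha)) (Subgroup.zpowers_le.mpr ha)
  have hWn := hF.zj_normal_of_stronglyClosed hp2 P D hD hCH hst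
  apply hnot
  rw [Subgroup.normalizer_eq_top_iff.mpr hWn] at hN
  exact hN

theorem npc_closed_aux (hF : ZJFam p Pr) [Fact p.Prime] (hp2 : p ≠ 2) (hFr : FrobHyp.{u} p) :
    ∀ n : ℕ, ∀ (G : Type u) [Group G] [Finite G], Nat.card G = n → NpcStmt p Pr G := by
  intro n
  induction n using Nat.strong_induction_on with
  | _ n ih =>
    intro G _ _ hcard P D hD hN
    by_contra hnot
    have IH : ∀ (G' : Type u) [Group G'] [Finite G'], Nat.card G' < Nat.card G →
        NpcStmt p Pr G' := fun G' _ _ h => ih _ (hcard ▸ h) G' rfl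
    obtain ⟨H, hHn, hHne, hHP, hbig⟩ := npc_step1 hF hFr IH P D hD hN hnot
    exact npc_step2 hF hp2 IH P D hD hN hnot H hHn hHne hHP hbig

/-- **Glauberman–Thompson normal `p`-complement theorem for a strongly closed subgroup**
(internal form): for odd `p`, if `N_G(W(D))` is `p`-nilpotent then `G` is `p`-nilpotent. -/
theorem npc_closed (hF : ZJFam p Pr) [Fact p.Prime] (hp2 : p ≠ 2) (hFr : FrobHyp.{u} p)
    {G : Type u} [Group G] [Finite G] (P : Sylow p G) (D : Subgroup G)
    (hD : IsStronglyClosed D (P : Subgroup G))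
    (hN : PNil p (Subgroup.normalizer ((sInf (maxFamily (Pr G) D) : Subgroup G) : Set G))) :
    PNil p (⊤ : Subgroup G) :=
  npc_closed_aux hF hp2 hFr _ G rfl P D hD hN

end NpcClosed2

end Cfsg.Agent.Helper51
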