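import Mathlib
import Cfsg.Prelude.Def_GeometricClasses
import Cfsg.Prelude.Def_Classical
import Cfsg.Agent.Helper58.TSDefs
import Cfsg.Agent.Helper65.TSOBDefs

set_option autoImplicit false

/-!
Sub-CALL OB (helper65), piece PE: `P ∘ E = id` for a hyperbolic family, with the shared lemmas of
the `ext` pieces (`polar_hE_left`, `hPE_apply`, `Q_hE`).
-/

namespace Cfsg.Agent.Helper51.OB

open Module Cfsg Cfsg.Geo Cfsg.Agent.Helper58.TS Cfsg.Agent.Helper65.TSOB

section ext

variable {ι : Type} [Fintype ι] [DecidableEq ι] {F : Type*} [Field F]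

omit [Fintype ι] [DecidableEq ι] in
theorem polar_hE_left (Q : QuadraticForm F (ι → F)) {n : ℕ} (e f : Fin n → ι → F)
    (u : HSp n F) (w : ι → F) :
    QuadraticMap.polar Q (hE e f u) w =
      ∑ k, u.1 k * QuadraticMap.polar Q (e k) w + ∑ k, u.2 k * QuadraticMap.polar Q (f k) w := by
  rw [hE_apply]
  have hp : ∀ x, QuadraticMap.polar Q x w = QuadraticMap.polarBilin Q x w := fun x => rfl
  simp only [hp, map_add, map_sum, map_smul, LinearMap.add_apply, LinearMap.sum_apply,
    LinearMap.smul_apply, smul_eq_mul]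

/-- PE [S]: `P ∘ E = id` for a hyperbolic family. -/
theorem ob_PE (Q : QuadraticForm F (ι → F)) {n : ℕ} (e f : Fin n → ι → F) (h : HypFam Q e f) :
    hP Q e f ∘ₗ hE e f = LinearMap.id := by
  refine LinearMap.ext fun u => ?_
  refine Prod.ext (funext fun k => ?_) (funext fun k => ?_)
  · show (hP Q e f (hE e f u)).1 k = u.1 k
    rw [hP_apply_fst, polar_hE_left]
    simp only [h.ef, h.ff]
    simp
  · show (hP Q e f (hE e f u)).2 k = u.2 k
    rw [hP_apply_snd, polar_hE_left]
    have hfe : ∀ j, QuadraticMap.polar Q (f j) (e k) = if j = k then 1 else 0 := by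
      intro j
      rw [QuadraticMap.polar_comm, h.ef]
      simp [eq_comm]
    simp only [h.ee, hfe]
    simp

theorem hPE_apply (Q : QuadraticForm F (ι → F)) {n : ℕ} (e f : Fin n → ι → F) (h : HypFam Q e f)
    (u : HSp n F) : hP Q e f (hE e f u) = u := by
  have := congrArg (fun L : HSp n F →ₗ[F] HSp n F => L u) (ob_PE Q e f h)
  simpa using this

omit [Fintype ι] [DecidableEq ι] in
theorem polar_sum_right (Q : QuadraticForm F (ι → F)) {n : ℕ} (x : ι → F) (g : Fin n → ι → F)
    (a : Fin n → F) (s : Finset (Fin n)) :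
    QuadraticMap.polar Q x (∑ k ∈ s, a k • g k) = ∑ k ∈ s, a k * QuadraticMap.polar Q x (g k) := by
  have hp : ∀ y, QuadraticMap.polar Q x y = QuadraticMap.polarBilin Q x y := fun y => rfl
  simp only [hp, map_sum, map_smul, smul_eq_mul]

omit [Fintype ι] [DecidableEq ι] in
theorem polar_sum_left (Q : QuadraticForm F (ι → F)) {n : ℕ} (x : ι → F) (g : Fin n → ι → F)
    (a : Fin n → F) (s : Finset (Fin n)) :
    QuadraticMap.polar Q (∑ k ∈ s, a k • g k) x = ∑ k ∈ s, a k * QuadraticMap.polar Q (g k) x := by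
  rw [QuadraticMap.polar_comm, polar_sum_right]
  exact Finset.sum_congr rfl fun k _ => by rw [QuadraticMap.polar_comm]

omit [Fintype ι] [DecidableEq ι] in
/-- `Q` vanishes on a combination of pairwise orthogonal singular vectors. -/
theorem Q_sum_zero (Q : QuadraticForm F (ι → F)) {n : ℕ} (g : Fin n → ι → F)
    (hg : ∀ k, Q (g k) = 0) (hgg : ∀ j k, QuadraticMap.polar Q (g j) (g k) = 0) (a : Fin n → F)
    (s : Finset (Fin n)) : Q (∑ k ∈ s, a k • g k) = 0 := by
  classical
  induction s using Finset.induction_on with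
  | empty => simp
  | insert j s hj ih =>
    rw [Finset.sum_insert hj, QuadraticMap.map_add Q, ih, QuadraticMap.map_smul, hg,
      polar_sum_right]
    have h0 : ∀ k, QuadraticMap.polar Q (a j • g j) (g k) = 0 := by
      intro k
      rw [QuadraticMap.polar_smul_left, hgg, smul_zero]
    simp only [h0]
    simp

omit [Fintype ι] [DecidableEq ι] in
/-- `Q (E u) = hq u` for a hyperbolic family. -/
theorem Q_hE (Q : QuadraticForm F (ι → F)) {n : ℕ} (e f : Fin n → ι → F) (h : HypFam Q e f)
    (u : HSp n F) : Q (hE e f u) = hq u := by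
  classical
  rw [hE_apply, QuadraticMap.map_add Q, Q_sum_zero Q e h.qe h.ee, Q_sum_zero Q f h.qf h.ff,
    polar_sum_right]
  simp only [polar_sum_left, h.ef]
  simp [hq, dotProduct, mul_comm]

end ext

end Cfsg.Agent.Helper51.OB
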