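import Mathlib
import Cfsg.Prelude.Def_GeometricClasses
import Cfsg.Prelude.Def_Classical
import Cfsg.Agent.Helper58.TSDefs
import Cfsg.Agent.Helper65.TSOBDefs
import Cfsg.Agent.Helper51.OBPE

set_option autoImplicit false

/-! Sub-CALL OB (helper65), piece EXTISO. -/

namespace Cfsg.Agent.Helper51.OB

open Module Cfsg Cfsg.Geo Cfsg.Agent.Helper58.TS Cfsg.Agent.Helper65.TSOB

section ext

variable {ι : Type} [Fintype ι] [DecidableEq ι] {F : Type*} [Field F]

/-- EXTISO [M] (uses PE): the extension of an isometry of the hyperbolic coordinate space is an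
isometry. -/
theorem ob_ext_iso (Q : QuadraticForm F (ι → F)) {n : ℕ} (e f : Fin n → ι → F)
    (h : HypFam Q e f) (Z : HSp n F →ₗ[F] HSp n F) (hZ : ∀ u, hq (Z u) = hq u) (v : ι → F) :
    Q (hExt Q e f Z v) = Q v := by
  -- `c = v - E (P v)` is orthogonal to the family
  have hPc : hP Q e f (v - hE e f (hP Q e f v)) = 0 := by
    rw [map_sub, hPE_apply Q e f h, sub_self]
  have hc : ∀ w : HSp n F,
      QuadraticMap.polar Q (v - hE e f (hP Q e f v)) (hE e f w) = 0 := by
    intro w
    rw [QuadraticMap.polar_comm, polar_hE_left]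
    have h1 : ∀ k, QuadraticMap.polar Q (e k) (v - hE e f (hP Q e f v)) = 0 := by
      intro k
      rw [QuadraticMap.polar_comm, ← hP_apply_snd Q e f, hPc]
      rfl
    have h2 : ∀ k, QuadraticMap.polar Q (f k) (v - hE e f (hP Q e f v)) = 0 := by
      intro k
      rw [QuadraticMap.polar_comm, ← hP_apply_fst Q e f, hPc]
      rfl
    simp only [h1, h2]
    simp
  have key : ∀ w : HSp n F, Q ((v - hE e f (hP Q e f v)) + hE e f w) =
      Q (v - hE e f (hP Q e f v)) + hq w := by
    intro w
    rw [QuadraticMap.map_add Q, hc w, add_zero, Q_hE Q e f h]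
  have e1 : hExt Q e f Z v = (v - hE e f (hP Q e f v)) + hE e f (Z (hP Q e f v)) := by
    rw [hExt_apply, map_sub]
    abel
  have e2 : v = (v - hE e f (hP Q e f v)) + hE e f (hP Q e f v) := by abel
  rw [e1, key, hZ, ← key, ← e2]

end ext

end Cfsg.Agent.Helper51.OB
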