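import Mathlib
import Cfsg.Prelude.Def_GeometricClasses
import Cfsg.Prelude.Def_Classical
import Cfsg.Agent.Helper58.TSDefs
import Cfsg.Agent.Helper65.TSOBDefs
import Cfsg.Agent.Helper51.OBPE

set_option autoImplicit false

/-! Sub-CALL OB (helper65), piece EXTMUL. -/

namespace Cfsg.Agent.Helper51.OB

open Module Cfsg Cfsg.Geo Cfsg.Agent.Helper58.TS Cfsg.Agent.Helper65.TSOB

section ext

variable {ι : Type} [Fintype ι] [DecidableEq ι] {F : Type*} [Field F]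

/-- EXTMUL [S] (uses PE): `1 + E (Z₁ Z₂ - 1) P = (1 + E (Z₁ - 1) P) (1 + E (Z₂ - 1) P)`. -/
theorem ob_ext_mul (Q : QuadraticForm F (ι → F)) {n : ℕ} (e f : Fin n → ι → F)
    (h : HypFam Q e f) (Z₁ Z₂ : HSp n F →ₗ[F] HSp n F) :
    hExt Q e f (Z₁ ∘ₗ Z₂) = hExt Q e f Z₁ ∘ₗ hExt Q e f Z₂ := by
  refine LinearMap.ext fun v => ?_
  rw [LinearMap.comp_apply, hExt_apply, hExt_apply, hExt_apply, LinearMap.comp_apply]
  have hw : hP Q e f (v + hE e f (Z₂ (hP Q e f v) - hP Q e f v)) = Z₂ (hP Q e f v) := by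
    rw [map_add, hPE_apply Q e f h]
    abel
  rw [hw]
  simp only [map_sub]
  abel

end ext

end Cfsg.Agent.Helper51.OB
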