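import Mathlib
import Cfsg.Prelude.Def_GeometricClasses
import Cfsg.Prelude.Def_Classical
import Cfsg.Agent.Helper58.TSDefs
import Cfsg.Agent.Helper65.TSOBDefs
import Cfsg.Agent.Helper51.OBPE

set_option autoImplicit false

/-! Sub-CALL OB (helper65), piece EXTRANGE. -/

namespace Cfsg.Agent.Helper51.OB

open Module Cfsg Cfsg.Geo Cfsg.Agent.Helper58.TS Cfsg.Agent.Helper65.TSOB

section ext

variable {ι : Type} [Fintype ι] [DecidableEq ι] {F : Type*} [Field F]

/-- EXTRANGE [S-M] (uses PE): if `Z` has no fixed vector then `range (ext Z - 1) = range E`. -/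
theorem ob_ext_range (Q : QuadraticForm F (ι → F)) {n : ℕ} (e f : Fin n → ι → F)
    (h : HypFam Q e f) (Z : HSp n F →ₗ[F] HSp n F) (hZ : ∀ u, Z u = u → u = 0) :
    LinearMap.range (hExt Q e f Z - LinearMap.id) = LinearMap.range (hE e f) := by
  have happ : ∀ v, (hExt Q e f Z - LinearMap.id : (ι → F) →ₗ[F] (ι → F)) v =
      hE e f (Z (hP Q e f v) - hP Q e f v) := by
    intro v
    rw [LinearMap.sub_apply, hExt_apply, LinearMap.id_apply, add_sub_cancel_left]
  apply le_antisymm
  · rintro _ ⟨v, rfl⟩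
    rw [happ]
    exact LinearMap.mem_range_self _ _
  · rintro _ ⟨w, rfl⟩
    have hinj : Function.Injective (Z - LinearMap.id : HSp n F →ₗ[F] HSp n F) := by
      rw [injective_iff_map_eq_zero]
      intro u hu
      apply hZ
      rw [LinearMap.sub_apply, LinearMap.id_apply, sub_eq_zero] at hu
      exact hu
    have hsurj : Function.Surjective (Z - LinearMap.id : HSp n F →ₗ[F] HSp n F) :=
      LinearMap.injective_iff_surjective.mp hinj
    obtain ⟨u, hu⟩ := hsurj w
    refine ⟨hE e f u, ?_⟩
    rw [happ, hPE_apply Q e f h, ← hu]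
    rfl

end ext

end Cfsg.Agent.Helper51.OB
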