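import Mathlib
import Cfsg.Agent.Helper53.R2Psec
import Cfsg.Agent.Helper84.TorusWord

set_option autoImplicit false

/-!
# PIECE PT of CALL S5289 BATCH 4 (helper87): the torus element on a pearl (helper51)
-/

namespace Cfsg.Agent.Helper51

open scoped commutatorElement

theorem pearl_torus {p : ℕ} [Fact p.Prime] (hp2 : p ≠ 2) {G : Type*} [Group G] [Finite G]
    (hcard : Nat.card G = p ^ 2) (hab : ∀ a b : G, a * b = b * a) (hexp : ∀ a : G, a ^ p = 1)
    (A : Subgroup (MulAut G)) (t : MulAut G) (htA : t ∈ A) (htp : t ^ p = 1)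
    (g : MulAut G) (hg : g ∈ A) (r : G) (hr : t r = r) (hgr : t (g r) ≠ g r) :
    ∃ (l l' : G) (η : MulAut G) (mu : ℕ), η ∈ A ∧ (2 * mu) % p = 1 ∧ l ≠ 1 ∧
      t l = l ∧ t l' = l' * l ∧ η l = l ^ 2 ∧ η l' = l' ^ mu ∧
      (∀ u : G, ∃ i j : ℕ, u = l ^ i * l' ^ j) ∧
      (∀ u : G, t u = u → ∃ k : ℕ, u = l ^ k) ∧
      (∀ u : G, ∃ k : ℕ, η u = u ^ mu * l ^ k) ∧
      η * t * η⁻¹ = t ^ 4 := by
  have hpp : p.Prime := Fact.out
  have hr1 : r ≠ 1 := by
    rintro rfl
    exact hgr (by rw [map_one, map_one])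
  have hord : ∀ x : G, x ≠ 1 → orderOf x = p := fun x hx => orderOf_eq_prime (hexp x) hx
  have hcz : ∀ x : G, x ≠ 1 → Nat.card (Subgroup.zpowers x) = p := fun x hx => by
    rw [Nat.card_zpowers, hord x hx]
  have hcomm : ∀ a b : G, Commute a b := fun a b => hab a b
  -- the section lemma
  have hsec : ∀ (τ : MulAut G) (y : G), y ≠ 1 → τ ^ p = 1 → τ y = y →
      ∀ u : G, τ u * u⁻¹ ∈ Subgroup.zpowers y := by
    intro τ y hy hτp hτy u
    have hfix : ∀ z ∈ Subgroup.zpowers y, τ z = z := by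
      intro z hz
      obtain ⟨k, rfl⟩ := Subgroup.mem_zpowers_iff.1 hz
      rw [map_zpow, hτy]
    refine Cfsg.Agent.Helper53.psec p ⊤ (Subgroup.zpowers y) le_top ?_ ?_ τ 1
      (by rw [pow_one]; exact hτp) (fun _ _ => Subgroup.mem_top _)
      (fun z hz => by rw [hfix z hz]; exact hz) u (Subgroup.mem_top _)
    · intro x _ z hz
      have : x * z * x⁻¹ = z := by rw [hab x z, mul_assoc, mul_inv_cancel, mul_one]
      rw [this]; exact hz
    · rw [Subgroup.card_top, hcard, hcz y hy, pow_two]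
  obtain ⟨l', hl'⟩ : ∃ l' : G, l' = g r := ⟨_, rfl⟩
  rw [← hl'] at hgr
  have hl'1 : l' ≠ 1 := by
    intro e
    apply hgr
    rw [e, map_one]
  obtain ⟨l, hl⟩ : ∃ l : G, l = t l' * l'⁻¹ := ⟨_, rfl⟩
  have hl1 : l ≠ 1 := by
    intro e
    apply hgr
    rw [e] at hl
    exact mul_inv_eq_one.1 hl.symm
  have hlY : l ∈ Subgroup.zpowers r := by rw [hl]; exact hsec t r hr1 htp hr l'
  have htl : t l = l := by
    obtain ⟨k, hk⟩ := Subgroup.mem_zpowers_iff.1 hlY
    rw [← hk, map_zpow, hr]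
  have htl' : t l' = l' * l := by
    rw [hl, hab l' (t l' * l'⁻¹), inv_mul_cancel_right]
  have ht_coord : ∀ i j : ℕ, t (l ^ i * l' ^ j) = l ^ i * l' ^ j * l ^ j := by
    intro i j
    rw [map_mul, map_pow, map_pow, htl, htl', (hcomm l' l).mul_pow, mul_assoc]
  have hpowp : ∀ (x : G) (j : ℕ), x ^ j = 1 → x ≠ 1 → p ∣ j := by
    intro x j hj hx
    rw [← hord x hx]; exact orderOf_dvd_of_pow_eq_one hj
  have hpow_of_dvd : ∀ (x : G) (j : ℕ), p ∣ j → x ^ j = 1 := by
    rintro x j ⟨m, hm⟩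
    rw [hm, pow_mul, hexp, one_pow]
  -- coordinates
  have hcoord : ∀ u : G, ∃ i j : ℕ, u = l ^ i * l' ^ j := by
    have hinj : Function.Injective
        (fun q : Fin p × Fin p => l ^ (q.1 : ℕ) * l' ^ (q.2 : ℕ)) := by
      rintro ⟨i, j⟩ ⟨i', j'⟩ h
      simp only at h
      have h1 := congrArg t h
      rw [ht_coord, ht_coord, h] at h1
      have h2 : l ^ (j : ℕ) = l ^ (j' : ℕ) := mul_left_cancel h1
      have hjj : (j : ℕ) = (j' : ℕ) := by
        have := pow_eq_pow_iff_modEq.1 h2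
        rw [hord l hl1] at this
        exact Nat.ModEq.eq_of_lt_of_lt this j.2 j'.2
      rw [hjj] at h
      have h3 : l ^ (i : ℕ) = l ^ (i' : ℕ) := mul_right_cancel h
      have hii : (i : ℕ) = (i' : ℕ) := by
        have := pow_eq_pow_iff_modEq.1 h3
        rw [hord l hl1] at this
        exact Nat.ModEq.eq_of_lt_of_lt this i.2 i'.2
      exact Prod.ext (Fin.ext hii) (Fin.ext hjj)
    have hbij := hinj.bijective_of_nat_card_le (by
      rw [Nat.card_prod, Nat.card_fin, hcard, pow_two])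
    intro u
    obtain ⟨⟨i, j⟩, hq⟩ := hbij.2 u
    exact ⟨i, j, hq.symm⟩
  have hfixl : ∀ u : G, t u = u → ∃ k : ℕ, u = l ^ k := by
    intro u hu
    obtain ⟨i, j, rfl⟩ := hcoord u
    rw [ht_coord] at hu
    have h1 : l ^ j = 1 := mul_left_cancel (hu.trans (mul_one _).symm)
    have h2 := hpowp l j h1 hl1
    exact ⟨i, by rw [hpow_of_dvd l' j h2, mul_one]⟩
  -- the second transvection
  obtain ⟨τ', hτ'⟩ : ∃ τ' : MulAut G, τ' = g * t * g⁻¹ := ⟨_, rfl⟩
  have hτ'A : τ' ∈ A := by rw [hτ']; exact A.mul_mem (A.mul_mem hg htA) (A.inv_mem hg)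
  have hτ'l' : τ' l' = l' := by
    rw [hτ', MulAut.mul_apply, MulAut.mul_apply, hl', MulAut.inv_apply_self, hr]
  have hτ'p : τ' ^ p = 1 := by
    rw [hτ', conj_pow, htp, mul_one, mul_inv_cancel]
  have hsec' := hsec τ' l' hl'1 hτ'p hτ'l' l
  obtain ⟨b, hb⟩ : ∃ b : ℕ, l' ^ b = τ' l * l⁻¹ := by
    rw [← mem_powers_iff_mem_zpowers] at hsec'
    exact (Submonoid.mem_powers_iff _ _).1 hsec'
  have hτ'l : τ' l = l * l' ^ b := by
    rw [hb, hab l (τ' l * l⁻¹), inv_mul_cancel_right]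
  have hbp : ¬ p ∣ b := by
    intro hdvd
    have h1 : τ' l = l := by rw [hτ'l, hpow_of_dvd l' b hdvd, mul_one]
    have h2 : ∀ u : G, τ' u = u := by
      intro u
      obtain ⟨i, j, rfl⟩ := hcoord u
      rw [map_mul, map_pow, map_pow, h1, hτ'l']
    have h3 := h2 (g l')
    rw [hτ', MulAut.mul_apply, MulAut.mul_apply, MulAut.inv_apply_self] at h3
    exact hgr (g.injective h3)
  -- the torus element
  have h2p : ¬ p ∣ 2 := by
    intro h
    exact hp2 ((Nat.prime_dvd_prime_iff_eq hpp Nat.prime_two).1 h)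
  obtain ⟨η, hηcl, mu, hmu, hη1, hη2⟩ := Cfsg.Agent.Helper84.torus_word p (⊥ : Subgroup G) t τ'
    (fun z hz => by rw [Subgroup.mem_bot] at hz ⊢; rw [hz, map_one])
    (fun z hz => by rw [Subgroup.mem_bot] at hz ⊢; rw [hz, map_one])
    l l' (by rw [Subgroup.mem_bot, commutatorElement_eq_one_iff_commute]; exact hcomm l l')
    (by rw [hexp]; exact Subgroup.one_mem _) (by rw [hexp]; exact Subgroup.one_mem _)
    (by rw [htl, inv_mul_cancel]; exact Subgroup.one_mem _)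
    (by rw [htl', inv_mul_cancel]; exact Subgroup.one_mem _)
    (by rw [hτ'l', inv_mul_cancel]; exact Subgroup.one_mem _)
    b hbp (by rw [hτ'l, inv_mul_cancel]; exact Subgroup.one_mem _) 2 h2p
  have hηl : η l = l ^ 2 := inv_mul_eq_one.1 (Subgroup.mem_bot.1 hη1)
  have hηl' : η l' = l' ^ mu := inv_mul_eq_one.1 (Subgroup.mem_bot.1 hη2)
  have hηA : η ∈ A := by
    have hle : Subgroup.closure ({t, τ'} : Set (MulAut G)) ≤ A := by
      rw [Subgroup.closure_le]
      intro x hx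
      rcases hx with rfl | rfl
      · exact htA
      · exact hτ'A
    exact hle hηcl
  have h2mu : ∀ x : G, x ^ (2 * mu) = x := by
    intro x
    rw [pow_eq_pow_mod _ (hexp x), hmu, pow_one]
  have hη_coord : ∀ i j : ℕ, η (l ^ i * l' ^ j) = l ^ (2 * i) * l' ^ (mu * j) := by
    intro i j
    rw [map_mul, map_pow, map_pow, hηl, hηl', ← pow_mul, ← pow_mul]
  refine ⟨l, l', η, mu, hηA, hmu, hl1, htl, htl', hηl, hηl', hcoord, hfixl, ?_, ?_⟩
  · intro u
    obtain ⟨i, j, rfl⟩ := hcoord u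
    refine ⟨2 * i + (p - 1) * (i * mu), ?_⟩
    rw [hη_coord, (hcomm (l ^ i) (l' ^ j)).mul_pow, ← pow_mul, ← pow_mul]
    have e1 : l ^ (i * mu) * l ^ (2 * i + (p - 1) * (i * mu)) = l ^ (2 * i) := by
      rw [← pow_add]
      have : i * mu + (2 * i + (p - 1) * (i * mu)) = 2 * i + p * (i * mu) := by
        obtain ⟨q, rfl⟩ : ∃ q, p = q + 1 := ⟨p - 1, by have := hpp.one_lt; omega⟩
        simp only [Nat.add_sub_cancel]
        ring
      rw [this, pow_add, pow_mul l p (i * mu), hexp, one_pow, mul_one]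
    rw [mul_assoc, hab (l' ^ (j * mu)) _, ← mul_assoc, e1, mul_comm mu j]
  · have ht_pow : ∀ (u c : G), t c = c → t u = u * c → ∀ n : ℕ, (t ^ n) u = u * c ^ n := by
      intro u c hc hu n
      induction n with
      | zero => simp
      | succ n ih =>
        rw [pow_succ', MulAut.mul_apply, ih, map_mul, map_pow, hc, hu, mul_assoc, ← pow_succ']
    apply MulEquiv.ext
    intro u
    obtain ⟨i, j, rfl⟩ := hcoord u
    have hw : η (l ^ (mu * i) * l' ^ (2 * j)) = l ^ i * l' ^ j := by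
      rw [hη_coord, ← mul_assoc, pow_mul, h2mu, mul_left_comm, ← mul_assoc, pow_mul, h2mu]
    have hlj : t (l ^ j) = l ^ j := by rw [map_pow, htl]
    rw [ht_pow (l ^ i * l' ^ j) (l ^ j) hlj (ht_coord i j) 4]
    rw [MulAut.mul_apply, MulAut.mul_apply]
    conv_lhs => rw [← hw]
    rw [MulAut.inv_apply_self, ht_coord, map_mul, hw, map_pow, hηl, ← pow_mul, ← pow_mul]
    congr 2
    ring

end Cfsg.Agent.Helper51
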