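import Mathlib

set_option autoImplicit false

/-!
# Sub-CALL S74T2 (helper65; row S5974), piece ARITH (`t2_arith`), double by helper51

Choice of blocks: pure arithmetic with explicit witnesses.
-/

namespace Cfsg.Agent.Helper51.S74T2

/-- ARITH [S]: choice of blocks (`m = 2 μ`; `μ` even: `e' = min e μ`, then four-blocks, then
hyperbolic planes; `μ` odd: `d` odd, so `h` is odd: one hyperbolic plane first). -/
theorem t2_arith (d m A h e : ℕ) (hsum : 2 * A + h + e = d) (he : Even e) (hme : Even m)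
    (hmd : m < d) (hcond : (2 * d) % 4 = 2 ∨ m % 4 = 0) :
    ∃ a' h' e' : ℕ, a' ≤ A ∧ h' ≤ h ∧ e' ≤ e ∧ Even e' ∧ 4 * a' + 2 * h' + 2 * e' = m := by
  obtain ⟨e₀, he₀⟩ := he
  obtain ⟨μ, hμ⟩ := hme
  rcases Nat.even_or_odd' μ with ⟨ν, hν | hν⟩
  · by_cases h1 : ν ≤ e₀
    · exact ⟨0, 0, 2 * ν, by omega, by omega, by omega, ⟨ν, by omega⟩, by omega⟩
    · by_cases h3 : ν - e₀ ≤ A
      · exact ⟨ν - e₀, 0, 2 * e₀, by omega, by omega, by omega, ⟨e₀, by omega⟩, by omega⟩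
      · exact ⟨A, 2 * (ν - e₀ - A), 2 * e₀, by omega, by omega, by omega, ⟨e₀, by omega⟩,
          by omega⟩
  · have hh : 1 ≤ h := by omega
    by_cases h1 : ν ≤ e₀
    · exact ⟨0, 1, 2 * ν, by omega, by omega, by omega, ⟨ν, by omega⟩, by omega⟩
    · by_cases h3 : ν - e₀ ≤ A
      · exact ⟨ν - e₀, 1, 2 * e₀, by omega, by omega, by omega, ⟨e₀, by omega⟩, by omega⟩
      · exact ⟨A, 1 + 2 * (ν - e₀ - A), 2 * e₀, by omega, by omega, by omega, ⟨e₀, by omega⟩,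
          by omega⟩

end Cfsg.Agent.Helper51.S74T2
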