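import Mathlib

set_option autoImplicit false

/-!
# Sub-CALL S74T2 (helper65; row S5974), piece SIEGJ (`t2_siegJ`), double by helper51

For `d` even there is a matrix `T` with `T - Tᵀ` injective.
-/

namespace Cfsg.Agent.Helper51.S74T2

section sieg

variable {F : Type*} [Field F]

/-- SIEGJ [S]: for `d` even there is `T` with `T - Tᵀ` injective (e.g. `T i j = 1` iff `i` even and
`j = i + 1`: `((T - Tᵀ) *ᵥ b) i = b (i + 1)` for `i` even, `= - b (i - 1)` for `i` odd). -/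
theorem t2_siegJ (d : ℕ) (hde : Even d) :
    ∃ T : Matrix (Fin d) (Fin d) F, ∀ b : Fin d → F, (T - T.transpose).mulVec b = 0 → b = 0 := by
  classical
  obtain ⟨k, hk⟩ := hde
  refine ⟨Matrix.of fun i j : Fin d => if (i : ℕ) % 2 = 0 ∧ (j : ℕ) = (i : ℕ) + 1 then (1 : F)
    else 0, ?_⟩
  intro b hb
  funext j
  show b j = 0
  have hjd : (j : ℕ) < d := j.2
  rcases Nat.mod_two_eq_zero_or_one (j : ℕ) with hj | hj
  · -- `j` even: row `j + 1`
    have hi : (j : ℕ) + 1 < d := by omega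
    have h := congrFun hb ⟨(j : ℕ) + 1, hi⟩
    simp only [Matrix.mulVec, dotProduct, Matrix.sub_apply, Matrix.transpose_apply,
      Matrix.of_apply, Pi.zero_apply] at h
    rw [Finset.sum_eq_single j] at h
    · have h1 : ¬ (((j : ℕ) + 1) % 2 = 0 ∧ (j : ℕ) = (j : ℕ) + 1 + 1) := by omega
      have h2 : (j : ℕ) % 2 = 0 ∧ (j : ℕ) + 1 = (j : ℕ) + 1 := ⟨hj, rfl⟩
      rw [if_neg h1, if_pos h2] at h
      simpa using h
    · intro x _ hx
      have hxj : (x : ℕ) ≠ (j : ℕ) := fun hh => hx (Fin.ext hh)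
      have h1 : ¬ (((j : ℕ) + 1) % 2 = 0 ∧ (x : ℕ) = (j : ℕ) + 1 + 1) := by omega
      have h2 : ¬ ((x : ℕ) % 2 = 0 ∧ (j : ℕ) + 1 = (x : ℕ) + 1) := by omega
      rw [if_neg h1, if_neg h2]
      simp
    · intro hh
      exact absurd (Finset.mem_univ _) hh
  · -- `j` odd: row `j - 1`
    have hi : (j : ℕ) - 1 < d := by omega
    have h := congrFun hb ⟨(j : ℕ) - 1, hi⟩
    simp only [Matrix.mulVec, dotProduct, Matrix.sub_apply, Matrix.transpose_apply,
      Matrix.of_apply, Pi.zero_apply] at h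
    rw [Finset.sum_eq_single j] at h
    · have h1 : ((j : ℕ) - 1) % 2 = 0 ∧ (j : ℕ) = (j : ℕ) - 1 + 1 := by omega
      have h2 : ¬ ((j : ℕ) % 2 = 0 ∧ (j : ℕ) - 1 = (j : ℕ) + 1) := by omega
      rw [if_pos h1, if_neg h2] at h
      simpa using h
    · intro x _ hx
      have hxj : (x : ℕ) ≠ (j : ℕ) := fun hh => hx (Fin.ext hh)
      have h1 : ¬ (((j : ℕ) - 1) % 2 = 0 ∧ (x : ℕ) = (j : ℕ) - 1 + 1) := by omega
      have h2 : ¬ ((x : ℕ) % 2 = 0 ∧ (j : ℕ) - 1 = (x : ℕ) + 1) := by omega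
      rw [if_neg h1, if_neg h2]
      simp
    · intro hh
      exact absurd (Finset.mem_univ _) hh

end sieg

end Cfsg.Agent.Helper51.S74T2
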