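import Cfsg.Agent.Helper67.S77Defs

/-!
CALL S0429 piece F17a (helper51): a vertex with `t3 x y z = 1` is off the line `y z` and adjacent
to none of its points.
-/

set_option autoImplicit false
set_option linter.unusedSectionVars false
set_option linter.unusedVariables false

namespace Cfsg.Agent.Helper51.S77F17a

open Finset
open Cfsg.Agent.Helper67.S77

variable {V : Type*} [Fintype V] [DecidableEq V] {G : SimpleGraph V} [DecidableRel G.Adj]

theorem p_F17a (hG : G.IsSRGWith 77 16 0 4) (h7 : F7 G) : F17a G := by
  intro x y z hxy hxz hyz ht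
  have ht' : t3 G y z x = 1 := by rw [← t3_rot]; exact ht
  constructor
  · rw [mem_lineOf]
    rintro (h | h | h)
    · exact hxy.1 h
    · exact hxz.1 h
    · rw [mem_Par] at h
      rw [h.2] at ht'
      exact absurd ht' (by norm_num)
  · intro v hv hxv
    rw [mem_lineOf] at hv
    rcases hv with hv | hv | hv
    · rw [hv] at hxv; exact hxy.2 hxv
    · rw [hv] at hxv; exact hxz.2 hxv
    · have h2 := h7 y z hyz v hv x hxv.symm (fun h => hxy.2 h.symm) (fun h => hxz.2 h.symm)
      rw [h2] at ht'
      exact absurd ht' (by norm_num)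

end Cfsg.Agent.Helper51.S77F17a
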