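import Cfsg.Agent.Helper67.S77Defs

/-!
CALL S0429 piece F19a (helper51, double): every vertex lies in exactly 6 cocliques with 21
vertices.
-/

set_option autoImplicit false
set_option linter.unusedSectionVars false
set_option linter.unusedVariables false

namespace Cfsg.Agent.Helper51.S77F19a

open Finset
open Cfsg.Agent.Helper67.S77

variable {V : Type*} [Fintype V] [DecidableEq V] {G : SimpleGraph V} [DecidableRel G.Adj]

theorem p_F19a (hG : G.IsSRGWith 77 16 0 4) (h18 : F18 G) : F19a G := by
  intro x
  set S := (Cocls G).filter (fun C => x ∈ C) with hS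
  -- count pairs `(C, y)`, `C ∈ S`, `y ∈ C \ {x}`
  have h1 : ∑ C ∈ S, (C.erase x).card = 20 * S.card := by
    have e : ∀ C ∈ S, (C.erase x).card = 20 := by
      intro C hC
      rw [hS, Finset.mem_filter, mem_Cocls] at hC
      rw [Finset.card_erase_of_mem hC.2, hC.1.1]
    rw [Finset.sum_congr rfl e, Finset.sum_const, smul_eq_mul, mul_comm]
  have h2 : ∑ C ∈ S, (C.erase x).card =
      ∑ y ∈ (Finset.univ : Finset V).erase x, (S.filter (fun C => y ∈ C)).card := by
    have e : ∀ C ∈ S, (C.erase x).card =
        ∑ y ∈ (Finset.univ : Finset V).erase x, if y ∈ C then 1 else 0 := by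
      intro C _
      rw [← Finset.card_filter]
      congr 1
      ext y
      simp only [Finset.mem_erase, Finset.mem_filter, Finset.mem_univ, and_true]
    rw [Finset.sum_congr rfl e, Finset.sum_comm]
    refine Finset.sum_congr rfl fun y _ => ?_
    rw [Finset.card_filter]
  have hsub : G.neighborFinset x ⊆ (Finset.univ : Finset V).erase x := by
    intro y hy
    rw [SimpleGraph.mem_neighborFinset] at hy
    exact Finset.mem_erase.mpr ⟨fun h => G.loopless.irrefl x (h ▸ hy), Finset.mem_univ y⟩
  have h3 : ∑ y ∈ (Finset.univ : Finset V).erase x, (S.filter (fun C => y ∈ C)).card = 120 := by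
    rw [← Finset.sum_sdiff hsub]
    have e0 : ∀ y ∈ G.neighborFinset x, (S.filter (fun C => y ∈ C)).card = 0 := by
      intro y hy
      rw [SimpleGraph.mem_neighborFinset] at hy
      rw [Finset.card_eq_zero, Finset.filter_eq_empty_iff]
      intro C hC hyC
      rw [hS, Finset.mem_filter, mem_Cocls] at hC
      exact hC.1.2 x hC.2 y hyC hy
    have e2 : ∀ y ∈ (Finset.univ : Finset V).erase x \ G.neighborFinset x,
        (S.filter (fun C => y ∈ C)).card = 2 := by
      intro y hy
      rw [Finset.mem_sdiff, Finset.mem_erase, SimpleGraph.mem_neighborFinset] at hy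
      have hna : NA G x y := ⟨Ne.symm hy.1.1, hy.2⟩
      rw [← h18 x y hna, hS, Finset.filter_filter]
    rw [Finset.sum_congr rfl e0, Finset.sum_congr rfl e2, Finset.sum_const, Finset.sum_const,
      Finset.card_sdiff_of_subset hsub, Finset.card_erase_of_mem (Finset.mem_univ x),
      Finset.card_univ, card_V hG, card_nbr hG]
    rfl
  have h4 : 20 * S.card = 120 := by rw [← h1, h2, h3]
  omega

end Cfsg.Agent.Helper51.S77F19a
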