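import Mathlib
import Cfsg.Agent.Helper44.SPUDefs
import Cfsg.Agent.Helper13.SpParab
import Cfsg.Agent.Helper13.SpSplit

set_option autoImplicit false
open Classical

/-!
CALL S2316 (helper44), piece LEVI: the Levi projection of the pointwise stabiliser `Qs hk F 0` of
the standard totally isotropic `k`-space onto `Sp_2(m-k)`.
-/

namespace Cfsg.Agent.Helper51.SPULEVI

open Matrix Cfsg.Agent.Helper44.SPU Cfsg.Agent.Helper13

section general
variable {F : Type*} [Field F] {m : ℕ}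

theorem split_inl {k : ℕ} (hk : k ≤ m) (i : Fin k) :
    splitEquiv hk (Sum.inl i) = Fin.castLE hk i := by
  apply Fin.ext
  rw [splitEquiv_inl]
  rfl

/-- column fact: the columns of `g ∈ Qs hk F 0` at the `e_i` are unit vectors. -/
theorem col_fact {k : ℕ} (hk : k ≤ m) (g : symplecticGroup (Fin m) F) (hg : g ∈ Qs hk F 0)
    (i : Fin k) (a : Fin m ⊕ Fin m) :
    (g : Matrix (Fin m ⊕ Fin m) (Fin m ⊕ Fin m) F) a (Sum.inl (Fin.castLE hk i)) =
      if a = Sum.inl (Fin.castLE hk i) then 1 else 0 := by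
  rw [← mulVec_eV hk g.1 i a, hg.1 i]
  unfold eV
  rw [Pi.single_apply]

/-- row fact: the rows of `g ∈ Qs hk F 0` at the `f_i` are unit vectors. -/
theorem row_fact {k : ℕ} (hk : k ≤ m) (g : symplecticGroup (Fin m) F) (hg : g ∈ Qs hk F 0)
    (i : Fin k) (b : Fin m ⊕ Fin m) :
    (g : Matrix (Fin m ⊕ Fin m) (Fin m ⊕ Fin m) F) (Sum.inr (Fin.castLE hk i)) b =
      if Sum.inr (Fin.castLE hk i) = b then 1 else 0 := by
  have h := (mem_symplecticGroup_iff_sympForm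
    (g : Matrix (Fin m ⊕ Fin m) (Fin m ⊕ Fin m) F)).mp g.2 (Pi.single b 1) (eV hk F i)
  rw [hg.1 i, sympForm_eV, sympForm_eV, Matrix.mulVec_single_one, Pi.single_apply] at h
  exact h

/-- the lower left block has zero `e`-columns -/
theorem C_fact {k : ℕ} (hk : k ≤ m) (g : symplecticGroup (Fin m) F) (hg : g ∈ Qs hk F 0)
    (c : Fin (m - k) ⊕ Fin (m - k)) (i : Fin k) :
    pblk hk (g : Matrix (Fin m ⊕ Fin m) (Fin m ⊕ Fin m) F) (Sum.inr c) (Sum.inl (Sum.inl i)) =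
      0 := by
  show (g : Matrix (Fin m ⊕ Fin m) (Fin m ⊕ Fin m) F) (pairEquiv hk (Sum.inr c))
    (pairEquiv hk (Sum.inl (Sum.inl i))) = 0
  have e1 : pairEquiv hk (Sum.inl (Sum.inl i)) = Sum.inl (Fin.castLE hk i) := by
    rw [pairEquiv_ll, split_inl]
  rw [e1, col_fact hk g hg, if_neg]
  rw [← e1]
  intro h
  exact absurd ((pairEquiv hk).injective h) (by simp)

/-- the upper right block has zero `f`-rows -/
theorem B_fact {k : ℕ} (hk : k ≤ m) (g : symplecticGroup (Fin m) F) (hg : g ∈ Qs hk F 0)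
    (i : Fin k) (d : Fin (m - k) ⊕ Fin (m - k)) :
    pblk hk (g : Matrix (Fin m ⊕ Fin m) (Fin m ⊕ Fin m) F) (Sum.inl (Sum.inr i)) (Sum.inr d) =
      0 := by
  show (g : Matrix (Fin m ⊕ Fin m) (Fin m ⊕ Fin m) F) (pairEquiv hk (Sum.inl (Sum.inr i)))
    (pairEquiv hk (Sum.inr d)) = 0
  have e1 : pairEquiv hk (Sum.inl (Sum.inr i)) = Sum.inr (Fin.castLE hk i) := by
    rw [pairEquiv_lr, split_inl]
  rw [e1, row_fact hk g hg, if_neg]
  rw [← e1]
  intro h
  exact absurd ((pairEquiv hk).injective h) (by simp)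

theorem D_mul {k : ℕ} (hk : k ≤ m) (g h : symplecticGroup (Fin m) F) (hg : g ∈ Qs hk F 0)
    (hh : h ∈ Qs hk F 0) :
    (pblk hk ((g : Matrix (Fin m ⊕ Fin m) (Fin m ⊕ Fin m) F) *
        (h : Matrix (Fin m ⊕ Fin m) (Fin m ⊕ Fin m) F))).toBlocks₂₂ =
      (pblk hk (g : Matrix (Fin m ⊕ Fin m) (Fin m ⊕ Fin m) F)).toBlocks₂₂ *
        (pblk hk (h : Matrix (Fin m ⊕ Fin m) (Fin m ⊕ Fin m) F)).toBlocks₂₂ := by
  rw [pblk_mul]
  ext c d
  simp only [Matrix.toBlocks₂₂, Matrix.of_apply, Matrix.mul_apply, Fintype.sum_sum_type]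
  rw [Finset.sum_eq_zero (fun i _ => by rw [C_fact hk g hg, zero_mul]),
    Finset.sum_eq_zero (fun i _ => by rw [B_fact hk h hh, mul_zero])]
  simp

theorem D_mem {k : ℕ} (hk : k ≤ m) (g : symplecticGroup (Fin m) F) (hg : g ∈ Qs hk F 0) :
    (pblk hk (g : Matrix (Fin m ⊕ Fin m) (Fin m ⊕ Fin m) F)).toBlocks₂₂ ∈
      symplecticGroup (Fin (m - k)) F := by
  have h1 := Matrix.fromBlocks_toBlocks (pblk hk (g : Matrix (Fin m ⊕ Fin m) (Fin m ⊕ Fin m) F))
  have h2 := pblk_sp hk g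
  rw [← h1] at h2
  rw [fromBlocks_transpose, fromBlocks_multiply, fromBlocks_multiply, fromBlocks_inj] at h2
  simp only [Matrix.mul_zero, Matrix.zero_mul, add_zero, zero_add] at h2
  obtain ⟨-, -, -, h4⟩ := h2
  have hC : (pblk hk (g : Matrix (Fin m ⊕ Fin m) (Fin m ⊕ Fin m) F)).toBlocks₂₁ *
      J (Fin k) F * ((pblk hk (g : Matrix (Fin m ⊕ Fin m) (Fin m ⊕ Fin m) F)).toBlocks₂₁)ᵀ =
      0 := by
    ext c c'
    simp only [Matrix.mul_apply, Fintype.sum_sum_type, Matrix.toBlocks₂₁, Matrix.of_apply,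
      Matrix.transpose_apply, C_fact hk g hg, Matrix.J, Matrix.fromBlocks_apply₁₁,
      Matrix.fromBlocks_apply₁₂, Matrix.fromBlocks_apply₂₁, Matrix.fromBlocks_apply₂₂,
      Matrix.zero_apply, zero_mul, mul_zero, Finset.sum_const_zero, add_zero, zero_add]
  rw [hC, zero_add] at h4
  exact SymplecticGroup.mem_iff.mpr h4

theorem lift_mem {k : ℕ} (hk : k ≤ m) (D0 : symplecticGroup (Fin (m - k)) F) :
    (fromBlocks (1 : Matrix (Fin k ⊕ Fin k) (Fin k ⊕ Fin k) F) 0 0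
        (D0 : Matrix (Fin (m - k) ⊕ Fin (m - k)) (Fin (m - k) ⊕ Fin (m - k)) F)).submatrix
        (pairEquiv hk).symm (pairEquiv hk).symm ∈ symplecticGroup (Fin m) F := by
  rw [SymplecticGroup.mem_iff]
  conv_lhs => rw [← J_pair' (F := F) hk]
  conv_rhs => rw [← J_pair' (F := F) hk]
  rw [Matrix.transpose_submatrix, Matrix.submatrix_mul_equiv, Matrix.submatrix_mul_equiv,
    fromBlocks_transpose, fromBlocks_multiply, fromBlocks_multiply]
  have h2 := SymplecticGroup.mem_iff.mp D0.2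
  simp only [Matrix.mul_zero, Matrix.zero_mul, add_zero, zero_add, Matrix.transpose_zero, h2,
    Matrix.one_mul, Matrix.transpose_one, Matrix.mul_one]

theorem pblk_lift {k : ℕ} (hk : k ≤ m)
    (D0 : Matrix (Fin (m - k) ⊕ Fin (m - k)) (Fin (m - k) ⊕ Fin (m - k)) F) :
    pblk hk ((fromBlocks (1 : Matrix (Fin k ⊕ Fin k) (Fin k ⊕ Fin k) F) 0 0 D0).submatrix
        (pairEquiv hk).symm (pairEquiv hk).symm) = fromBlocks 1 0 0 D0 := by
  ext x y
  simp [pblk]

theorem eV_comp {k : ℕ} (hk : k ≤ m) (i : Fin k) :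
    eV hk F i ∘ pairEquiv hk = Pi.single (Sum.inl (Sum.inl i)) 1 := by
  have e1 : pairEquiv hk (Sum.inl (Sum.inl i)) = Sum.inl (Fin.castLE hk i) := by
    rw [pairEquiv_ll, split_inl]
  funext x
  unfold eV
  rw [← e1]
  simp only [Function.comp_apply, Pi.single_apply, (pairEquiv hk).injective.eq_iff]

theorem lift_mem_Qs {k : ℕ} (hk : k ≤ m) (D0 : symplecticGroup (Fin (m - k)) F) :
    (⟨_, lift_mem hk D0⟩ : symplecticGroup (Fin m) F) ∈ Qs hk F 0 := by
  refine ⟨fun i => ?_, fun i hi => absurd hi (Nat.not_lt_zero _)⟩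
  have h := pblk_mulVec hk ((fromBlocks (1 : Matrix (Fin k ⊕ Fin k) (Fin k ⊕ Fin k) F) 0 0
        (D0 : Matrix (Fin (m - k) ⊕ Fin (m - k)) (Fin (m - k) ⊕ Fin (m - k)) F)).submatrix
        (pairEquiv hk).symm (pairEquiv hk).symm) (eV hk F i)
  rw [pblk_lift, eV_comp, Matrix.mulVec_single_one] at h
  have h' : ((fromBlocks (1 : Matrix (Fin k ⊕ Fin k) (Fin k ⊕ Fin k) F) 0 0
        (D0 : Matrix (Fin (m - k) ⊕ Fin (m - k)) (Fin (m - k) ⊕ Fin (m - k)) F)).submatrix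
        (pairEquiv hk).symm (pairEquiv hk).symm *ᵥ eV hk F i) ∘ pairEquiv hk =
      eV hk F i ∘ pairEquiv hk := by
    rw [h, eV_comp]
    funext x
    rcases x with x | c
    · simp [Pi.single_apply, Matrix.one_apply]
    · simp [Pi.single_apply]
  funext a
  have h3 := congrFun h' ((pairEquiv hk).symm a)
  simpa using h3

/-- the Levi projection. -/
noncomputable def leviHom {k : ℕ} (hk : k ≤ m) :
    ↥(Qs hk F 0) →* symplecticGroup (Fin (m - k)) F where
  toFun g := ⟨(pblk hk (g.1 : Matrix (Fin m ⊕ Fin m) (Fin m ⊕ Fin m) F)).toBlocks₂₂,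
    D_mem hk g.1 g.2⟩
  map_one' := by
    apply Subtype.ext
    show (pblk hk (1 : Matrix (Fin m ⊕ Fin m) (Fin m ⊕ Fin m) F)).toBlocks₂₂ = 1
    ext c d
    simp [pblk, Matrix.toBlocks₂₂, Matrix.one_apply]
  map_mul' g h := by
    apply Subtype.ext
    exact D_mul hk g.1 h.1 g.2 h.2

theorem leviHom_surj {k : ℕ} (hk : k ≤ m) : Function.Surjective (leviHom (F := F) hk) := by
  intro D0
  refine ⟨⟨⟨_, lift_mem hk D0⟩, lift_mem_Qs hk D0⟩, ?_⟩
  apply Subtype.ext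
  show (pblk hk ((fromBlocks (1 : Matrix (Fin k ⊕ Fin k) (Fin k ⊕ Fin k) F) 0 0
        (D0 : Matrix (Fin (m - k) ⊕ Fin (m - k)) (Fin (m - k) ⊕ Fin (m - k)) F)).submatrix
        (pairEquiv hk).symm (pairEquiv hk).symm)).toBlocks₂₂ = _
  rw [pblk_lift, Matrix.toBlocks_fromBlocks₂₂]

end general

variable {F : Type*} [Field F] [Fintype F] {m : ℕ}

/-- LEVI: the Levi projection of the pointwise stabiliser of the standard totally isotropic
`k`-space onto `Sp_2(m-k)`. -/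
theorem spu_levi {k : ℕ} (hk : k ≤ m) :
    ∃ π : ↥(Cfsg.Agent.Helper13.Qs hk F 0) →* Matrix.symplecticGroup (Fin (m - k)) F,
      Function.Surjective π :=
  ⟨leviHom hk, leviHom_surj hk⟩

end Cfsg.Agent.Helper51.SPULEVI
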