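import Mathlib
import Cfsg.Prelude.Def_GeometricClasses
import Cfsg.Prelude.Def_Classical
import Cfsg.Agent.Helper97.THCLASSO

/-!
S5981 piece EXISO (double by helper51): an isometry of an odd-dimensional quadratic form that is
conjugate to `diag (t, t⁻¹, 1)`.
-/

set_option autoImplicit false
set_option linter.unusedSectionVars false
open Matrix Polynomial

namespace Cfsg.Agent.Helper51.THEXISO

variable {F : Type*} [Field F] [Fintype F]

/-- EXISO (level 2: uses CLASSO) -/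
theorem exc_iso (h2 : (2 : F) ≠ 0) (k : ℕ) (Q : (Fin (2 * k + 1) → F) → F)
    (hQ : Cfsg.Geo.IsNondegenerateQuadraticForm Q) (t : Fin k → F) (ht : ∀ i, t i ≠ 0) :
    ∃ (y h : GL (Fin (2 * k + 1)) F) (e : Fin k ⊕ (Fin k ⊕ Unit) ≃ Fin (2 * k + 1)),
      (∀ v, Q ((y : Matrix (Fin (2 * k + 1)) (Fin (2 * k + 1)) F) *ᵥ v) = Q v) ∧
      (y : Matrix (Fin (2 * k + 1)) (Fin (2 * k + 1)) F) =
        (h : Matrix (Fin (2 * k + 1)) (Fin (2 * k + 1)) F) *
          Matrix.diagonal (fun j => Sum.elim t (Sum.elim (fun i => (t i)⁻¹) (fun _ => 1)) (e.symm j)) *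
          ((h⁻¹ : GL (Fin (2 * k + 1)) F) : Matrix (Fin (2 * k + 1)) (Fin (2 * k + 1)) F) := by
  classical
  obtain ⟨P, c, e₀, hc, hP⟩ := Cfsg.Agent.Helper97.THCLASSO.class_odd h2 k Q hQ
  let ρ : Fin k ⊕ (Fin k ⊕ Unit) ≃ Unit ⊕ (Fin k ⊕ Fin k) :=
    (Equiv.sumAssoc (Fin k) (Fin k) Unit).symm.trans (Equiv.sumComm (Fin k ⊕ Fin k) Unit)
  let f : Fin k ⊕ (Fin k ⊕ Unit) → F := Sum.elim t (Sum.elim (fun i => (t i)⁻¹) (fun _ => 1))
  have hf0 : ∀ s, f s ≠ 0 := by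
    rintro (i | i | u)
    · exact ht i
    · exact inv_ne_zero (ht i)
    · exact one_ne_zero
  let ε : Fin k ⊕ (Fin k ⊕ Unit) ≃ Fin (2 * k + 1) := ρ.trans e₀.symm
  let d : Fin (2 * k + 1) → F := fun j => f (ε.symm j)
  have hd0 : ∀ j, d j ≠ 0 := fun j => hf0 _
  have hD1 : Matrix.diagonal d * Matrix.diagonal (fun j => (d j)⁻¹) = 1 := by
    rw [Matrix.diagonal_mul_diagonal, ← Matrix.diagonal_one]
    congr 1; funext j; exact mul_inv_cancel₀ (hd0 j)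
  have hD2 : Matrix.diagonal (fun j => (d j)⁻¹) * Matrix.diagonal d = 1 := by
    rw [Matrix.diagonal_mul_diagonal, ← Matrix.diagonal_one]
    congr 1; funext j; exact inv_mul_cancel₀ (hd0 j)
  let Du : GL (Fin (2 * k + 1)) F := ⟨Matrix.diagonal d, Matrix.diagonal (fun j => (d j)⁻¹), hD1, hD2⟩
  refine ⟨P * Du * P⁻¹, P, ε, ?_, rfl⟩
  intro w
  set u : Fin (2 * k + 1) → F :=
    ((P⁻¹ : GL (Fin (2 * k + 1)) F) : Matrix (Fin (2 * k + 1)) (Fin (2 * k + 1)) F) *ᵥ w with hu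
  have hw : (P : Matrix (Fin (2 * k + 1)) (Fin (2 * k + 1)) F) *ᵥ u = w := by
    rw [hu, Matrix.mulVec_mulVec]; simp
  set v : Unit ⊕ (Fin k ⊕ Fin k) → F := u ∘ e₀.symm with hvdef
  have hvu : v ∘ e₀ = u := by funext j; simp [hvdef]
  have h1 : Q w = c * Cfsg.quadFormOdd k F v := by rw [← hP v, hvu, hw]
  let v' : Unit ⊕ (Fin k ⊕ Fin k) → F := fun s => f (ρ.symm s) * v s
  have h2' : ((P * Du * P⁻¹ : GL (Fin (2 * k + 1)) F) :
      Matrix (Fin (2 * k + 1)) (Fin (2 * k + 1)) F) *ᵥ w =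
      (P : Matrix (Fin (2 * k + 1)) (Fin (2 * k + 1)) F) *ᵥ (v' ∘ e₀) := by
    rw [Units.val_mul, Units.val_mul, ← Matrix.mulVec_mulVec, ← Matrix.mulVec_mulVec]
    congr 1
    funext j
    show (Matrix.diagonal d *ᵥ u) j = _
    rw [Matrix.mulVec_diagonal]
    simp [v', d, ε, hvdef]
  rw [h2', hP v', h1]
  congr 1
  simp only [Cfsg.quadFormOdd, v', ρ, f]
  simp only [Equiv.symm_trans_apply, Equiv.symm_symm, Equiv.sumComm_symm, Equiv.sumComm_apply,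
    Sum.swap_inl, Sum.swap_inr, Equiv.sumAssoc_apply_inr, Equiv.sumAssoc_apply_inl_inl,
    Equiv.sumAssoc_apply_inl_inr, Sum.elim_inl, Sum.elim_inr, one_mul]
  congr 1
  refine Finset.sum_congr rfl fun i _ => ?_
  have := ht i
  field_simp

end Cfsg.Agent.Helper51.THEXISO
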