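import Mathlib
import Cfsg.Prelude.Def_GeometricClasses
import Cfsg.Prelude.Def_Classical
import Cfsg.Agent.Helper60.THEXZ
import Cfsg.Agent.Helper80.THOMEGA
import Cfsg.Agent.Helper99.THEXD

set_option autoImplicit false
set_option linter.unusedSectionVars false
open Matrix Polynomial

namespace Cfsg.Agent.Helper51.THGEXC5Core

/-- the fifteen candidate arrangements (centre, two pairs) -/
def cand5 : List (Fin 5 → Fin 5) :=
  [![0,1,2,3,4], ![0,1,3,2,4], ![0,1,4,2,3],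
   ![1,0,2,3,4], ![1,0,3,2,4], ![1,0,4,2,3],
   ![2,0,1,3,4], ![2,0,3,1,4], ![2,0,4,1,3],
   ![3,0,1,2,4], ![3,0,2,1,4], ![3,0,4,1,2],
   ![4,0,1,2,3], ![4,0,2,1,3], ![4,0,3,1,2]]

set_option maxRecDepth 100000 in
theorem cand5_bij : ∀ s ∈ cand5, Function.Bijective s := by decide +kernel

set_option maxRecDepth 100000 in
theorem comb_five_aux : ∀ a0 a1 a2 a3 a4 : ZMod 5, a0 + a1 + a2 + a3 + a4 = 0 →
    ∃ s ∈ cand5, (![a0,a1,a2,a3,a4] : Fin 5 → ZMod 5) (s 1) + ![a0,a1,a2,a3,a4] (s 2) = 2 * ![a0,a1,a2,a3,a4] (s 0) ∧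
      (![a0,a1,a2,a3,a4] : Fin 5 → ZMod 5) (s 3) + ![a0,a1,a2,a3,a4] (s 4) = 2 * ![a0,a1,a2,a3,a4] (s 0) := by
  decide +kernel

theorem comb_five' (a : Fin 5 → ZMod 5) (h : ∑ i, a i = 0) :
    ∃ σ : Equiv.Perm (Fin 5), a (σ 1) + a (σ 2) = 2 * a (σ 0) ∧ a (σ 3) + a (σ 4) = 2 * a (σ 0) := by
  have ha : (![a 0, a 1, a 2, a 3, a 4] : Fin 5 → ZMod 5) = a := by
    funext i; fin_cases i <;> rfl
  rw [Fin.sum_univ_five] at h
  obtain ⟨s, hs, h1, h2⟩ := comb_five_aux (a 0) (a 1) (a 2) (a 3) (a 4) h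
  rw [ha] at h1 h2
  exact ⟨Equiv.ofBijective s (cand5_bij s hs), h1, h2⟩


variable {F : Type*} [Field F] [Fintype F]

/-- the arrangement of the five coordinates: centre last, pairs matched -/
def arr5 : Fin 2 ⊕ (Fin 2 ⊕ Unit) → Fin 5 :=
  Sum.elim ![1, 3] (Sum.elim ![2, 4] (fun _ => 0))

theorem arr5_inj : Function.Injective arr5 := by decide

theorem good_exc_five_core (hv : padicValNat 5 (Fintype.card F - 1) = 1)
    (Q : (Fin 5 → F) → F) (hQ : Cfsg.Geo.IsNondegenerateQuadraticForm Q)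
    (hcomb : ∀ a : Fin 5 → ZMod 5, ∑ i, a i = 0 →
      ∃ σ : Equiv.Perm (Fin 5), a (σ 1) + a (σ 2) = 2 * a (σ 0) ∧ a (σ 3) + a (σ 4) = 2 * a (σ 0))
    (hiso : ∀ t : Fin 2 → F, (∀ i, t i ≠ 0) →
      ∃ (y h : GL (Fin 5) F) (e : Fin 2 ⊕ (Fin 2 ⊕ Unit) ≃ Fin 5),
      (∀ v, Q ((y : Matrix (Fin 5) (Fin 5) F) *ᵥ v) = Q v) ∧
      (y : Matrix (Fin 5) (Fin 5) F) =
        (h : Matrix (Fin 5) (Fin 5) F) *
          Matrix.diagonal (fun j => Sum.elim t (Sum.elim (fun i => (t i)⁻¹) (fun _ => 1)) (e.symm j)) *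
          ((h⁻¹ : GL (Fin 5) F) : Matrix (Fin 5) (Fin 5) F))
    (x : GL (Fin 5) F) (hdet : x ∈ Cfsg.Geo.specialLinear (Fin 5) F) (z : F)
    (hx : ((x ^ 5 : GL (Fin 5) F) : Matrix (Fin 5) (Fin 5) F) = z • (1 : Matrix (Fin 5) (Fin 5) F)) :
    ∃ h : GL (Fin 5) F, h⁻¹ * x * h ∈ Cfsg.Geo.quadSimilarityGroup Q := by
  classical
  have : Fact (Nat.Prime 5) := ⟨by norm_num⟩
  have hdet1 : (x : Matrix (Fin 5) (Fin 5) F).det = 1 := by
    have h1 : Matrix.GeneralLinearGroup.det x = 1 := hdet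
    have h2 := congrArg Units.val h1
    simpa using h2
  have hxz : (x : Matrix (Fin 5) (Fin 5) F) ^ 5 = z • (1 : Matrix (Fin 5) (Fin 5) F) := by
    rw [← hx]; simp
  have hz : z = 1 :=
    Cfsg.Agent.Helper60.THEXZ.exc_pow_one 5 (by norm_num) (by norm_num) hv _ hdet1 z hxz
  have hx5 : (x : Matrix (Fin 5) (Fin 5) F) ^ 5 = 1 := by rw [hxz, hz, one_smul]
  have h5 : 5 ∣ Fintype.card F - 1 := dvd_of_one_le_padicValNat (by omega)
  obtain ⟨ω, hω1, hω5⟩ := Cfsg.Agent.Helper80.THOMEGA.exists_omega (F := F) 5 (by norm_num) h5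
  have h5F : ((5 : ℕ) : F) ≠ 0 := by
    intro h
    obtain ⟨m, hm⟩ := h5
    have hc : Fintype.card F = 5 * m + 1 := by
      have := Fintype.card_pos (α := F); omega
    have h0 := Nat.cast_card_eq_zero F
    rw [hc] at h0
    push_cast at h0
    have h5' : (5 : F) = 0 := by exact_mod_cast h
    rw [h5', zero_mul, zero_add] at h0
    exact one_ne_zero h0
  obtain ⟨h₁, e, hxe⟩ := Cfsg.Agent.Helper99.THEXD.exc_diag 5 (by norm_num) h5F _ hx5 ω hω5 hω1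
  have hω0 : ω ≠ 0 := by rintro rfl; simp at hω5
  have hord : orderOf ω = 5 := orderOf_eq_prime hω5 hω1
  have hdetD : (Matrix.diagonal fun i => ω ^ e i).det = 1 := by
    rw [← Matrix.det_units_conj h₁, ← hxe]; exact hdet1
  rw [Matrix.det_diagonal, Finset.prod_pow_eq_pow_sum] at hdetD
  have hdvd : 5 ∣ ∑ i, e i := by
    have h := orderOf_dvd_of_pow_eq_one hdetD
    rwa [hord] at h
  have hsum : ∑ i, ((e i : ℕ) : ZMod 5) = 0 := by
    rw [← Nat.cast_sum]; exact (ZMod.natCast_eq_zero_iff _ 5).mpr hdvd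
  obtain ⟨σ, hσ1, hσ2⟩ := hcomb (fun i => ((e i : ℕ) : ZMod 5)) hsum
  have key : ∀ a b c : ℕ, ((a : ZMod 5) + (b : ZMod 5) = 2 * (c : ZMod 5)) →
      ω ^ a * ω ^ b = ω ^ c * ω ^ c := by
    intro a b c h
    rw [← pow_add, ← pow_add]
    have h' : ((a + b : ℕ) : ZMod 5) = ((c + c : ℕ) : ZMod 5) := by push_cast; rw [h]; ring
    rw [ZMod.natCast_eq_natCast_iff] at h'
    have h'' : (a + b) % 5 = (c + c) % 5 := h'
    rw [← pow_mod_orderOf ω (a + b), ← pow_mod_orderOf ω (c + c), hord, h'']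
  have hrel1 := key _ _ _ hσ1
  have hrel2 := key _ _ _ hσ2
  set c : F := ω ^ e (σ 0) with hc
  have hc0 : c ≠ 0 := pow_ne_zero _ hω0
  have hp1 : ω ^ e (σ 1) ≠ 0 := pow_ne_zero _ hω0
  have hp3 : ω ^ e (σ 3) ≠ 0 := pow_ne_zero _ hω0
  obtain ⟨y, h₂, ε, hy, hye⟩ := hiso ![ω ^ e (σ 1) / c, ω ^ e (σ 3) / c] (by
    intro i; fin_cases i
    · simpa using div_ne_zero hp1 hc0
    · simpa using div_ne_zero hp3 hc0)
  have hd : ∀ s, ω ^ e (σ (arr5 s)) = c * Sum.elim ![ω ^ e (σ 1) / c, ω ^ e (σ 3) / c]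
      (Sum.elim (fun i => (![ω ^ e (σ 1) / c, ω ^ e (σ 3) / c] i)⁻¹) (fun _ => 1)) s := by
    rintro (i | i | u)
    · fin_cases i
      · simp [arr5]; field_simp
      · simp [arr5]; field_simp
    · fin_cases i
      · simp [arr5]; field_simp; linear_combination hrel1
      · simp [arr5]; field_simp; linear_combination hrel2
    · simp [arr5, hc]
  set π : Fin 5 → Fin 5 := fun j => σ (arr5 (ε.symm j)) with hπdef
  have hπ : Function.Injective π := σ.injective.comp (arr5_inj.comp ε.symm.injective)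
  set P : Matrix (Fin 5) (Fin 5) F := Matrix.of fun i j => if i = π j then 1 else 0 with hP
  have hPtP : Pᵀ * P = 1 := by
    ext i k
    simp only [Matrix.mul_apply, Matrix.transpose_apply, hP, Matrix.of_apply, ite_mul, one_mul,
      zero_mul, Finset.sum_ite_eq', Finset.mem_univ, if_true, Matrix.one_apply, hπ.eq_iff]
  have hPPt : P * Pᵀ = 1 := by rw [_root_.mul_eq_one_comm]; exact hPtP
  set Pu : GL (Fin 5) F := ⟨P, Pᵀ, hPPt, hPtP⟩ with hPu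
  have hDP : Matrix.diagonal (fun i => ω ^ e i) * P = P * (c • Matrix.diagonal (fun j =>
      Sum.elim ![ω ^ e (σ 1) / c, ω ^ e (σ 3) / c]
      (Sum.elim (fun i => (![ω ^ e (σ 1) / c, ω ^ e (σ 3) / c] i)⁻¹) (fun _ => 1)) (ε.symm j))) := by
    ext i j
    simp only [Matrix.diagonal_mul, Matrix.mul_smul, Matrix.smul_apply, Matrix.mul_diagonal, hP,
      Matrix.of_apply, smul_eq_mul]
    split_ifs with hij
    · rw [hij, mul_one, one_mul]; exact hd (ε.symm j)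
    · simp
  refine ⟨h₁ * Pu * h₂⁻¹, ?_⟩
  have e1 : ((h₁ * Pu * h₂⁻¹)⁻¹ * x * (h₁ * Pu * h₂⁻¹) : GL (Fin 5) F) =
      h₂ * (Pu⁻¹ * (h₁⁻¹ * x * h₁) * Pu) * h₂⁻¹ := by group
  have e2 : ((h₁⁻¹ * x * h₁ : GL (Fin 5) F) : Matrix (Fin 5) (Fin 5) F) =
      Matrix.diagonal (fun i => ω ^ e i) := by
    rw [Units.val_mul, Units.val_mul, hxe]
    simp [Matrix.mul_assoc]
  have e3 : ((Pu⁻¹ * (h₁⁻¹ * x * h₁) * Pu : GL (Fin 5) F) : Matrix (Fin 5) (Fin 5) F) =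
      c • Matrix.diagonal (fun j =>
      Sum.elim ![ω ^ e (σ 1) / c, ω ^ e (σ 3) / c]
      (Sum.elim (fun i => (![ω ^ e (σ 1) / c, ω ^ e (σ 3) / c] i)⁻¹) (fun _ => 1)) (ε.symm j)) := by
    rw [Units.val_mul, Units.val_mul, e2]
    show Pᵀ * _ * P = _
    rw [Matrix.mul_assoc, hDP, ← Matrix.mul_assoc, hPtP, Matrix.one_mul]
  have hmat : (((h₁ * Pu * h₂⁻¹)⁻¹ * x * (h₁ * Pu * h₂⁻¹) : GL (Fin 5) F) :
      Matrix (Fin 5) (Fin 5) F) = c • (y : Matrix (Fin 5) (Fin 5) F) := by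
    rw [e1, Units.val_mul, Units.val_mul, e3, hye, Matrix.mul_smul, Matrix.smul_mul]
  refine ⟨Units.mk0 (c ^ 2) (pow_ne_zero 2 hc0), fun v => ?_⟩
  rw [hmat, Matrix.smul_mulVec, hQ.smul, hy]
  rfl

/-- GEXC5 with only the EXISO input (for `k = 2`) left as a hypothesis. -/
theorem good_exc_five_of_iso (hv : padicValNat 5 (Fintype.card F - 1) = 1)
    (Q : (Fin 5 → F) → F) (hQ : Cfsg.Geo.IsNondegenerateQuadraticForm Q)
    (hiso : ∀ t : Fin 2 → F, (∀ i, t i ≠ 0) →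
      ∃ (y h : GL (Fin 5) F) (e : Fin 2 ⊕ (Fin 2 ⊕ Unit) ≃ Fin 5),
      (∀ v, Q ((y : Matrix (Fin 5) (Fin 5) F) *ᵥ v) = Q v) ∧
      (y : Matrix (Fin 5) (Fin 5) F) =
        (h : Matrix (Fin 5) (Fin 5) F) *
          Matrix.diagonal (fun j => Sum.elim t (Sum.elim (fun i => (t i)⁻¹) (fun _ => 1)) (e.symm j)) *
          ((h⁻¹ : GL (Fin 5) F) : Matrix (Fin 5) (Fin 5) F))
    (x : GL (Fin 5) F) (hdet : x ∈ Cfsg.Geo.specialLinear (Fin 5) F) (z : F)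
    (hx : ((x ^ 5 : GL (Fin 5) F) : Matrix (Fin 5) (Fin 5) F) = z • (1 : Matrix (Fin 5) (Fin 5) F)) :
    ∃ h : GL (Fin 5) F, h⁻¹ * x * h ∈ Cfsg.Geo.quadSimilarityGroup Q :=
  good_exc_five_core hv Q hQ comb_five' hiso x hdet z hx

end Cfsg.Agent.Helper51.THGEXC5Core
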