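import Mathlib
import Cfsg.Prelude.Def_GeometricClasses
import Cfsg.Prelude.Def_Classical
import Cfsg.Agent.Helper51.THGEXC5Core
import Cfsg.Agent.Helper51.THEXISO

/-!
S5981 piece GEXC5: an element of `SL₅(F)` whose fifth power is scalar, `v₅(|F| - 1) = 1`, is
conjugate into the similarity group of any non-degenerate quadratic form.
-/

set_option autoImplicit false
set_option linter.unusedSectionVars false
open Matrix Polynomial

namespace Cfsg.Agent.Helper51.THGEXC5

variable {F : Type*} [Field F] [Fintype F]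

/-- GEXC5 (level 2: uses EXZ EXD COMB5 EXISO OMEGA) -/
theorem good_exc_five (h2 : (2 : F) ≠ 0) (hv : padicValNat 5 (Fintype.card F - 1) = 1)
    (Q : (Fin 5 → F) → F) (hQ : Cfsg.Geo.IsNondegenerateQuadraticForm Q)
    (x : GL (Fin 5) F) (hdet : x ∈ Cfsg.Geo.specialLinear (Fin 5) F) (z : F)
    (hx : ((x ^ 5 : GL (Fin 5) F) : Matrix (Fin 5) (Fin 5) F) = z • (1 : Matrix (Fin 5) (Fin 5) F)) :
    ∃ h : GL (Fin 5) F, h⁻¹ * x * h ∈ Cfsg.Geo.quadSimilarityGroup Q :=
  Cfsg.Agent.Helper51.THGEXC5Core.good_exc_five_of_iso hv Q hQ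
    (fun t ht => Cfsg.Agent.Helper51.THEXISO.exc_iso h2 2 Q hQ t ht) x hdet z hx

end Cfsg.Agent.Helper51.THGEXC5
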