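import Mathlib
import Cfsg.Agent.Helper13.TLDefs
import Cfsg.Agent.Helper41.TLUPERP
import Cfsg.Agent.Helper20.TLUXFER

/-!
S5954 piece UTRANSFIX (helper51, double; mirror of `Cfsg.Agent.Helper58.TI5956.sp_trans_fix`):
Witt for nondegenerate subspaces of a nondegenerate `K` in the standard Hermitian space, fixing
`K^⊥` pointwise.
-/

set_option autoImplicit false
set_option linter.unusedSectionVars false
set_option linter.unusedVariables false

namespace Cfsg.Agent.Helper51.TI5954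

open Module Polynomial
open Cfsg.Agent.Helper13.TIu Cfsg.Agent.Helper13.TIsp

section aux

variable {F : Type*} [Field F] {σ : F →+* F} {V : Type*} [AddCommGroup V] [Module F V]
  [FiniteDimensional F V] (B : V →ₛₗ[σ] V →ₗ[F] F)

/-- an isometry from a nondegenerate subspace to the standard space of the same dimension -/
theorem utf_xfer [Finite F] (hσ2 : ∀ a, σ (σ a) = a) (hσne : σ ≠ RingHom.id F)
    (hS : B.IsSymm) (U : Submodule F V) (hU : UNd B U) (m : ℕ) (hm : finrank F U = m) :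
    ∃ Φ : U ≃ₗ[F] (Fin m → F), ∀ u v : U, stdH σ m (Φ u) (Φ v) = B (u : V) (v : V) := by
  have hS' : (B.domRestrict₁₂ U U).IsSymm := by
    rw [LinearMap.isSymm_def]
    intro x y
    simp only [LinearMap.domRestrict₁₂_apply]
    exact hS.eq x y
  have hnd : UNd (B.domRestrict₁₂ U U) ⊤ := by
    intro v _ hv
    have h0 := hU v.1 v.2 (fun w hw => by
      have h1 := hv ⟨w, hw⟩ Submodule.mem_top
      simpa only [LinearMap.domRestrict₁₂_apply] using h1)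
    exact Subtype.ext h0
  obtain ⟨Φ, hΦ⟩ := Cfsg.Agent.Helper20.TI5954.u_xfer (B.domRestrict₁₂ U U) hσ2 hσne hS' hnd
    m hm
  exact ⟨Φ, fun u v => by rw [hΦ u v]; rfl⟩

/-- an isometry between nondegenerate subspaces of the same dimension -/
theorem utf_iso [Finite F] (hσ2 : ∀ a, σ (σ a) = a) (hσne : σ ≠ RingHom.id F)
    (hS : B.IsSymm) (E E' : Submodule F V) (hE : UNd B E) (hE' : UNd B E')
    (hdim : finrank F E = finrank F E') :
    ∃ φ : E ≃ₗ[F] E', ∀ x y : E, B (φ x : V) (φ y : V) = B (x : V) (y : V) := by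
  obtain ⟨Φ, hΦ⟩ := utf_xfer B hσ2 hσne hS E hE (finrank F E) rfl
  obtain ⟨Φ', hΦ'⟩ := utf_xfer B hσ2 hσne hS E' hE' (finrank F E) hdim.symm
  refine ⟨Φ.trans Φ'.symm, fun x y => ?_⟩
  have h1 := hΦ' ((Φ.trans Φ'.symm) x) ((Φ.trans Φ'.symm) y)
  rw [LinearEquiv.trans_apply, LinearEquiv.trans_apply, LinearEquiv.apply_symm_apply,
    LinearEquiv.apply_symm_apply, hΦ x y] at h1
  exact h1.symm

end aux

section std2

variable {F : Type*} [Field F] {σ : F →+* F}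

/-- UTRANSFIX (case D; uses UXFERSUB, `witt_herm`): an isometry `W → W'` (orthonormal bases) extended
by the identity on `K^⊥`, then Witt. -/
theorem u_trans_fix [Finite F] (hσ2 : ∀ a, σ (σ a) = a) (hσne : σ ≠ RingHom.id F) (n : ℕ)
    (K W W' : Submodule F (Fin n → F)) (hK : UNd (stdH σ n) K) (hW : UNd (stdH σ n) W)
    (hW' : UNd (stdH σ n) W') (hWK : W ≤ K) (hW'K : W' ≤ K)
    (hdim : finrank F W = finrank F W') :
    ∃ g : (Fin n → F) ≃ₗ[F] (Fin n → F), (∀ u v, stdH σ n (g u) (g v) = stdH σ n u v) ∧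
      W.map (g : (Fin n → F) →ₗ[F] (Fin n → F)) = W' ∧
      ∀ v, (∀ u ∈ K, stdH σ n u v = 0) → g v = v := by
  classical
  have hS : (stdH σ n).IsSymm := stdH_symm σ hσ2 n
  have hT1 : UPres (stdH σ n) (1 : Module.End F (Fin n → F)) := fun x y => rfl
  have hmap1 : ∀ M : Submodule F (Fin n → F),
      M.map (1 : Module.End F (Fin n → F)) ≤ M := by
    rintro M _ ⟨v, hv, rfl⟩
    exact hv
  obtain ⟨P, hPK, -, hPnd, hWP, hWPs, hWPo, hPWo, hPdim⟩ :=
    Cfsg.Agent.Helper41.TI5954.u_perp (stdH σ n) hσ2 hS 1 hT1 1 one_pos (pow_one 1) K W hK hW hWK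
      (hmap1 K) (hmap1 W)
  obtain ⟨P', hP'K, -, hP'nd, hWP', hWPs', hWPo', hPWo', hPdim'⟩ :=
    Cfsg.Agent.Helper41.TI5954.u_perp (stdH σ n) hσ2 hS 1 hT1 1 one_pos (pow_one 1) K W' hK hW'
      hW'K (hmap1 K) (hmap1 W')
  obtain ⟨Q, -, -, hQnd, hKQ, hKQs, hKQo, hQKo, hQdim⟩ :=
    Cfsg.Agent.Helper41.TI5954.u_perp (stdH σ n) hσ2 hS 1 hT1 1 one_pos (pow_one 1) ⊤ K
      (stdH_nd_top σ n) hK le_top (hmap1 ⊤) (hmap1 K)
  obtain ⟨φ₁, hφ₁⟩ := utf_iso (stdH σ n) hσ2 hσne hS W W' hW hW' hdim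
  obtain ⟨φ₂, hφ₂⟩ := utf_iso (stdH σ n) hσ2 hσne hS P P' hPnd hP'nd (by omega)
  -- the two parametrisations
  obtain ⟨E, hE⟩ : ∃ E : (W × P × Q) →ₗ[F] (Fin n → F), ∀ x,
      E x = (x.1 : Fin n → F) + ((x.2.1 : Fin n → F) + (x.2.2 : Fin n → F)) :=
    ⟨LinearMap.coprod W.subtype (LinearMap.coprod P.subtype Q.subtype), fun x => by
      simp [LinearMap.coprod_apply]⟩
  obtain ⟨T, hTx⟩ : ∃ T : (W × P × Q) →ₗ[F] (Fin n → F), ∀ x,
      T x = (φ₁ x.1 : Fin n → F) + ((φ₂ x.2.1 : Fin n → F) +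
        (x.2.2 : Fin n → F)) :=
    ⟨LinearMap.coprod (W'.subtype ∘ₗ (φ₁ : W →ₗ[F] W'))
      (LinearMap.coprod (P'.subtype ∘ₗ (φ₂ : P →ₗ[F] P')) Q.subtype), fun x => by
      simp [LinearMap.coprod_apply]⟩
  have hinj : Function.Injective E := by
    rw [← LinearMap.ker_eq_bot, eq_bot_iff]
    rintro ⟨w, p, q⟩ hx
    rw [LinearMap.mem_ker, hE] at hx
    simp only at hx
    have hpK : (p : Fin n → F) ∈ K := hPK p.2
    have hwK : (w : Fin n → F) ∈ K := hWK w.2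
    have hq0 : (q : Fin n → F) = 0 := by
      have hqK : (q : Fin n → F) ∈ K := by
        have : (q : Fin n → F) = -((w : Fin n → F) + (p : Fin n → F)) := by
          rw [← add_assoc] at hx
          exact eq_neg_of_add_eq_zero_right hx
        rw [this]
        exact K.neg_mem (K.add_mem hwK hpK)
      have : (q : Fin n → F) ∈ K ⊓ Q := ⟨hqK, q.2⟩
      rw [hKQ] at this
      exact (Submodule.mem_bot F).mp this
    rw [hq0, add_zero] at hx
    have hp0 : (p : Fin n → F) = 0 := by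
      have hpW : (p : Fin n → F) ∈ W := by
        have : (p : Fin n → F) = -(w : Fin n → F) :=
          eq_neg_of_add_eq_zero_right hx
        rw [this]
        exact W.neg_mem w.2
      have : (p : Fin n → F) ∈ W ⊓ P := ⟨hpW, p.2⟩
      rw [hWP] at this
      exact (Submodule.mem_bot F).mp this
    rw [hp0, add_zero] at hx
    rw [Submodule.mem_bot]
    exact Prod.ext (Subtype.ext hx) (Prod.ext (Subtype.ext hp0) (Subtype.ext hq0))
  have hsurj : Function.Surjective E := by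
    intro v
    have hv : v ∈ K ⊔ Q := by rw [hKQs]; exact Submodule.mem_top
    obtain ⟨k, hk, q, hq, rfl⟩ := Submodule.mem_sup.mp hv
    rw [← hWPs] at hk
    obtain ⟨w, hw, p, hp, rfl⟩ := Submodule.mem_sup.mp hk
    exact ⟨(⟨w, hw⟩, ⟨p, hp⟩, ⟨q, hq⟩), by rw [hE, add_assoc]⟩
  -- orthogonality
  have hPQ : ∀ a ∈ P, ∀ c ∈ Q, stdH σ n a c = 0 := fun a ha c hc => hKQo a (hPK ha) c hc
  have hQP : ∀ c ∈ Q, ∀ a ∈ P, stdH σ n c a = 0 := fun c hc a ha => hQKo c hc a (hPK ha)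
  have hWQ : ∀ a ∈ W, ∀ c ∈ Q, stdH σ n a c = 0 := fun a ha c hc => hKQo a (hWK ha) c hc
  have hQW : ∀ c ∈ Q, ∀ a ∈ W, stdH σ n c a = 0 := fun c hc a ha => hQKo c hc a (hWK ha)
  have hPQ' : ∀ a ∈ P', ∀ c ∈ Q, stdH σ n a c = 0 := fun a ha c hc => hKQo a (hP'K ha) c hc
  have hQP' : ∀ c ∈ Q, ∀ a ∈ P', stdH σ n c a = 0 := fun c hc a ha => hQKo c hc a (hP'K ha)
  have hWQ' : ∀ a ∈ W', ∀ c ∈ Q, stdH σ n a c = 0 := fun a ha c hc => hKQo a (hW'K ha) c hc
  have hQW' : ∀ c ∈ Q, ∀ a ∈ W', stdH σ n c a = 0 := fun c hc a ha => hQKo c hc a (hW'K ha)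
  have hTE : ∀ x y, stdH σ n (T x) (T y) = stdH σ n (E x) (E y) := by
    rintro ⟨w, p, q⟩ ⟨w', p', q'⟩
    rw [hTx, hTx, hE, hE]
    simp only [map_add, LinearMap.add_apply]
    rw [hφ₁, hφ₂, hWPo' _ (φ₁ w).2 _ (φ₂ p').2, hWQ' _ (φ₁ w).2 _ q'.2,
      hPWo' _ (φ₂ p).2 _ (φ₁ w').2, hPQ' _ (φ₂ p).2 _ q'.2, hQW' _ q.2 _ (φ₁ w').2,
      hQP' _ q.2 _ (φ₂ p').2, hWPo _ w.2 _ p'.2, hWQ _ w.2 _ q'.2, hPWo _ p.2 _ w'.2,
      hPQ _ p.2 _ q'.2, hQW _ q.2 _ w'.2, hQP _ q.2 _ p'.2]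
  obtain ⟨e, he⟩ : ∃ e : Module.End F (Fin n → F), ∀ x, e (E x) = T x :=
    ⟨T ∘ₗ ((LinearEquiv.ofBijective E ⟨hinj, hsurj⟩).symm :
        (Fin n → F) →ₗ[F] (W × P × Q)), fun x => by
      rw [LinearMap.comp_apply]
      congr 1
      exact (LinearEquiv.ofBijective E ⟨hinj, hsurj⟩).symm_apply_apply x⟩
  have hpres : UPres (stdH σ n) e := by
    intro u v
    obtain ⟨x, rfl⟩ := hsurj u
    obtain ⟨y, rfl⟩ := hsurj v
    rw [he, he, hTE]
  have heW : ∀ w : W, e (w : Fin n → F) = (φ₁ w : Fin n → F) := by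
    intro w
    have h1 : E (w, 0, 0) = (w : Fin n → F) := by rw [hE]; simp
    have h2 := he (w, 0, 0)
    rw [h1, hTx] at h2
    simpa using h2
  have heQ : ∀ q ∈ Q, e q = q := by
    intro q hq
    have h1 : E (0, 0, ⟨q, hq⟩) = q := by rw [hE]; simp
    have h2 := he (0, 0, ⟨q, hq⟩)
    rw [h1, hTx] at h2
    simpa using h2
  have hinj_e : Function.Injective e := by
    rw [← LinearMap.ker_eq_bot, eq_bot_iff]
    intro v hv
    rw [LinearMap.mem_ker] at hv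
    rw [Submodule.mem_bot]
    apply stdH_nd_top σ n v Submodule.mem_top
    intro w _
    rw [← hpres v w, hv, map_zero, LinearMap.zero_apply]
  have hg : ∀ v, (LinearEquiv.ofInjectiveEndo e hinj_e) v = e v := fun v => by
    rw [LinearEquiv.coe_ofInjectiveEndo]
  refine ⟨LinearEquiv.ofInjectiveEndo e hinj_e, fun u v => by rw [hg, hg]; exact hpres u v,
    ?_, ?_⟩
  · apply le_antisymm
    · rintro _ ⟨w, hw, rfl⟩
      have h1 := heW ⟨w, hw⟩
      simp only at h1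
      rw [LinearEquiv.coe_coe, hg, h1]
      exact (φ₁ ⟨w, hw⟩).2
    · intro w' hw'
      refine ⟨(φ₁.symm ⟨w', hw'⟩ : W), (φ₁.symm ⟨w', hw'⟩).2, ?_⟩
      rw [LinearEquiv.coe_coe, hg, heW, LinearEquiv.apply_symm_apply]
  · intro v hv
    rw [hg]
    apply heQ
    have hv' : v ∈ K ⊔ Q := by rw [hKQs]; exact Submodule.mem_top
    obtain ⟨k, hk, q, hq, rfl⟩ := Submodule.mem_sup.mp hv'
    have hk0 : k = 0 := by
      apply hK k hk
      intro u hu
      have h1 := hv u hu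
      rw [map_add, hKQo u hu q hq, add_zero] at h1
      rw [← hS.eq u k, h1, map_zero]
    rw [hk0, zero_add]
    exact hq

end std2

end Cfsg.Agent.Helper51.TI5954
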