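import Mathlib
import Cfsg.Agent.Helper13.TLDefs
import Cfsg.Agent.Helper51.TLUNORMCNT

/-!
S5954 piece UXFERSUB (helper51, double): a nondegenerate Hermitian subspace over a finite field
is isometric to the standard Hermitian space.
-/

set_option autoImplicit false
set_option linter.unusedSectionVars false
set_option linter.unusedVariables false

namespace Cfsg.Agent.Helper51.TI5954

open Module Polynomial
open Cfsg.Agent.Helper13.TIu Cfsg.Agent.Helper13.TIsp

variable {F : Type*} [Field F] {σ : F →+* F} {V : Type*} [AddCommGroup V] [Module F V]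
  [FiniteDimensional F V] (B : V →ₛₗ[σ] V →ₗ[F] F)

/-- UXFERSUB (uses UXFER on the restricted form `B.domRestrict₁₂ U U`). -/
theorem u_xfer_sub [Finite F] (hσ2 : ∀ a, σ (σ a) = a) (hσne : σ ≠ RingHom.id F) (hS : B.IsSymm)
    (U : Submodule F V) (hU : UNd B U) :
    ∃ Φ : U ≃ₗ[F] (Fin (finrank F U) → F),
      ∀ u v : U, stdH σ (finrank F U) (Φ u) (Φ v) = B (u : V) (v : V) :=
  u_xfer_sub_aux B hσ2 hσne hS U hU

end Cfsg.Agent.Helper51.TI5954
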