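import Mathlib
import Cfsg.Agent.Helper51.T7920A3a

/-!
# CALL S0435 piece TI3 (helper51): orbit–stabiliser for conjugation by a subgroup
-/

set_option autoImplicit false

namespace Cfsg.Agent.Helper51

variable {G : Type*} [Group G] [Finite G]

-- PIECE TI3
theorem u7920_orbit (H : Subgroup G) (d : G) :
    Nat.card {e : G // ∃ n ∈ H, e = n * d * n⁻¹} *
        Nat.card ↥(Subgroup.centralizer ({d} : Set G) ⊓ H) = Nat.card ↥H := by
  have h := conj_orbit_stabilizer H d
  have h1 : Nat.card {e : G // ∃ n ∈ H, e = n * d * n⁻¹} =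
      {x : G | ∃ n ∈ H, n * d * n⁻¹ = x}.ncard := by
    rw [← Nat.card_coe_set_eq]
    apply Nat.card_congr
    exact Equiv.subtypeEquivRight (fun e => by
      constructor
      · rintro ⟨n, hn, h⟩
        exact ⟨n, hn, h.symm⟩
      · rintro ⟨n, hn, h⟩
        exact ⟨n, hn, h.symm⟩)
  rw [h1, inf_comm, mul_comm]
  exact h

end Cfsg.Agent.Helper51
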