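import Mathlib
import Cfsg.Agent.Helper9.OrdTools
import Cfsg.Agent.Helper51.U7920TI3

/-!
# CALL S0435 piece P3u (helper51): a 2-subgroup of order 16 of `N(R)` contains an involution
centralising a non-identity element of `R`
-/

set_option autoImplicit false

namespace Cfsg.Agent.Helper51

variable {G : Type*} [Group G] [Finite G]

-- PIECE P3u
theorem u7920_reflection (hG : Nat.card G = 7920) (R : Sylow 3 G) (T : Subgroup G)
    (hT : T ≤ Subgroup.normalizer ((R : Subgroup G) : Set G)) (hT16 : Nat.card ↥T = 16) :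
    ∃ u ∈ T, orderOf u = 2 ∧ ∃ d ∈ (R : Subgroup G), d ≠ 1 ∧ u * d = d * u := by
  classical
  have : Fact (Nat.Prime 3) := ⟨by norm_num⟩
  have : Fact (Nat.Prime 2) := ⟨by norm_num⟩
  have hR : Nat.card (R : Subgroup G) = 9 := by
    have := Cfsg.Agent.Helper9.OrdTools.sylow_card 2 880 (hG.trans (by norm_num)) (by norm_num) R
    simpa using this
  -- a non-identity element of `R`
  have hRnt : Nontrivial ↥(R : Subgroup G) := by
    rw [← Finite.one_lt_card_iff_nontrivial, hR]
    norm_num
  obtain ⟨d0, hd0⟩ := exists_ne (1 : ↥(R : Subgroup G))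
  have hd : (d0 : G) ∈ (R : Subgroup G) := d0.2
  have hd1 : (d0 : G) ≠ 1 := fun h => hd0 (Subtype.ext h)
  set d : G := (d0 : G) with hdd
  -- the class of `d` under `T` has at most 8 elements
  have hle : Nat.card {e : G // ∃ n ∈ T, e = n * d * n⁻¹} ≤ 8 := by
    have hinj : Function.Injective
        (fun e : {e : G // ∃ n ∈ T, e = n * d * n⁻¹} =>
          (⟨⟨e.1, by
            obtain ⟨n, hn, he⟩ := e.2
            rw [he]
            exact (Subgroup.mem_normalizer_iff.1 (hT hn) d).1 hd⟩, by
            obtain ⟨n, hn, he⟩ := e.2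
            intro h1
            have h2 : e.1 = 1 := congrArg Subtype.val h1
            rw [he] at h2
            apply hd1
            have h3 : d = n⁻¹ * (n * d * n⁻¹) * n := by group
            rw [h3, h2]
            group⟩ : {r : ↥(R : Subgroup G) // r ≠ 1})) := by
      intro e e' hee
      apply Subtype.ext
      have := congrArg (fun x : {r : ↥(R : Subgroup G) // r ≠ 1} => ((x : ↥(R : Subgroup G)) : G)) hee
      exact this
    have h1 := Nat.card_le_card_of_injective _ hinj
    have h2 : Nat.card {r : ↥(R : Subgroup G) // r ≠ 1} = 8 := by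
      have h3 : Nat.card {r : ↥(R : Subgroup G) // r ≠ 1} =
          (Set.univ \ {(1 : ↥(R : Subgroup G))} : Set ↥(R : Subgroup G)).ncard := by
        rw [← Nat.card_coe_set_eq]
        apply Nat.card_congr
        exact Equiv.subtypeEquivRight (fun r => by simp)
      rw [h3, Set.ncard_sdiff_singleton_of_mem (Set.mem_univ _), Set.ncard_univ, hR]
    omega
  have horb := u7920_orbit T d
  rw [hT16] at horb
  set K : Subgroup G := Subgroup.centralizer ({d} : Set G) ⊓ T with hK
  have hK2 : 2 ∣ Nat.card ↥K := by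
    have hdvd : Nat.card ↥K ∣ 16 := ⟨_, by rw [← horb, mul_comm]⟩
    have hpos : 0 < Nat.card {e : G // ∃ n ∈ T, e = n * d * n⁻¹} := by
      rcases Nat.eq_zero_or_pos (Nat.card {e : G // ∃ n ∈ T, e = n * d * n⁻¹}) with h0 | h0
      · rw [h0] at horb; omega
      · exact h0
    have hne1 : Nat.card ↥K ≠ 1 := by
      intro h1
      rw [h1] at horb
      omega
    have hdiv : Nat.card ↥K ∈ Nat.divisors 16 := Nat.mem_divisors.2 ⟨hdvd, by norm_num⟩
    have hdivs : Nat.divisors 16 = {1, 2, 4, 8, 16} := by decide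
    rw [hdivs] at hdiv
    simp only [Finset.mem_insert, Finset.mem_singleton] at hdiv
    rcases hdiv with h | h | h | h | h
    · exact absurd h hne1
    all_goals rw [h]
    all_goals norm_num
  obtain ⟨u, hu⟩ := exists_prime_orderOf_dvd_card' (G := ↥K) 2 hK2
  refine ⟨(u : G), u.2.2, ?_, d, hd, hd1, ?_⟩
  · rw [Subgroup.orderOf_coe]
    exact hu
  · have h5 : (u : G) ∈ Subgroup.centralizer ({d} : Set G) := u.2.1
    rw [Subgroup.mem_centralizer_iff] at h5
    exact (h5 d rfl).symm

end Cfsg.Agent.Helper51
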