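import Cfsg.Agent.Helper51.QdControl2
import Cfsg.Agent.Helper51.StrongAlperin4
import Cfsg.Agent.Helper11.QdLikeQd

set_option autoImplicit false

/-!
Helper51: ingredients for "N_G(Z(J(S))) controls fusion of elements when the normalizers of the
subgroups between Z(S) and S are SL(2,p)-free" (S3071):
* `SL(2,p)` is a section of `Qd(p)`; sections of a subgroup as concrete sections of the group;
* control of strong fusion by `N(Z(J(R)))` inside a `Qd(p)`-free subgroup `M` (from `qd_ctl`);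
* the centre of `X` lies in `Z(J(X))`;
* the conjugates inside `P` of a fully normalized centric subgroup contain `Z(P)`.
-/

namespace Cfsg.Agent.Helper51

open Subgroup
open Cfsg.Agent.Helper33 Cfsg.Agent.Helper11

universe u

section ZJFusA

local notation:max "cj[" g "]" H:max => Subgroup.map (MulEquiv.toMonoidHom (MulAut.conj g)) H

variable {G : Type u} [Group G]

/-- `SL(2,p)` is a section of `Qd(p)` (the block subgroup). -/
theorem zjf_sl2_section_qd (p : ℕ) [Fact p.Prime] :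
    Helper33.IsSectionOf ↥(Cfsg.qd p) (Matrix.SpecialLinearGroup (Fin 2) (ZMod p)) := by
  have hinj : Function.Injective (qdBlk p) := by
    rw [injective_iff_map_eq_one]
    intro A hA
    exact (qdTransl_mul_qdBlk_eq_one p 1 A (by rw [map_one, one_mul]; exact hA)).2
  exact ⟨(qdBlk p).range, (MonoidHom.ofInjective hinj).symm.toMonoidHom,
    (MonoidHom.ofInjective hinj).symm.surjective⟩

/-- A section of a subgroup `M` is isomorphic to a concrete section `H / K` with `H ≤ M`. -/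
theorem zjf_exists_concrete {X : Type*} [Group X] (M : Subgroup G)
    (h : Helper33.IsSectionOf ↥M X) :
    ∃ (H K : Subgroup G) (_ : (K.subgroupOf H).Normal), H ≤ M ∧
      Nonempty ((↥H ⧸ K.subgroupOf H) ≃* X) := by
  obtain ⟨K', f, hf⟩ := h
  obtain ⟨H, hH⟩ : ∃ H : Subgroup G, H = K'.map M.subtype := ⟨_, rfl⟩
  have hHM : H ≤ M := by rw [hH]; exact Subgroup.map_subtype_le _
  let e : ↥K' ≃* ↥H := (K'.equivMapOfInjective M.subtype M.subtype_injective).trans
    (MulEquiv.subgroupCongr hH.symm)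
  let f' : ↥H →* X := f.comp e.symm.toMonoidHom
  have hf' : Function.Surjective f' := hf.comp e.symm.surjective
  have hker : (f'.ker.map H.subtype).subgroupOf H = f'.ker :=
    Subgroup.comap_map_eq_self_of_injective (Subgroup.subtype_injective _) f'.ker
  have hR : ((f'.ker.map H.subtype).subgroupOf H).Normal := by
    rw [hker]; infer_instance
  exact ⟨H, f'.ker.map H.subtype, hR, hHM,
    ⟨(QuotientGroup.quotientMulEquivOfEq hker).trans
      (QuotientGroup.quotientKerEquivOfSurjective f' hf')⟩⟩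

/-- Glauberman's Theorem B inside a `Qd(p)`-free subgroup `M` with Sylow `p`-subgroup `R`:
`N_M(Z(J(R)))` controls strong fusion in `R` with respect to `M`. -/
theorem zjf_ctl_subgroup {p : ℕ} [Fact p.Prime] (hp2 : p ≠ 2) [Finite G]
    (M R : Subgroup G) (hqd : ¬ Helper33.IsSectionOf ↥M ↥(Cfsg.qd p))
    (hRM : R ≤ M) (hR : IsPGroup p R) (hidx : ¬ p ∣ R.relIndex M)
    (A : Set G) (hA : A ⊆ R) (g : G) (hg : g ∈ M) (hAg : ∀ a ∈ A, g * a * g⁻¹ ∈ R) :
    ∃ x ∈ M ⊓ Subgroup.normalizer ((Cfsg.centerThompsonAOf R : Subgroup G) : Set G),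
      ∀ a ∈ A, x * a * x⁻¹ = g * a * g⁻¹ := by
  rw [Helper11.centerThompsonAOf_eq_sInf]
  have hF := zjFam_comm.{u} p
  have hR' : IsPGroup p (R.subgroupOf M) := hR.comap_subtype
  have hidx' : ¬ p ∣ (R.subgroupOf M).index := hidx
  obtain ⟨P', hP'⟩ : ∃ P' : Sylow p ↥M, (P' : Subgroup ↥M) = R.subgroupOf M :=
    ⟨hR'.toSylow hidx', IsPGroup.toSylow_coe hR' hidx'⟩
  have hD' : IsStronglyClosed (R.subgroupOf M) (P' : Subgroup M) := by
    rw [hP']
    exact ⟨le_refl _, fun x _ y hy => hy⟩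
  have hctl := qd_ctl hF hp2 hqd P' (R.subgroupOf M) hD'
  obtain ⟨x, hx, hxA⟩ := hctl (M.subtype ⁻¹' A)
    (by
      intro a ha
      rw [hP']
      exact Subgroup.mem_subgroupOf.mpr (hA ha))
    ⟨g, hg⟩
    (by
      intro a ha
      rw [hP']
      apply Subgroup.mem_subgroupOf.mpr
      exact hAg _ ha)
  have h2 : (sInf (maxFamily (fun A : Subgroup M => IsMulCommutative A) (R.subgroupOf M)) :
      Subgroup M).map M.subtype =
      sInf (maxFamily (fun A : Subgroup G => IsMulCommutative A) R) := by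
    rw [hF.zj_map M.subtype (R.subgroupOf M)
      (fun x _ hx => M.subtype_injective (by rw [hx, map_one])),
      Subgroup.map_subgroupOf_eq_of_le hRM]
  refine ⟨(x : G), Subgroup.mem_inf.mpr ⟨x.2, ?_⟩, ?_⟩
  · rw [← h2]
    exact Subgroup.le_normalizer_map M.subtype ⟨x, hx, rfl⟩
  · intro a ha
    have h1 := hxA ⟨a, hRM (hA ha)⟩ ha
    exact congrArg Subtype.val h1

/-- The centre of `X` is contained in `Z(J(X))`. -/
theorem zjf_center_le [Finite G] (X : Subgroup G) :
    X ⊓ Subgroup.centralizer (X : Set G) ≤ Cfsg.centerThompsonAOf X := by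
  rw [Helper11.centerThompsonAOf_eq_sInf]
  intro z hz
  rw [Subgroup.mem_sInf]
  intro A hA
  obtain ⟨hAX, hAc, hAmax⟩ := hA
  have hzc : ∀ a ∈ A, a * z = z * a := fun a ha =>
    (Subgroup.mem_centralizer_iff.mp hz.2) a (hAX ha)
  have hc' : IsMulCommutative (Subgroup.closure ((A : Set G) ∪ {z})) :=
    isMulCommutative_closure_union_singleton A hAc z hzc
  have hle' : Subgroup.closure ((A : Set G) ∪ {z}) ≤ X := by
    rw [Subgroup.closure_le]
    rintro y (hy | hy)
    · exact hAX hy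
    · rw [Set.mem_singleton_iff] at hy
      rw [hy]
      exact hz.1
  have hAle : A ≤ Subgroup.closure ((A : Set G) ∪ {z}) := fun a ha =>
    Subgroup.subset_closure (Or.inl ha)
  have heq : A = Subgroup.closure ((A : Set G) ∪ {z}) :=
    Subgroup.eq_of_le_of_card_ge hAle (hAmax _ hle' hc')
  rw [heq]
  exact Subgroup.subset_closure (Or.inr rfl)

/-- If `H ≤ P` is fully normalized and centric, every conjugate of `H` inside `P` contains
`Z(P)`. -/
theorem zjf_cen_of_good [Finite G] {p : ℕ} [Fact p.Prime] (P : Sylow p G) (H : Subgroup G)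
    (hfn : ¬ p ∣ ((P : Subgroup G) ⊓ normalizer (H : Set G)).relIndex (normalizer (H : Set G)))
    (hcen : (P : Subgroup G) ⊓ centralizer (H : Set G) ≤ H) (w : G)
    (hw : cj[w] H ≤ (P : Subgroup G)) :
    (P : Subgroup G) ⊓ centralizer ((P : Subgroup G) : Set G) ≤ cj[w] H := by
  intro z hz
  obtain ⟨hzP, hzC⟩ := hz
  have hzH' : ∀ h ∈ cj[w] H, h * z = z * h := fun h hh =>
    (Subgroup.mem_centralizer_iff.mp hzC) h (hw hh)
  have hzN : z ∈ normalizer ((cj[w] H : Subgroup G) : Set G) := by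
    apply Subgroup.centralizer_le_normalizer
    rw [Subgroup.mem_centralizer_iff]
    exact hzH'
  have hQN : Subgroup.zpowers z ≤ normalizer ((cj[w] H : Subgroup G) : Set G) := by
    rw [Subgroup.zpowers_le]
    exact hzN
  have hQp : IsPGroup p (Subgroup.zpowers z) :=
    P.2.to_le (by rw [Subgroup.zpowers_le]; exact hzP)
  have hTle : cj[w] ((P : Subgroup G) ⊓ normalizer (H : Set G)) ≤
      normalizer ((cj[w] H : Subgroup G) : Set G) := by
    rw [normalizer_cj]
    exact cj_mono w inf_le_right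
  have hTp : IsPGroup p (cj[w] ((P : Subgroup G) ⊓ normalizer (H : Set G))) :=
    isPGroup_cj (P.2.to_le inf_le_left) w
  have hTidx : ¬ p ∣ (cj[w] ((P : Subgroup G) ⊓ normalizer (H : Set G))).relIndex
      (normalizer ((cj[w] H : Subgroup G) : Set G)) := by
    rw [normalizer_cj, relIndex_cj]
    exact hfn
  obtain ⟨y, hyN, hy⟩ := exists_cj_le_of_relIndex hTle hTp hTidx hQN hQp
  have h1 : y * z * y⁻¹ ∈ cj[w] ((P : Subgroup G) ⊓ normalizer (H : Set G)) :=
    hy (cj_mem_cj (Subgroup.mem_zpowers z))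
  have h2 : w⁻¹ * (y * z * y⁻¹) * w ∈ (P : Subgroup G) ⊓ normalizer (H : Set G) := mem_cj.mp h1
  have hyinv : y⁻¹ ∈ normalizer ((cj[w] H : Subgroup G) : Set G) := Subgroup.inv_mem _ hyN
  have h3 : w⁻¹ * (y * z * y⁻¹) * w ∈ centralizer (H : Set G) := by
    rw [Subgroup.mem_centralizer_iff]
    intro h hh
    have h4 : w * h * w⁻¹ ∈ cj[w] H := cj_mem_cj hh
    have h5 : y⁻¹ * (w * h * w⁻¹) * y⁻¹⁻¹ ∈ cj[w] H :=
      (Subgroup.mem_normalizer_iff.mp hyinv _).mp h4
    have h6 := hzH' _ h5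
    rw [inv_inv] at h6
    calc h * (w⁻¹ * (y * z * y⁻¹) * w)
        = w⁻¹ * y * (y⁻¹ * (w * h * w⁻¹) * y * z) * y⁻¹ * w := by group
      _ = w⁻¹ * y * (z * (y⁻¹ * (w * h * w⁻¹) * y)) * y⁻¹ * w := by rw [h6]
      _ = w⁻¹ * (y * z * y⁻¹) * w * h := by group
  have h7 : w⁻¹ * (y * z * y⁻¹) * w ∈ H := hcen ⟨h2.1, h3⟩
  have h8 : y * z * y⁻¹ ∈ cj[w] H := mem_cj.mpr h7
  have h9 := (Subgroup.mem_normalizer_iff.mp hyinv _).mp h8
  have e : y⁻¹ * (y * z * y⁻¹) * y⁻¹⁻¹ = z := by group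
  rw [e] at h9
  exact h9

end ZJFusA

end Cfsg.Agent.Helper51
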