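import Cfsg.Agent.Helper51.ZJFusA

set_option autoImplicit false

/-!
Helper51: `N_G(Z(J(P)))` controls strong fusion in `P` as soon as `N(Z(J(R)))` controls strong
fusion in `N_G(K)` (with respect to a Sylow `p`-subgroup `R` of it) for every `K` with
`Z(P) ≤ K ≤ P` (`zjf_main`).  Proof: the strong Alperin–Goldschmidt theorem (`rel_all`: chains through
fully normalized centric subgroups) and a tower argument, by downward induction on the order of
the centric subgroup.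
-/

namespace Cfsg.Agent.Helper51

open Subgroup
open Cfsg.Agent.Helper33 Cfsg.Agent.Helper11

universe u

section ZJFusB

local notation:max "cj[" g "]" H:max => Subgroup.map (MulEquiv.toMonoidHom (MulAut.conj g)) H

variable {G : Type u} [Group G]

/-- The conjugation by `g` on `A` is realised by an element of `N`. -/
def ZjfReal (N : Subgroup G) (A : Set G) (g : G) : Prop :=
  ∃ m ∈ N, ∀ a ∈ A, m * a * m⁻¹ = g * a * g⁻¹

theorem ZjfReal.mono {N : Subgroup G} {A B : Set G} {g : G} (h : ZjfReal N A g) (hBA : B ⊆ A) :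
    ZjfReal N B g := by
  obtain ⟨m, hm, hmA⟩ := h
  exact ⟨m, hm, fun b hb => hmA b (hBA hb)⟩

theorem ZjfReal.comp {N : Subgroup G} {A B : Set G} {g₁ g₂ : G} (h1 : ZjfReal N A g₁)
    (h2 : ZjfReal N B g₂) (hAB : ∀ a ∈ A, g₁ * a * g₁⁻¹ ∈ B) : ZjfReal N A (g₂ * g₁) := by
  obtain ⟨m₁, hm₁, h1A⟩ := h1
  obtain ⟨m₂, hm₂, h2B⟩ := h2
  refine ⟨m₂ * m₁, N.mul_mem hm₂ hm₁, fun a ha => ?_⟩
  have e1 := h1A a ha
  have e2 := h2B _ (hAB a ha)
  calc m₂ * m₁ * a * (m₂ * m₁)⁻¹ = m₂ * (m₁ * a * m₁⁻¹) * m₂⁻¹ := by group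
    _ = m₂ * (g₁ * a * g₁⁻¹) * m₂⁻¹ := by rw [e1]
    _ = g₂ * (g₁ * a * g₁⁻¹) * g₂⁻¹ := e2
    _ = g₂ * g₁ * a * (g₂ * g₁)⁻¹ := by group

/-- Fully normalized centric subgroups of `P`. -/
def ZjfGood (p : ℕ) (P H : Subgroup G) : Prop :=
  H ≤ P ∧ ¬ p ∣ (P ⊓ normalizer (H : Set G)).relIndex (normalizer (H : Set G)) ∧
    P ⊓ centralizer (H : Set G) ≤ H

/-- Along a pure chain, the total conjugation is realised by `N`, if all steps are. -/
theorem zjf_chain_real {p : ℕ} {P N : Subgroup G} (n : ℕ)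
    (hE : ∀ H : Subgroup G, ZjfGood p P H → n ≤ Nat.card H →
      ∀ x ∈ normalizer (H : Set G), ZjfReal N (H : Set G) x) :
    ∀ (l : List (Subgroup G × Subgroup G × G)) (A : Set G),
      (∀ H : Subgroup G, A ⊆ (H : Set G) → n ≤ Nat.card H) → PChain p P A l →
      ZjfReal N A (lprod l)⁻¹
  | [], A, _, _ => ⟨1, N.one_mem, fun a _ => by rw [lprod_nil]; group⟩
  | t :: l, A, hbig, h => by
    obtain ⟨hgood, hx, hAH, hrest⟩ := h
    have hxN : t.2.2 ∈ normalizer (t.1 : Set G) := hgood.mem_normalizer hx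
    have hg : ZjfGood p P t.1 := ⟨hgood.1, hgood.2.1, hgood.2.2.1⟩
    have h1 : ZjfReal N A t.2.2⁻¹ :=
      (hE t.1 hg (hbig t.1 hAH) t.2.2⁻¹ (Subgroup.inv_mem _ hxN)).mono hAH
    have hbig' : ∀ H : Subgroup G, conjSet t.2.2 A ⊆ (H : Set G) → n ≤ Nat.card H := by
      intro H hH
      have hA' : A ⊆ ((cj[t.2.2] H : Subgroup G) : Set G) := by
        intro a ha
        exact mem_cj.mpr (hH ⟨a, ha, rfl⟩)
      have := hbig _ hA'
      rwa [card_cj] at this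
    have h2 := zjf_chain_real n hE l (conjSet t.2.2 A) hbig' hrest
    have h3 : ZjfReal N A ((lprod l)⁻¹ * t.2.2⁻¹) := by
      refine h1.comp h2 (fun a ha => ?_)
      rw [inv_inv]
      exact ⟨a, ha, rfl⟩
    have e : (lprod (t :: l))⁻¹ = (lprod l)⁻¹ * t.2.2⁻¹ := by
      rw [lprod_cons, mul_inv_rev]
    rw [e]
    exact h3

/-- Control of strong fusion of "big" subsets of `P` by `N`, if `N` realises the normalizers
of the big fully normalized centric subgroups. -/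
theorem zjf_ctl_of_E [Finite G] {p : ℕ} [Fact p.Prime] (P : Sylow p G) (N : Subgroup G)
    (hNP : normalizer ((P : Subgroup G) : Set G) ≤ N) (n : ℕ)
    (hE : ∀ H : Subgroup G, ZjfGood p (P : Subgroup G) H → n ≤ Nat.card H →
      ∀ x ∈ normalizer (H : Set G), ZjfReal N (H : Set G) x)
    (A : Set G) (hA : A ⊆ ((P : Subgroup G) : Set G))
    (hbig : ∀ H : Subgroup G, A ⊆ (H : Set G) → n ≤ Nat.card H)
    (h : G) (hAh : ∀ a ∈ A, h * a * h⁻¹ ∈ (P : Subgroup G)) : ZjfReal N A h := by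
  obtain ⟨w, hw, hwQ⟩ := rel_all P (h⁻¹ • P)
  have hAsub : A ⊆ (((P : Subgroup G) ⊓ ((h⁻¹ • P : Sylow p G) : Subgroup G) : Subgroup G) :
      Set G) := by
    intro a ha
    refine ⟨hA ha, ?_⟩
    show a ∈ ((h⁻¹ • P : Sylow p G) : Subgroup G)
    rw [mem_smul_sylow, inv_inv]
    exact hAh a ha
  obtain ⟨c, hc, l, hl, hwcl⟩ := hw.mono hAsub
  have hy : w⁻¹ * h⁻¹ ∈ normalizer ((P : Subgroup G) : Set G) :=
    Sylow.smul_eq_iff_mem_normalizer.mp (by rw [mul_smul]; exact hwQ)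
  obtain ⟨m, hm, hmA⟩ := zjf_chain_real n hE l A hbig hl
  refine ⟨(w⁻¹ * h⁻¹)⁻¹ * m, N.mul_mem (N.inv_mem (hNP hy)) hm, fun a ha => ?_⟩
  have e1 := hmA a ha
  have hca : a * c = c * a := (Subgroup.mem_centralizer_iff.mp hc) a ha
  have hca' : c * a * c⁻¹ = a := by rw [← hca]; group
  calc (w⁻¹ * h⁻¹)⁻¹ * m * a * ((w⁻¹ * h⁻¹)⁻¹ * m)⁻¹
      = (w⁻¹ * h⁻¹)⁻¹ * (m * a * m⁻¹) * (w⁻¹ * h⁻¹) := by group
    _ = (w⁻¹ * h⁻¹)⁻¹ * ((lprod l)⁻¹ * a * (lprod l)⁻¹⁻¹) * (w⁻¹ * h⁻¹) := by rw [e1]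
    _ = h * (c * a * c⁻¹) * h⁻¹ := by rw [hwcl]; group
    _ = h * a * h⁻¹ := by rw [hca']

/-- The tower argument. -/
theorem zjf_tow [Finite G] {p : ℕ} [Fact p.Prime] (P : Sylow p G)
    (hloc : ∀ K R : Subgroup G,
      (P : Subgroup G) ⊓ centralizer ((P : Subgroup G) : Set G) ≤ K → K ≤ (P : Subgroup G) →
      R ≤ normalizer (K : Set G) → IsPGroup p R → ¬ p ∣ R.relIndex (normalizer (K : Set G)) →
      ∀ (B : Set G) (g : G), B ⊆ (R : Set G) → g ∈ normalizer (K : Set G) →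
        (∀ b ∈ B, g * b * g⁻¹ ∈ R) →
        ∃ x ∈ normalizer ((Cfsg.centerThompsonAOf R : Subgroup G) : Set G),
          ∀ b ∈ B, x * b * x⁻¹ = g * b * g⁻¹)
    (n : ℕ)
    (hctl : ∀ A : Set G, A ⊆ ((P : Subgroup G) : Set G) →
      (∀ H : Subgroup G, A ⊆ (H : Set G) → n + 1 ≤ Nat.card H) →
      ∀ h : G, (∀ a ∈ A, h * a * h⁻¹ ∈ (P : Subgroup G)) →
        ZjfReal (normalizer ((Cfsg.centerThompsonAOf (P : Subgroup G) : Subgroup G) : Set G)) A h) :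
    ∀ (k : ℕ) (T : Subgroup G), Nat.card (P : Subgroup G) - Nat.card T = k →
      T ≤ (P : Subgroup G) → n ≤ Nat.card T →
      (∀ w : G, cj[w] T ≤ (P : Subgroup G) →
        (P : Subgroup G) ⊓ centralizer ((P : Subgroup G) : Set G) ≤ cj[w] T) →
      ∀ (B : Set G) (m : G), B ⊆ (T : Set G) →
        m ∈ normalizer ((Cfsg.centerThompsonAOf T : Subgroup G) : Set G) →
        (∀ b ∈ B, m * b * m⁻¹ ∈ T) →
        ZjfReal (normalizer ((Cfsg.centerThompsonAOf (P : Subgroup G) : Subgroup G) : Set G))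
          B m := by
  intro k
  induction k using Nat.strong_induction_on with
  | _ k ih =>
  intro T hk hTP hnT hCen B m hBT hm hmB
  by_cases hTeq : T = (P : Subgroup G)
  · rw [hTeq] at hm
    exact ⟨m, hm, fun _ _ => rfl⟩
  -- the next level
  obtain ⟨K, hK⟩ : ∃ K : Subgroup G, K = Cfsg.centerThompsonAOf T := ⟨_, rfl⟩
  rw [← hK] at hm
  have hKT : K ≤ T := by rw [hK]; exact centerThompsonAOf_le T
  have hlt : T < (P : Subgroup G) ⊓ normalizer (T : Set G) := lt_inf_normalizer P.2 hTP hTeq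
  have hNN : normalizer (T : Set G) ≤ normalizer (K : Set G) := by
    rw [hK]; exact normalizer_le_normalizer_centerThompsonAOf T
  obtain ⟨T₂, hT₂⟩ : ∃ T₂ : Subgroup G, T₂ = (P : Subgroup G) ⊓ normalizer (K : Set G) :=
    ⟨_, rfl⟩
  have hTT₂ : T ≤ T₂ := by
    rw [hT₂]; exact hlt.le.trans (inf_le_inf le_rfl hNN)
  have hcardT₂ : Nat.card T < Nat.card T₂ := by
    have h1 := card_lt_card_of_lt hlt
    have h2 : Nat.card ↥((P : Subgroup G) ⊓ normalizer (T : Set G)) ≤ Nat.card T₂ := by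
      rw [hT₂]; exact Subgroup.card_le_of_le (inf_le_inf le_rfl hNN)
    omega
  have hT₂P : T₂ ≤ (P : Subgroup G) := by rw [hT₂]; exact inf_le_left
  have hT₂N : T₂ ≤ normalizer (K : Set G) := by rw [hT₂]; exact inf_le_right
  obtain ⟨R, hT₂R, hRN, hRp, hRidx⟩ := exists_le_relSylow hT₂N (P.2.to_le hT₂P)
  obtain ⟨w, hw⟩ := exists_cj_le_sylow P hRp
  -- realise `w` on `T₂`
  obtain ⟨mw, hmwN, hmw⟩ := hctl (T₂ : Set G) (SetLike.coe_subset_coe.mpr hT₂P)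
    (fun H hH => by
      have := Subgroup.card_le_of_le (SetLike.coe_subset_coe.mp hH)
      omega)
    w (fun a ha => hw (cj_mem_cj (hT₂R ha)))
  -- the conjugated configuration
  have hT'P : cj[w] T ≤ (P : Subgroup G) := (cj_mono w (hTT₂.trans hT₂R)).trans hw
  have hK' : cj[w] K = Cfsg.centerThompsonAOf (cj[w] T) := by
    rw [hK]
    exact map_centerThompsonAOf_eq (MulAut.conj w).toMonoidHom T (fun x _ hx => by
      have : (MulAut.conj w) x = 1 := hx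
      exact (MulEquiv.map_eq_one_iff _).mp this)
  have hZT' : (P : Subgroup G) ⊓ centralizer ((P : Subgroup G) : Set G) ≤ cj[w] T := hCen w hT'P
  have hZK' : (P : Subgroup G) ⊓ centralizer ((P : Subgroup G) : Set G) ≤ cj[w] K := by
    rw [hK']
    intro z hz
    apply zjf_center_le
    exact ⟨hZT' hz, Subgroup.centralizer_le (SetLike.coe_subset_coe.mpr hT'P) hz.2⟩
  have hK'P : cj[w] K ≤ (P : Subgroup G) := (cj_mono w hKT).trans hT'P
  have hR'N : cj[w] R ≤ normalizer ((cj[w] K : Subgroup G) : Set G) := by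
    rw [normalizer_cj]; exact cj_mono w hRN
  have hR'p : IsPGroup p (cj[w] R) := isPGroup_cj hRp w
  have hR'idx : ¬ p ∣ (cj[w] R).relIndex (normalizer ((cj[w] K : Subgroup G) : Set G)) := by
    rw [normalizer_cj, relIndex_cj]; exact hRidx
  have hKT₂ : K ≤ T₂ := hKT.trans hTT₂
  have hcjK : cj[mw] K = cj[w] K := by
    ext x
    constructor
    · rintro ⟨k, hk, rfl⟩
      exact ⟨k, hk, by
        show w * k * w⁻¹ = mw * k * mw⁻¹
        exact (hmw k (hKT₂ hk)).symm⟩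
    · rintro ⟨k, hk, rfl⟩
      exact ⟨k, hk, by
        show mw * k * mw⁻¹ = w * k * w⁻¹
        exact hmw k (hKT₂ hk)⟩
  have hmt : mw * m * mw⁻¹ ∈ normalizer ((cj[w] K : Subgroup G) : Set G) := by
    rw [← hcjK, normalizer_cj]
    exact cj_mem_cj hm
  have hB'R : (fun b => mw * b * mw⁻¹) '' B ⊆ ((cj[w] R : Subgroup G) : Set G) := by
    rintro _ ⟨b, hb, rfl⟩
    have hbT₂ : b ∈ T₂ := hTT₂ (hBT hb)
    show mw * b * mw⁻¹ ∈ cj[w] R
    rw [hmw b hbT₂]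
    exact cj_mem_cj (hT₂R hbT₂)
  have hmtB : ∀ b' ∈ (fun b => mw * b * mw⁻¹) '' B,
      mw * m * mw⁻¹ * b' * (mw * m * mw⁻¹)⁻¹ ∈ cj[w] R := by
    rintro _ ⟨b, hb, rfl⟩
    have h1 : m * b * m⁻¹ ∈ T₂ := hTT₂ (hmB b hb)
    have e : mw * m * mw⁻¹ * (mw * b * mw⁻¹) * (mw * m * mw⁻¹)⁻¹ =
        mw * (m * b * m⁻¹) * mw⁻¹ := by group
    rw [e, hmw _ h1]
    exact cj_mem_cj (hT₂R h1)
  obtain ⟨m₂, hm₂N, hm₂⟩ := hloc (cj[w] K) (cj[w] R) hZK' hK'P hR'N hR'p hR'idx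
    ((fun b => mw * b * mw⁻¹) '' B) (mw * m * mw⁻¹) hB'R hmt hmtB
  -- recursion
  have hcardR : Nat.card T₂ ≤ Nat.card (cj[w] R) := by
    rw [card_cj]; exact Subgroup.card_le_of_le hT₂R
  have hcardR' : Nat.card (cj[w] R) ≤ Nat.card (P : Subgroup G) := Subgroup.card_le_of_le hw
  have hCen' : ∀ u : G, cj[u] (cj[w] R) ≤ (P : Subgroup G) →
      (P : Subgroup G) ⊓ centralizer ((P : Subgroup G) : Set G) ≤ cj[u] (cj[w] R) := by
    intro u hu
    have h1 : cj[u * w] T ≤ cj[u] (cj[w] R) := by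
      rw [cj_mul]
      exact cj_mono u (cj_mono w (hTT₂.trans hT₂R))
    exact (hCen (u * w) (h1.trans hu)).trans h1
  obtain ⟨m', hm'N, hm'⟩ := ih (Nat.card (P : Subgroup G) - Nat.card (cj[w] R)) (by omega)
    (cj[w] R) rfl hw (by omega) hCen' ((fun b => mw * b * mw⁻¹) '' B) m₂ hB'R hm₂N
    (fun b' hb' => by rw [hm₂ b' hb']; exact hmtB b' hb')
  refine ⟨mw⁻¹ * m' * mw, Subgroup.mul_mem _ (Subgroup.mul_mem _ (Subgroup.inv_mem _ hmwN) hm'N)
    hmwN, fun b hb => ?_⟩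
  have hb' : mw * b * mw⁻¹ ∈ (fun b => mw * b * mw⁻¹) '' B := ⟨b, hb, rfl⟩
  have e1 := hm' _ hb'
  have e2 := hm₂ _ hb'
  calc mw⁻¹ * m' * mw * b * (mw⁻¹ * m' * mw)⁻¹
      = mw⁻¹ * (m' * (mw * b * mw⁻¹) * m'⁻¹) * mw := by group
    _ = mw⁻¹ * (mw * m * mw⁻¹ * (mw * b * mw⁻¹) * (mw * m * mw⁻¹)⁻¹) * mw := by rw [e1, e2]
    _ = m * b * m⁻¹ := by group

end ZJFusB

end Cfsg.Agent.Helper51
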