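import Cfsg.Agent.Helper51.ZJFusB

set_option autoImplicit false

/-!
Helper51: `zjf_main`: `N_G(Z(J(P)))` controls strong fusion in `P` when `N(Z(J(R)))` controls strong
fusion in `N_G(K)` for every `K` with `Z(P) ≤ K ≤ P`; `zjf_loc_of_sl2_free`: this local hypothesis
holds when these normalizers are `SL(2,p)`-free (`p` odd).
-/

namespace Cfsg.Agent.Helper51

open Subgroup
open Cfsg.Agent.Helper33 Cfsg.Agent.Helper11

universe u

section ZJFusC

local notation:max "cj[" g "]" H:max => Subgroup.map (MulEquiv.toMonoidHom (MulAut.conj g)) H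

variable {G : Type u} [Group G]

/-- `N_G(Z(J(P)))` realises the normalizers of all fully normalized centric subgroups. -/
theorem zjf_E_all [Finite G] {p : ℕ} [Fact p.Prime] (P : Sylow p G)
    (hloc : ∀ K R : Subgroup G,
      (P : Subgroup G) ⊓ centralizer ((P : Subgroup G) : Set G) ≤ K → K ≤ (P : Subgroup G) →
      R ≤ normalizer (K : Set G) → IsPGroup p R → ¬ p ∣ R.relIndex (normalizer (K : Set G)) →
      ∀ (B : Set G) (g : G), B ⊆ (R : Set G) → g ∈ normalizer (K : Set G) →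
        (∀ b ∈ B, g * b * g⁻¹ ∈ R) →
        ∃ x ∈ normalizer ((Cfsg.centerThompsonAOf R : Subgroup G) : Set G),
          ∀ b ∈ B, x * b * x⁻¹ = g * b * g⁻¹) :
    ∀ (j n : ℕ), Nat.card (P : Subgroup G) + 1 - n = j →
      ∀ H : Subgroup G, ZjfGood p (P : Subgroup G) H → n ≤ Nat.card H →
        ∀ x ∈ normalizer (H : Set G),
          ZjfReal (normalizer ((Cfsg.centerThompsonAOf (P : Subgroup G) : Subgroup G) : Set G))
            (H : Set G) x := by
  intro j
  induction j with
  | zero =>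
    intro n hn H hH hnH x hx
    have := Subgroup.card_le_of_le hH.1
    omega
  | succ j ih =>
    intro n hn H hH hnH x hx
    have hΦ := ih (n + 1) (by omega)
    by_cases hlt : n + 1 ≤ Nat.card H
    · exact hΦ H hH hlt x hx
    · have hctl : ∀ A : Set G, A ⊆ ((P : Subgroup G) : Set G) →
          (∀ H : Subgroup G, A ⊆ (H : Set G) → n + 1 ≤ Nat.card H) →
          ∀ h : G, (∀ a ∈ A, h * a * h⁻¹ ∈ (P : Subgroup G)) →
            ZjfReal (normalizer ((Cfsg.centerThompsonAOf (P : Subgroup G) : Subgroup G) : Set G))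
              A h :=
        fun A hA hbig h hAh => zjf_ctl_of_E P _
          (normalizer_le_normalizer_centerThompsonAOf _) (n + 1) hΦ A hA hbig h hAh
      obtain ⟨hHP, hfn, hcen⟩ := hH
      have hZH : (P : Subgroup G) ⊓ centralizer ((P : Subgroup G) : Set G) ≤ H := fun z hz =>
        hcen ⟨hz.1, Subgroup.centralizer_le (SetLike.coe_subset_coe.mpr hHP) hz.2⟩
      have hHT : H ≤ (P : Subgroup G) ⊓ normalizer (H : Set G) := le_inf hHP le_normalizer
      have hxH : ∀ b ∈ (H : Set G), x * b * x⁻¹ ∈ H := fun b hb =>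
        (Subgroup.mem_normalizer_iff.mp hx b).mp hb
      obtain ⟨m1, hm1N, hm1⟩ := hloc H ((P : Subgroup G) ⊓ normalizer (H : Set G)) hZH hHP
        inf_le_right (P.2.to_le inf_le_left) hfn (H : Set G) x
        (SetLike.coe_subset_coe.mpr hHT) hx (fun b hb => hHT (hxH b hb))
      have hCen : ∀ w : G, cj[w] ((P : Subgroup G) ⊓ normalizer (H : Set G)) ≤ (P : Subgroup G) →
          (P : Subgroup G) ⊓ centralizer ((P : Subgroup G) : Set G) ≤
            cj[w] ((P : Subgroup G) ⊓ normalizer (H : Set G)) := by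
        intro w hw
        have h1 : cj[w] H ≤ cj[w] ((P : Subgroup G) ⊓ normalizer (H : Set G)) := cj_mono w hHT
        exact (zjf_cen_of_good P H hfn hcen w (h1.trans hw)).trans h1
      have hcard : n ≤ Nat.card ↥((P : Subgroup G) ⊓ normalizer (H : Set G)) :=
        hnH.trans (Subgroup.card_le_of_le hHT)
      obtain ⟨m', hm', hm'A⟩ := zjf_tow P hloc n hctl _
        ((P : Subgroup G) ⊓ normalizer (H : Set G)) rfl inf_le_left hcard hCen (H : Set G) m1
        (SetLike.coe_subset_coe.mpr hHT) hm1N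
        (fun b hb => by rw [hm1 b hb]; exact hHT (hxH b hb))
      exact ⟨m', hm', fun a ha => (hm'A a ha).trans (hm1 a ha)⟩

/-- **Local-to-global control of strong fusion by `N(Z(J))` through the subgroups between `Z(P)`
and `P`.** -/
theorem zjf_main [Finite G] {p : ℕ} [Fact p.Prime] (P : Sylow p G)
    (hloc : ∀ K R : Subgroup G,
      (P : Subgroup G) ⊓ centralizer ((P : Subgroup G) : Set G) ≤ K → K ≤ (P : Subgroup G) →
      R ≤ normalizer (K : Set G) → IsPGroup p R → ¬ p ∣ R.relIndex (normalizer (K : Set G)) →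
      ∀ (B : Set G) (g : G), B ⊆ (R : Set G) → g ∈ normalizer (K : Set G) →
        (∀ b ∈ B, g * b * g⁻¹ ∈ R) →
        ∃ x ∈ normalizer ((Cfsg.centerThompsonAOf R : Subgroup G) : Set G),
          ∀ b ∈ B, x * b * x⁻¹ = g * b * g⁻¹)
    (A : Set G) (hA : A ⊆ ((P : Subgroup G) : Set G)) (h : G)
    (hAh : ∀ a ∈ A, h * a * h⁻¹ ∈ (P : Subgroup G)) :
    ZjfReal (normalizer ((Cfsg.centerThompsonAOf (P : Subgroup G) : Subgroup G) : Set G)) A h :=
  zjf_ctl_of_E P _ (normalizer_le_normalizer_centerThompsonAOf _) 0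
    (zjf_E_all P hloc _ 0 rfl) A hA (fun _ _ => Nat.zero_le _) h hAh

/-- The local hypothesis of `zjf_main` from `SL(2,p)`-freeness of the normalizers `N_G(K)`,
`Z(P) ≤ K ≤ P` (`p` odd; Glauberman's Theorem B). -/
theorem zjf_loc_of_sl2_free [Finite G] {p : ℕ} [Fact p.Prime] (hp : p ≠ 2) (P : Sylow p G)
    (hfree : ∀ K : Subgroup G,
      (P : Subgroup G) ⊓ centralizer ((P : Subgroup G) : Set G) ≤ K → K ≤ (P : Subgroup G) →
      ¬ ∃ (H K' : Subgroup G) (_ : (K'.subgroupOf H).Normal), H ≤ normalizer (K : Set G) ∧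
        Nonempty ((↥H ⧸ K'.subgroupOf H) ≃* Matrix.SpecialLinearGroup (Fin 2) (ZMod p))) :
    ∀ K R : Subgroup G,
      (P : Subgroup G) ⊓ centralizer ((P : Subgroup G) : Set G) ≤ K → K ≤ (P : Subgroup G) →
      R ≤ normalizer (K : Set G) → IsPGroup p R → ¬ p ∣ R.relIndex (normalizer (K : Set G)) →
      ∀ (B : Set G) (g : G), B ⊆ (R : Set G) → g ∈ normalizer (K : Set G) →
        (∀ b ∈ B, g * b * g⁻¹ ∈ R) →
        ∃ x ∈ normalizer ((Cfsg.centerThompsonAOf R : Subgroup G) : Set G),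
          ∀ b ∈ B, x * b * x⁻¹ = g * b * g⁻¹ := by
  intro K R hZK hKP hRN hRp hRidx B g hBR hg hgB
  have hqd : ¬ Helper33.IsSectionOf ↥(normalizer (K : Set G)) ↥(Cfsg.qd p) := by
    intro hsec
    exact hfree K hZK hKP (zjf_exists_concrete _ (hsec.trans (zjf_sl2_section_qd p)))
  obtain ⟨x, hx, hxB⟩ := zjf_ctl_subgroup hp _ R hqd hRN hRp hRidx B hBR g hg hgB
  exact ⟨x, hx.2, hxB⟩

end ZJFusC

end Cfsg.Agent.Helper51
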